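import Cfsg.Agent.S0158
import Cfsg.Agent.Characters.Core
set_option linter.all false

/-!
# Frobenius-Schur indicators and restriction

If `χ` is a real irreducible character of `G`, `ψ` an irreducible character of a subgroup `H` with
indicator `1` and `[χ_H, ψ] = 1`, then `χ` has indicator `1`.
-/

set_option autoImplicit false
set_option linter.unusedSectionVars false
set_option linter.style.haveILetI false
set_option linter.unusedVariables false

namespace Cfsg.Agent.H705.Indicator

open Cfsg Representation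
open scoped ComplexConjugate

section rep

variable {G : Type*} [Group G] [Fintype G] {H : Type*} [Group H] [Fintype H]
  {V : Type*} [AddCommGroup V] [Module ℂ V] [FiniteDimensional ℂ V]
  {W : Type*} [AddCommGroup W] [Module ℂ W] [FiniteDimensional ℂ W]

/-- An injective intertwining map has an equivariant left inverse. -/
theorem exists_retraction (τ : Representation ℂ H V) (σ : Representation ℂ H W)
    (i : IntertwiningMap σ τ) (hi : Function.Injective i) :
    ∃ p : IntertwiningMap τ σ, ∀ w, p (i w) = w := by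
  classical
  have hH : (Fintype.card H : ℂ) ≠ 0 := by
    exact_mod_cast Fintype.card_ne_zero
  obtain ⟨p₀, hp₀⟩ := i.toLinearMap.exists_leftInverse_of_injective
    (LinearMap.ker_eq_bot.2 hi)
  have hp₀' : ∀ w, p₀ (i w) = w := fun w => LinearMap.congr_fun hp₀ w
  let p₁ : V →ₗ[ℂ] W := (Fintype.card H : ℂ)⁻¹ • ∑ h : H, (σ h) ∘ₗ p₀ ∘ₗ (τ h⁻¹)
  have hp₁ : ∀ v, p₁ v = (Fintype.card H : ℂ)⁻¹ • ∑ h : H, σ h (p₀ (τ h⁻¹ v)) := by
    intro v
    simp only [p₁, LinearMap.smul_apply, LinearMap.sum_apply, LinearMap.comp_apply]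
  refine ⟨LinearMap.intertwiningMap_of_isIntertwiningMap τ σ p₁ ?_, ?_⟩
  · intro k v
    rw [hp₁, hp₁, map_smul, map_sum]
    congr 1
    refine Fintype.sum_equiv (Equiv.mulLeft k⁻¹) _ _ fun h => ?_
    simp only [Equiv.coe_mulLeft, mul_inv_rev, inv_inv, map_mul, Module.End.mul_apply]
    rw [← Module.End.mul_apply (σ k) (σ k⁻¹), ← map_mul, mul_inv_cancel, map_one,
      Module.End.one_apply]
  · intro w
    show p₁ (i w) = w
    rw [hp₁]
    have h1 : ∀ h : H, σ h (p₀ (τ h⁻¹ (i w))) = w := by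
      intro h
      have h2 : τ h⁻¹ (i w) = i (σ h⁻¹ w) := (i.isIntertwining σ τ h⁻¹ w).symm
      rw [h2, hp₀', ← Module.End.mul_apply, ← map_mul, mul_inv_cancel, map_one,
        Module.End.one_apply]
    rw [Finset.sum_congr rfl fun h _ => h1 h, Finset.sum_const, Finset.card_univ,
      ← Nat.cast_smul_eq_nsmul ℂ, smul_smul, inv_mul_cancel₀ hH, one_smul]

/-- The sign of an irreducible representation agrees with the sign of a constituent of
multiplicity one of its restriction. -/
theorem sign_restrict (f : H →* G) (ρ : Representation ℂ G V) (σ : Representation ℂ H W)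
    [ρ.IsIrreducible] [σ.IsIrreducible]
    (hmult : Module.finrank ℂ (IntertwiningMap (ρ.comp f) σ) = 1)
    (f₀ : IntertwiningMap ρ ρ.dual) (hf₀ : f₀ ≠ 0)
    (B : IntertwiningMap σ σ.dual) (hB : B ≠ 0) (hsymm : ∀ v w, B v w = B w v)
    (i : IntertwiningMap σ (ρ.comp f)) (hi : i ≠ 0) :
    ∃ v w : V, f₀ v w ≠ 0 ∧ f₀ v w = f₀ w v := by
  have hinj : Function.Injective i := (IsIrreducible.injective_or_eq_zero i).resolve_right hi
  obtain ⟨p, hp⟩ := exists_retraction (ρ.comp f) σ i hinj
  have hf₀b := Cfsg.Agent.S0158.bijective_of_ne_zero ρ f₀ hf₀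
  have hBb := Cfsg.Agent.S0158.bijective_of_ne_zero σ B hB
  have hsw : ∀ (g : G) (v w : V), f₀ (ρ g v) (ρ g w) = f₀ v w :=
    fun g v w => Cfsg.Agent.S0158.dual_swap ρ f₀ g v w
  -- the map `v ↦ (w ↦ f₀ v (i w))`
  let q : IntertwiningMap (ρ.comp f) σ.dual :=
    LinearMap.intertwiningMap_of_isIntertwiningMap (ρ.comp f) σ.dual
      (LinearMap.compl₂ (show V →ₗ[ℂ] V →ₗ[ℂ] ℂ from f₀.toLinearMap) i.toLinearMap) (by
        intro h v
        ext w
        simp only [Representation.dual_apply, Module.Dual.transpose_apply, LinearMap.coe_comp,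
          Function.comp_apply, LinearMap.compl₂_apply]
        have h1 := hsw (f h) v (i (σ h⁻¹ w))
        have h2 : i (σ h⁻¹ w) = ρ (f h⁻¹) (i w) := i.isIntertwining σ (ρ.comp f) h⁻¹ w
        have h3 : ρ (f h) (i (σ h⁻¹ w)) = i w := by
          rw [h2, ← Module.End.mul_apply, ← map_mul, ← map_mul, mul_inv_cancel, map_one, map_one,
            Module.End.one_apply]
        rw [h3] at h1
        exact h1)
  have hq : ∀ v w, q v w = f₀ v (i w) := fun _ _ => rfl
  let e := B.ofBijective hBb
  have hp0 : p ≠ 0 := by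
    intro h0
    obtain ⟨w, hw⟩ : ∃ w : W, w ≠ 0 := by
      by_contra hcon
      push Not at hcon
      apply hB
      apply IntertwiningMap.ext
      apply LinearMap.ext
      intro v
      rw [hcon v]
      exact (map_zero B.toLinearMap)
    have h1 := hp w
    rw [h0] at h1
    exact hw h1.symm
  obtain ⟨c, hc⟩ := (finrank_eq_one_iff_of_nonzero' p hp0).1 hmult (e.symm.toIntertwiningMap.comp q)
  have hqc : ∀ v w, f₀ v (i w) = c * B (p v) w := by
    intro v w
    have h1 : e.symm (q v) = c • p v := by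
      have := congrArg (fun k : IntertwiningMap (ρ.comp f) σ => k v) hc
      simpa using this.symm
    have h2 : e (e.symm (q v)) = q v := Representation.Equiv.apply_symm_apply e (q v)
    rw [h1] at h2
    have h3 : e (c • p v) = c • B (p v) := by
      show B (c • p v) = c • B (p v)
      exact map_smul B c (p v)
    rw [h3] at h2
    rw [← hq v w, ← h2]
    rfl
  obtain ⟨w, w', hww⟩ : ∃ w w' : W, B w w' ≠ 0 := by
    by_contra hcon
    push Not at hcon
    apply hB
    apply IntertwiningMap.ext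
    apply LinearMap.ext
    intro v
    apply LinearMap.ext
    intro w
    exact hcon v w
  have hc0 : c ≠ 0 := by
    rintro rfl
    have hw' : w' ≠ 0 := by
      rintro rfl
      exact hww (map_zero (B w))
    have hiw : i w' ≠ 0 := fun h0 => hw' (hinj (by rw [h0]; exact (map_zero i.toLinearMap).symm))
    refine hiw ((Module.forall_dual_apply_eq_zero_iff ℂ (i w')).1 fun φ => ?_)
    obtain ⟨v, rfl⟩ := hf₀b.2 φ
    rw [hqc, zero_mul]
  refine ⟨i w, i w', ?_, ?_⟩
  · rw [hqc, hp]
    exact mul_ne_zero hc0 hww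
  · rw [hqc, hqc, hp, hp, hsymm]

end rep

section char

variable {G : Type*} [Group G] [Fintype G] {H : Type*} [Group H] [Fintype H]

theorem classInner_eq_sum {φ ψ : H → ℂ} :
    classInner φ ψ = (Nat.card H : ℂ)⁻¹ * ∑ g : H, φ g * conj (ψ g) := rfl

/-- The dimension of the space of invariant bilinear forms. -/
theorem finrank_dual {n : ℕ} (ρ : Representation ℂ G (Fin n → ℂ)) :
    (Nat.card G : ℂ)⁻¹ * ∑ s : G, ρ.character s * ρ.character s
      = (Module.finrank ℂ (IntertwiningMap ρ ρ.dual) : ℂ) := by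
  haveI : Invertible (Nat.card G : ℂ) := invertibleOfNonzero (by
    exact_mod_cast Nat.card_pos.ne')
  rw [← card_inv_mul_sum_char_mul_char_eq_finrank ρ ρ.dual]
  congr 1
  refine Fintype.sum_equiv (Equiv.inv G) _ _ (fun s => ?_)
  simp only [Equiv.inv_apply, char_dual, inv_inv]

theorem indicator_eq {n : ℕ} (ρ : Representation ℂ G (Fin n → ℂ)) [ρ.IsIrreducible] :
    ∃ ε : ℂ, (ε = 1 ∨ ε = -1) ∧ (∀ (f : IntertwiningMap ρ ρ.dual) (v w : Fin n → ℂ),
      f v w = ε * f w v) ∧ (Nat.card G : ℂ)⁻¹ * ∑ s : G, ρ.character (s * s) =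
        ε * (Module.finrank ℂ (IntertwiningMap ρ ρ.dual) : ℂ) := by
  obtain ⟨ε, hε, h⟩ := Cfsg.Agent.S0158.exists_sign ρ
  refine ⟨ε, hε, h, ?_⟩
  rw [Cfsg.Agent.S0158.sum_sq ρ ε h, ← finrank_dual]
  ring

theorem exists_ne_zero {n : ℕ} {V W : Type*} [AddCommGroup V] [Module ℂ V]
    [AddCommGroup W] [Module ℂ W] {ρ : Representation ℂ G V} {σ : Representation ℂ G W}
    (h : Module.finrank ℂ (IntertwiningMap ρ σ) ≠ 0) : ∃ f : IntertwiningMap ρ σ, f ≠ 0 := by
  by_contra hcon
  push Not at hcon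
  apply h
  haveI : Subsingleton (IntertwiningMap ρ σ) := ⟨fun a b => by rw [hcon a, hcon b]⟩
  exact Module.finrank_zero_of_subsingleton

/-- **Indicators and restriction.** A real irreducible character whose restriction contains with
multiplicity one an irreducible character of indicator one has indicator one. -/
theorem indicator_restrict (f : H →* G) {χ : G → ℂ} (hχ : IsIrrCharacter G χ)
    (hreal : ∀ g, (χ g).im = 0) {ψ : H → ℂ} (hψ : IsIrrCharacter H ψ)
    (hν : (Nat.card H : ℂ)⁻¹ * ∑ s : H, ψ (s * s) = 1)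
    (hmult : classInner (fun h => χ (f h)) ψ = 1) :
    (Nat.card G : ℂ)⁻¹ * ∑ s : G, χ (s * s) = 1 := by
  classical
  haveI : Invertible (Nat.card G : ℂ) := invertibleOfNonzero (by
    exact_mod_cast Nat.card_pos.ne')
  haveI : Invertible (Nat.card H : ℂ) := invertibleOfNonzero (by
    exact_mod_cast Nat.card_pos.ne')
  obtain ⟨n, ρ, hρ, rfl⟩ := hχ
  obtain ⟨m, σ, hσ, rfl⟩ := hψ
  obtain ⟨ε, hε, hε1, hε2⟩ := indicator_eq ρ
  obtain ⟨δ, hδ, hδ1, hδ2⟩ := indicator_eq σ
  rw [hν] at hδ2
  have hδ3 : Module.finrank ℂ (IntertwiningMap σ σ.dual) ≠ 0 := by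
    intro h0
    rw [h0] at hδ2
    simp at hδ2
  have hδ4 : δ = 1 := by
    rcases hδ with h | h
    · exact h
    · exfalso
      rw [h] at hδ2
      have h1 : (0 : ℝ) ≤ (Module.finrank ℂ (IntertwiningMap σ σ.dual) : ℝ) := Nat.cast_nonneg _
      have h2 := congrArg Complex.re hδ2
      simp at h2
      linarith
  subst hδ4
  obtain ⟨B, hB⟩ := exists_ne_zero (n := m) hδ3
  have hBs : ∀ v w, B v w = B w v := fun v w => by
    have := hδ1 B v w
    rwa [one_mul] at this
  have hinvρ : ∀ g : G, ρ.character g⁻¹ = ρ.character g := by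
    intro g
    rw [Cfsg.Agent.S0158.char_inv]
    exact Complex.conj_eq_iff_im.2 (hreal g)
  have hself : (Nat.card G : ℂ)⁻¹ * ∑ g : G, ρ.character g * ρ.character g⁻¹ = 1 := by
    rw [card_inv_mul_sum_char_mul_char_eq_finrank ρ ρ]
    simp
  have hrank : (Module.finrank ℂ (IntertwiningMap ρ ρ.dual) : ℂ) = 1 := by
    rw [← finrank_dual, ← hself]
    simp only [hinvρ]
  rw [hrank, mul_one] at hε2
  obtain ⟨f₀, hf₀⟩ := exists_ne_zero (n := n) (ρ := ρ) (σ := ρ.dual) (by
    intro h0
    rw [h0] at hrank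
    simp at hrank)
  have hm1 : Module.finrank ℂ (IntertwiningMap σ (ρ.comp f)) = 1 := by
    have h1 := card_inv_mul_sum_char_mul_char_eq_finrank (k := ℂ) σ (ρ.comp f)
    have h2 : (Nat.card H : ℂ)⁻¹ * ∑ g : H, Representation.character (ρ.comp f) g * σ.character g⁻¹ = 1 := by
      rw [← hmult, classInner_eq_sum]
      congr 1
      refine Finset.sum_congr rfl fun g _ => ?_
      rw [Cfsg.Agent.S0158.char_inv]
      rfl
    rw [h2] at h1
    exact_mod_cast h1.symm
  have hm2 : Module.finrank ℂ (IntertwiningMap (ρ.comp f) σ) = 1 := by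
    have h1 := card_inv_mul_sum_char_mul_char_eq_finrank (k := ℂ) (ρ.comp f) σ
    have h2 : (Nat.card H : ℂ)⁻¹ * ∑ g : H, σ.character g * Representation.character (ρ.comp f) g⁻¹ = 1 := by
      rw [← map_one (starRingEnd ℂ), ← hmult, classInner_eq_sum, map_mul, map_inv₀,
        Complex.conj_natCast, map_sum]
      congr 1
      refine Finset.sum_congr rfl fun g _ => ?_
      rw [Cfsg.Agent.S0158.char_inv, map_mul, Complex.conj_conj, mul_comm]
      rfl
    rw [h2] at h1
    exact_mod_cast h1.symm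
  obtain ⟨i, hi⟩ := exists_ne_zero (n := m) (ρ := σ) (σ := ρ.comp f) (by rw [hm1]; norm_num)
  obtain ⟨v, w, hvw, hs⟩ := sign_restrict f ρ σ hm2 f₀ hf₀ B hB hBs i hi
  rw [hε2]
  rcases hε with h | h
  · exact h
  · exfalso
    have h1 := hε1 f₀ v w
    rw [h, ← hs] at h1
    apply hvw
    linear_combination h1 / 2

end char

end Cfsg.Agent.H705.Indicator
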