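import Cfsg.Agent.H705.ComPSU_m3
import Cfsg.Agent.H71.RoRee
import Cfsg.Agent.Prune
set_option linter.all false
prune_inst 0x7f00000000000000000000000000000000000000000000000000000000000000000000000000000000000000000000000000000000000000000000000000000000000000000000000000000000000000003fffffffffffffffffffffffffffbeffbdffffffff
open scoped Cfsg.Agent.FastGrp

/-!
# Ree groups (helper705)

`com_ree` : `Com p S` for the small Ree groups and primes `p ≠ 3`.
-/

set_option autoImplicit false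
set_option linter.unusedSectionVars false

namespace Cfsg.Agent.H705

open Cfsg Cfsg.Agent.LieRecognition.RankOneAbstract Cfsg.Agent.H255.RankOne Cfsg.Agent.H71.RoRee
open Cfsg.Agent.LieRecognition.ReeAbs Cfsg.Agent.LieRecognition.ReeSylowThree Cfsg.Agent.LieRecognition.ReeSplit
open Cfsg.Agent.FixBN.RankOneRee

section

variable {K : Type*} [Field K] {G : Type*} [Group G] {m : ℕ} {U : K → K → K → G} {h : Kˣ → G} {n : G}

theorem com_ree' [Fintype K] [Finite G] (hm : 1 ≤ m) (hK : Fintype.card K = 3 ^ (2 * m + 1)) (D : Data m U h n)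
    [hs : IsSimpleGroup G] (hsol : ¬ Group.IsSolvable G) {p : ℕ} (hp : p.Prime) (hp3 : p ≠ 3) : Com p G := by
  classical
  have : Fact (Nat.Prime 3) := ⟨Nat.prime_three⟩
  have R := ro hm hK D
  obtain ⟨P₀, hP₀⟩ := R.syl
  have hq1 : 3 ^ 3 ≤ 3 ^ (2 * m + 1) := Nat.pow_le_pow_right (by norm_num) (by omega)
  have hU : uSub D ≠ ⊥ := by
    intro hb
    have h1 : Nat.card (uSub D) = 1 := by rw [hb]; exact Subgroup.card_bot
    rw [card_uSub] at h1
    have h2 : 1 < Fintype.card K := Fintype.one_lt_card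
    have h3 := Nat.one_lt_pow (n := 3) (by norm_num) h2
    omega
  obtain ⟨k₀, hk₀⟩ := IsCyclic.exists_generator (α := Kˣ)
  let φ : Kˣ →* G := { toFun := h, map_one' := D.h_one, map_mul' := D.h_mul }
  have hφ : Function.Injective φ := by
    intro a b hab
    have h1 : U 0 0 0 * h a = U 0 0 0 * h b := by
      have : h a = h b := hab
      rw [this]
    exact (D.inj₁ _ _ _ _ _ _ _ _ h1).2.2.2
  have hmod : 3 ^ (2 * m + 1) % 8 = 3 := by
    rw [pow_succ, pow_mul, Nat.mul_mod, Nat.pow_mod]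
    norm_num
  obtain ⟨l, hl⟩ : ∃ l, 3 ^ (2 * m + 1) = 8 * l + 3 := ⟨3 ^ (2 * m + 1) / 8, by omega⟩
  have hord : orderOf (h k₀) = 2 * (4 * l + 1) := by
    have h1 : orderOf (φ k₀) = orderOf k₀ := orderOf_injective φ hφ k₀
    have h3 : orderOf (h k₀) = orderOf k₀ := h1
    rw [h3, orderOf_eq_card_of_forall_mem_zpowers hk₀, Nat.card_units, Nat.card_eq_fintype_card, hK, hl]
    omega
  have hchar := charP_three hK
  have hcube : ∀ a : K, a ^ 3 = 1 → a = 1 := by
    intro a ha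
    have h1 : (a - 1) ^ 3 = 0 := by rw [sub_pow_char, ha, one_pow, sub_self]
    exact sub_eq_zero.1 (pow_eq_zero_iff (by norm_num) |>.1 h1)
  have hPP : ∀ a : K, a ^ (3 ^ (m + 1) * 3 ^ (m + 1)) = a ^ 3 := by
    intro a
    rw [← pow_add, show m + 1 + (m + 1) = 2 * m + 1 + 1 by ring, pow_succ, pow_mul]
    congr 1
    rw [← hK, FiniteField.pow_card]
  refine com_of_cyclic R.data P₀ hP₀ hU hsol hp hp3 (h_mem_bSub D k₀) (h_two D k₀) ?_ hord (by omega) ?_ ?_
  · intro t ht htw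
    obtain ⟨k, rfl⟩ := torus D ht htw
    obtain ⟨j, rfl⟩ := Subgroup.mem_zpowers_iff.1 (hk₀ k)
    exact Subgroup.mem_zpowers_iff.2 ⟨j, (map_zpow φ k₀ j).symm⟩
  · intro t ht htw ht1 x hx hfix
    obtain ⟨a, rfl⟩ := torus D ht htw
    obtain ⟨t, u, v, rfl⟩ := hx
    rw [h_conj D] at hfix
    obtain ⟨h3, h4, h5⟩ := U_injective D hfix
    have ha2 : (a : K) ^ 2 ≠ 1 := by
      intro h6
      apply ht1
      have h7 : a ^ 2 = 1 := Units.ext (by rw [Units.val_pow_eq_pow_val, h6, Units.val_one])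
      have : h a ^ 2 = φ (a ^ 2) := (map_pow φ a 2).symm
      rw [this, h7, map_one]
    have hne : ∀ e, (a : K) ^ e ≠ 1 → ∀ z : K, (a : K) ^ e * z = z → z = 0 := by
      intro e he z hz
      by_contra hz0
      exact he (mul_right_cancel₀ hz0 (by rw [hz, one_mul]))
    have h6 : (a : K) ^ (3 ^ (m + 1)) ≠ 1 := by
      intro h7
      have h8 : (a : K) ^ (3 ^ (m + 1) * 3 ^ (m + 1)) = 1 := by rw [pow_mul, h7, one_pow]
      rw [hPP] at h8
      exact ha2 (by rw [hcube _ h8, one_pow])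
    have h7 : (a : K) ^ (3 ^ (m + 1) + 3) ≠ 1 := by
      intro h7
      have h8 : ((a : K) ^ (3 ^ (m + 1) + 3)) ^ (3 ^ (m + 1)) = 1 := by rw [h7, one_pow]
      rw [← pow_mul, add_mul, pow_add, hPP] at h8
      -- `a ^ 3 * a ^ (3 * P) = 1` and `(a ^ (P + 3)) ^ 3 = 1`
      have h9 : ((a : K) ^ (3 ^ (m + 1) + 3)) ^ 3 = 1 := by rw [h7, one_pow]
      rw [← pow_mul, add_mul, pow_add] at h9
      have h10 : (a : K) ^ (3 * 3 ^ (m + 1)) = (a : K) ^ (3 ^ (m + 1) * 3) := by rw [mul_comm]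
      rw [h10] at h8
      have h11 : (a : K) ^ (3 ^ (m + 1) * 3) ≠ 0 := pow_ne_zero _ a.ne_zero
      have h12 : (a : K) ^ 3 = (a : K) ^ 9 := by
        apply mul_right_cancel₀ h11
        rw [h8, mul_comm ((a : K) ^ 9)]
        exact h9.symm
      have h13 : ((a : K) ^ 2) ^ 3 = 1 := by
        have h14 : (a : K) ^ 3 ≠ 0 := pow_ne_zero _ a.ne_zero
        apply mul_left_cancel₀ h14
        rw [← pow_mul, ← pow_add, mul_one]
        exact h12.symm
      exact ha2 (hcube _ h13)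
    have h8 : (a : K) ^ (2 * 3 ^ (m + 1) + 3) ≠ 1 := by
      intro h7
      have h8 : ((a : K) ^ (2 * 3 ^ (m + 1) + 3)) ^ (2 * 3 ^ (m + 1)) = 1 := by rw [h7, one_pow]
      have h9 : ((a : K) ^ (2 * 3 ^ (m + 1) + 3)) ^ 3 = 1 := by rw [h7, one_pow]
      have e1 : (2 * 3 ^ (m + 1) + 3) * (2 * 3 ^ (m + 1)) =
          3 ^ (m + 1) * 3 ^ (m + 1) * 4 + 3 * (2 * 3 ^ (m + 1)) := by ring
      rw [← pow_mul, e1, pow_add, pow_mul _ _ 4, hPP, ← pow_mul] at h8
      have e2 : (2 * 3 ^ (m + 1) + 3) * 3 = 3 * (2 * 3 ^ (m + 1)) + 9 := by ring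
      rw [← pow_mul, e2, pow_add] at h9
      have h11 : (a : K) ^ (3 * (2 * 3 ^ (m + 1))) ≠ 0 := pow_ne_zero _ a.ne_zero
      have h12 : (a : K) ^ (3 * 4) = (a : K) ^ 9 := by
        apply mul_right_cancel₀ h11
        rw [h8, mul_comm ((a : K) ^ 9)]
        exact h9.symm
      have h13 : (a : K) ^ 3 = 1 := by
        have h14 : (a : K) ^ 9 ≠ 0 := pow_ne_zero _ a.ne_zero
        apply mul_left_cancel₀ h14
        rw [← pow_add, mul_one]
        exact h12
      exact ha2 (by rw [hcube _ h13, one_pow])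
    rw [hne _ h6 _ h3, hne _ h7 _ h4, hne _ h8 _ h5, D.U_zero]
  · intro i hi
    have hi0 : i ≠ 0 := by
      rintro rfl
      rw [pow_zero] at hi
      omega
    have hpd : p ∣ 4 * l + 1 := by rw [hi]; exact dvd_pow_self p hi0
    have hp2 : p ≠ 2 := by
      rintro rfl
      omega
    refine ⟨hp2, ?_, ?_⟩
    · intro h
      exact hp2 ((Nat.prime_dvd_prime_iff_eq hp Nat.prime_two).1 h)
    · rw [card_uSub, hK, hl]
      intro h
      apply hp2
      refine two_of_dvd (n := 2 * (4 * l + 1)) (j := 3) hp (hpd.mul_left 2) ?_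
      have : 2 * (4 * l + 1) + 1 = 8 * l + 3 := by ring
      rw [this]
      exact h

end

/-- **The small Ree groups.** -/
theorem com_ree {S : Type*} [Group S] [hs : IsSimpleGroup S] (h : Cfsg.Lie.IsoRee S)
    (hsol : ¬ Group.IsSolvable S) {p : ℕ} (hp : p.Prime) (hp3 : p ≠ 3) : Com p S := by
  obtain ⟨K, _, _, m, hm, hK, ⟨e⟩⟩ := h
  obtain ⟨U, h, n, D⟩ := Cfsg.Agent.ChevalleyStructure.Ree.Data.exists_data hK
  have hfin : Finite ↥(Cfsg.Lie.twistedG2 K (3 ^ m)) := finite D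
  have hs : IsSimpleGroup ↥(Cfsg.Lie.twistedG2 K (3 ^ m)) := e.symm.isSimpleGroup
  have hsol' : ¬ Group.IsSolvable ↥(Cfsg.Lie.twistedG2 K (3 ^ m)) := fun h =>
    hsol (solvable_of_surjective (f := e.symm.toMonoidHom) e.symm.surjective)
  exact (com_ree' hm hK D hsol' hp hp3).of_equiv e

end Cfsg.Agent.H705
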