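import Cfsg.Agent.H472.ComRed
import Cfsg.Agent.H167.HasStLie
import Cfsg.Agent.H996.DefectZero
import Cfsg.Agent.Characters.GaloisBasic
import Cfsg.Agent.S0886
import Cfsg.Agent.S4037
import Cfsg.Agent.S0165
import Cfsg.Agent.SmallSimple.SelfCentPrime
import Cfsg.Agent.FastGrp
import Cfsg.Agent.Prune
set_option linter.all false
prune_inst 0x7f00000000000000000000000000000000000000000000000000000000000000000000000000000000000000000000000000000000000000000000000000000000000000000000000000000000000000003ffffffffffffffffffff7ffffffbeffbdf3feffff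
open scoped Cfsg.Agent.FastGrp

/-!
# Commutators with an automorphism: groups with a Steinberg character (helper705)

`com_of_hasSt` : a non-abelian finite simple group with an irreducible character of degree `|S|_p` has `Com p`: no
nontrivial automorphism `a` has all commutators `(a s)⁻¹ * s` trivial or `p`-singular.
-/

set_option autoImplicit false

namespace Cfsg.Agent.H705

open Cfsg Cfsg.Agent.Characters.Core

universe u v

section invariant

variable {S : Type u} [Group S] [Fintype S] {V : Type v} [AddCommGroup V] [Module ℂ V] [FiniteDimensional ℂ V]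

/-- If the sum of the values of an irreducible character at the commutators `(a s)⁻¹ * s` is not zero then the
character is `a`-invariant. -/
theorem invariant_of_sum_ne (ρ : Representation ℂ S V) (hρ : ρ.IsIrreducible) (a : MulAut S)
    (h : ∑ s : S, ρ.character ((a s)⁻¹ * s) ≠ 0) (t : S) : ρ.character (a t) = ρ.character t := by
  classical
  set Y : V →ₗ[ℂ] V := ∑ s : S, ρ ((a s)⁻¹ * s) with hY
  have htr : LinearMap.trace ℂ V Y = ∑ s : S, ρ.character ((a s)⁻¹ * s) := by
    rw [hY, map_sum]
    rfl
  have hcomm : ∀ t : S, ρ (a t) * Y = Y * ρ t := by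
    intro t
    rw [hY, Finset.mul_sum, Finset.sum_mul]
    refine Fintype.sum_equiv (Equiv.mulRight t⁻¹) _ _ fun s => ?_
    rw [← map_mul, ← map_mul]
    congr 1
    simp only [Equiv.coe_mulRight, map_mul, map_inv]
    group
  let W : Subrepresentation ρ :=
    { toSubmodule := LinearMap.ker Y
      apply_mem_toSubmodule := by
        intro g v hv
        rw [LinearMap.mem_ker] at hv ⊢
        have h1 := congrArg (fun f : V →ₗ[ℂ] V => f v) (hcomm g)
        simp only [Module.End.mul_apply] at h1
        rw [← h1, hv, map_zero] }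
  have hker : LinearMap.ker Y = ⊥ := by
    rcases hρ.eq_bot_or_eq_top W with h1 | h1
    · exact congrArg Subrepresentation.toSubmodule h1
    · exfalso
      apply h
      have h2 : LinearMap.ker Y = ⊤ := congrArg Subrepresentation.toSubmodule h1
      rw [← htr, LinearMap.ker_eq_top.1 h2, map_zero]
  let e : V ≃ₗ[ℂ] V := LinearEquiv.ofInjectiveEndo Y (LinearMap.ker_eq_bot.1 hker)
  have he : ∀ v, e v = Y v := fun v => rfl
  have h1 : ρ (a t) = e.conj (ρ t) := by
    ext v
    rw [LinearEquiv.conj_apply]
    simp only [LinearMap.comp_apply, LinearEquiv.coe_coe]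
    obtain ⟨w, rfl⟩ := e.surjective v
    rw [e.symm_apply_apply, he, he]
    have h2 := congrArg (fun f : V →ₗ[ℂ] V => f w) (hcomm t)
    simpa only [Module.End.mul_apply] using h2
  change LinearMap.trace ℂ V (ρ (a t)) = LinearMap.trace ℂ V (ρ t)
  rw [h1, LinearMap.trace_conj']

end invariant

/-- The sum of the values of an irreducible character at the commutators of `x`. -/
theorem sum_commutator {G : Type u} [Group G] [Fintype G] {χ : G → ℂ} (hχ : IsIrrCharacter G χ) (x : G) :
    ∑ g : G, χ (x⁻¹ * g⁻¹ * x * g) = (Nat.card G : ℂ) * (χ x * χ x⁻¹) / χ 1 := by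
  classical
  obtain ⟨n, ρ, hρ, rfl⟩ := hχ
  have h1 := H996.DefectZero.sum_conj ρ hρ x
  have h2 := congrArg (fun f => LinearMap.trace ℂ _ (ρ x⁻¹ * f)) h1
  simp only [Finset.mul_sum, map_sum, ← map_mul, mul_smul_comm, map_smul] at h2
  have h3 : ∑ g : G, ρ.character (x⁻¹ * g⁻¹ * x * g) = ∑ h : G, LinearMap.trace ℂ _ (ρ (x⁻¹ * (h * x * h⁻¹))) := by
    refine Fintype.sum_equiv (Equiv.inv G) _ _ fun g => ?_
    change LinearMap.trace ℂ _ (ρ _) = _
    congr 2
    simp only [Equiv.inv_apply, inv_inv]
    group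
  rw [h3, h2]
  have h4 : LinearMap.trace ℂ (Fin n → ℂ) (ρ x⁻¹ * LinearMap.id) = ρ.character x⁻¹ := by
    rw [show (ρ x⁻¹ * LinearMap.id : (Fin n → ℂ) →ₗ[ℂ] (Fin n → ℂ)) = ρ x⁻¹ from LinearMap.comp_id _]
    rfl
  rw [h4, Representation.char_one, smul_eq_mul]
  ring

section main

variable {S : Type u} [Group S] [Finite S]

/-- An invariant irreducible character extends to the semidirect product by the cyclic group generated by the
automorphism. -/
theorem exists_extension {a : MulAut S} {θ : S → ℂ} (hθ : IsIrrCharacter S θ) (hinv : ∀ t, θ (a t) = θ t) :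
    ∃ χ : S ⋊[(Subgroup.zpowers a).subtype] (Subgroup.zpowers a) → ℂ, IsIrrCharacter _ χ ∧
      ∀ s : S, χ (SemidirectProduct.inl s) = θ s := by
  classical
  set A := Subgroup.zpowers a with hA
  let φ : A →* MulAut S := A.subtype
  set T := S ⋊[φ] A with hT
  have : Finite T := Finite.of_equiv (S × A) SemidirectProduct.equivProd.symm
  let N : Subgroup T := (SemidirectProduct.rightHom : T →* A).ker
  have hcyc : IsCyclic (T ⧸ N) := by
    have h1 : IsCyclic A := Subgroup.isCyclic_zpowers a
    exact isCyclic_of_surjective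
      (QuotientGroup.quotientKerEquivOfSurjective (SemidirectProduct.rightHom : T →* A)
        SemidirectProduct.rightHom_surjective).symm.toMonoidHom
      (QuotientGroup.quotientKerEquivOfSurjective (SemidirectProduct.rightHom : T →* A)
        SemidirectProduct.rightHom_surjective).symm.surjective
  have hrange : (SemidirectProduct.inl : S →* T).range = N := SemidirectProduct.range_inl_eq_ker_rightHom
  let e : S ≃* N := (MonoidHom.ofInjective (f := (SemidirectProduct.inl : S →* T))
    SemidirectProduct.inl_injective).trans (MulEquiv.subgroupCongr hrange)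
  have he : ∀ s, ((e s : N) : T) = SemidirectProduct.inl s := fun s => rfl
  -- invariance under all powers of `a`
  have hinvA : ∀ c : A, ∀ t : S, θ ((c : MulAut S) t) = θ t := by
    let I : Subgroup (MulAut S) :=
      { carrier := {c | ∀ t, θ (c t) = θ t}
        one_mem' := fun t => rfl
        mul_mem' := fun {x y} hx hy t => by
          rw [MulAut.mul_apply, hx, hy]
        inv_mem' := fun {x} hx t => by
          rw [← hx, MulAut.apply_inv_self] }
    have h1 : A ≤ I := by
      rw [hA, Subgroup.zpowers_le]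
      exact hinv
    intro c t
    exact h1 c.2 t
  have hclass := isCharacter_isClassFunction (isIrr_isCharacter hθ)
  obtain ⟨χ, hχ, hres⟩ := Cfsg.Agent.S0886.result N hcyc (θ ∘ e.symm)
    (isIrr_comp (e.symm : N →* S) e.symm.surjective hθ) (by
      intro g n
      obtain ⟨s, rfl⟩ := e.surjective n
      have h1 : (⟨g * (e s : N) * g⁻¹, (inferInstance : N.Normal).conj_mem _ (e s).2 g⟩ : N) =
          e (g.left * (φ g.right s) * g.left⁻¹) := by
        apply Subtype.ext
        show g * (e s : T) * g⁻¹ = _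
        rw [he, he]
        obtain ⟨x, c⟩ := g
        have h2 : (⟨x, c⟩ : T) = SemidirectProduct.inl x * SemidirectProduct.inr c := by
          ext <;> simp
        rw [h2]
        simp only [SemidirectProduct.mul_left, SemidirectProduct.left_inl, SemidirectProduct.right_inl,
          SemidirectProduct.left_inr, map_one, mul_one, SemidirectProduct.mul_right,
          SemidirectProduct.right_inr, one_mul, map_mul, SemidirectProduct.inl_aut, map_inv, mul_inv_rev]
        group
      rw [h1]
      simp only [Function.comp_apply, e.symm_apply_apply]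
      rw [hclass (φ g.right s) g.left]
      exact hinvA g.right s)
  refine ⟨χ, hχ, fun s => ?_⟩
  rw [← he, hres]
  simp

/-- A non-abelian finite simple group with a Steinberg character: no nontrivial automorphism is bad. -/
theorem com_of_hasSt {p : ℕ} (hp : p.Prime) (hst : H167.StChar.HasSt p S) (hsimple : IsSimpleGroup S)
    (hsol : ¬ Group.IsSolvable S) : Com p S := by
  classical
  rw [com_iff]
  intro a ha
  by_contra hne
  have : Fact p.Prime := ⟨hp⟩
  obtain ⟨θ, hθ, hdeg, -⟩ := hst
  have := Fintype.ofFinite S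
  -- `θ` vanishes at the `p`-singular elements
  have hvan : ∀ y : S, p ∣ orderOf y → θ y = 0 := by
    intro y hy
    obtain ⟨n, ρ, hρ, rfl⟩ := hθ
    rw [Representation.char_one] at hdeg
    have h2 : Module.finrank ℂ (Fin n → ℂ) = p ^ (Nat.card S).factorization p := by exact_mod_cast hdeg
    refine Cfsg.Agent.S0165.result ρ p ((Nat.card S).factorization p) hp (Nat.ordProj_dvd _ _)
      (Nat.pow_succ_factorization_not_dvd Nat.card_pos.ne' hp) ?_ y hy
    rw [h2]
  have hdeg0 : θ 1 ≠ 0 := by
    rw [hdeg]
    exact_mod_cast pow_ne_zero _ hp.ne_zero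
  have hval : ∀ s : S, θ ((a s)⁻¹ * s) = if (a s)⁻¹ * s = 1 then θ 1 else 0 := by
    intro s
    split_ifs with h
    · rw [h]
    · rcases ha s with h1 | h1
      · exact absurd h1 h
      · exact hvan _ h1
  -- invariance
  have hinv : ∀ t, θ (a t) = θ t := by
    obtain ⟨n, ρ, hρ, rfl⟩ := hθ
    refine invariant_of_sum_ne ρ hρ a ?_
    rw [Finset.sum_congr rfl fun s _ => hval s, ← Finset.sum_filter, Finset.sum_const, nsmul_eq_mul]
    refine mul_ne_zero ?_ hdeg0
    rw [Nat.cast_ne_zero, ← Nat.pos_iff_ne_zero, Finset.card_pos]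
    exact ⟨1, by simp⟩
  obtain ⟨χ, hχ, hres⟩ := exists_extension hθ hinv
  let A := Subgroup.zpowers a
  let φ : A →* MulAut S := A.subtype
  let T := S ⋊[φ] A
  have hT : Finite T := Finite.of_equiv (S × A) SemidirectProduct.equivProd.symm
  have := Fintype.ofFinite T
  let a' : A := ⟨a, Subgroup.mem_zpowers a⟩
  let x : T := SemidirectProduct.inr a'⁻¹
  have hcomm : ∀ g : T, x⁻¹ * g⁻¹ * x * g =
      SemidirectProduct.inl ((a (φ g.right⁻¹ g.left))⁻¹ * φ g.right⁻¹ g.left) := by
    rintro ⟨s, c⟩
    have h2 : (⟨s, c⟩ : T) = SemidirectProduct.inl s * SemidirectProduct.inr c := by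
      ext <;> simp
    have hac : a' * c⁻¹ = c⁻¹ * a' := by
      obtain ⟨k, hk⟩ := Subgroup.mem_zpowers_iff.1 c.2
      apply Subtype.ext
      show a * (c : MulAut S)⁻¹ = (c : MulAut S)⁻¹ * a
      rw [← hk]
      exact ((Commute.refl a).zpow_right k).inv_right
    have h3 : x⁻¹ * (⟨s, c⟩ : T)⁻¹ * x * ⟨s, c⟩ =
        SemidirectProduct.inr c⁻¹ * (SemidirectProduct.inr a' * SemidirectProduct.inl s⁻¹ *
          SemidirectProduct.inr a'⁻¹) * SemidirectProduct.inl s * SemidirectProduct.inr c := by
      rw [h2]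
      show (SemidirectProduct.inr a'⁻¹ : T)⁻¹ * _ * SemidirectProduct.inr a'⁻¹ * _ = _
      have h7 : (SemidirectProduct.inr a' : T) * SemidirectProduct.inr c⁻¹ =
          SemidirectProduct.inr c⁻¹ * SemidirectProduct.inr a' := by
        rw [← map_mul, hac, map_mul]
      rw [← map_inv, inv_inv, mul_inv_rev, ← map_inv, ← map_inv, ← mul_assoc (SemidirectProduct.inr a'), h7]
      simp only [mul_assoc]
    rw [h3, ← SemidirectProduct.inl_aut]
    have h4 : (SemidirectProduct.inr c⁻¹ : T) * SemidirectProduct.inl (φ a' s⁻¹) * SemidirectProduct.inl s *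
        SemidirectProduct.inr c = SemidirectProduct.inr c⁻¹ * SemidirectProduct.inl (φ a' s⁻¹ * s) *
        SemidirectProduct.inr c⁻¹⁻¹ := by
      rw [map_mul, inv_inv]
      simp only [mul_assoc]
    rw [h4, ← SemidirectProduct.inl_aut]
    congr 1
    show φ c⁻¹ (φ a' s⁻¹ * s) = (a (φ c⁻¹ s))⁻¹ * φ c⁻¹ s
    rw [map_mul]
    congr 1
    have h5 : a (φ c⁻¹ s) = φ c⁻¹ (φ a' s) := by
      have h6 : φ a' (φ c⁻¹ s) = φ c⁻¹ (φ a' s) := by
        rw [← MulAut.mul_apply, ← MulAut.mul_apply, ← map_mul, ← map_mul, hac]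
      exact h6
    rw [h5, map_inv (φ a') s, map_inv (φ c⁻¹) (φ a' s)]
  have hχ1 : χ 1 = θ 1 := by
    rw [← hres, map_one]
  have hterm : ∀ g : T, χ (x⁻¹ * g⁻¹ * x * g) = if x⁻¹ * g⁻¹ * x * g = 1 then χ 1 else 0 := by
    intro g
    rw [hcomm, hres, hval, hχ1]
    congr 1
    rw [← map_one (SemidirectProduct.inl : S →* T), SemidirectProduct.inl_injective.eq_iff]
  have hsum := sum_commutator hχ x
  rw [Finset.sum_congr rfl fun g _ => hterm g, ← Finset.sum_filter, Finset.sum_const, nsmul_eq_mul] at hsum
  have hcent : (Finset.univ.filter fun g : T => x⁻¹ * g⁻¹ * x * g = 1).card =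
      Nat.card (Subgroup.centralizer ({x} : Set T)) := by
    rw [← Fintype.card_subtype, ← Nat.card_eq_fintype_card]
    refine Nat.card_congr (Equiv.subtypeEquivRight fun g => ?_)
    rw [Subgroup.mem_centralizer_singleton_iff]
    constructor
    · intro h
      have h1 : x * g = g * x := by
        have h2 : x⁻¹ * g⁻¹ * (x * g) = 1 := by rw [← mul_assoc]; exact h
        have h3 : (g * x)⁻¹ * (x * g) = 1 := by rw [mul_inv_rev]; exact h2
        exact (inv_mul_eq_one.1 h3).symm
      exact h1.symm
    · intro h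
      have h2 : x⁻¹ * g⁻¹ * x * g = (g * x)⁻¹ * (x * g) := by rw [mul_inv_rev, mul_assoc]
      rw [h2, h, inv_mul_cancel]
  rw [hcent] at hsum
  -- the class of `x`
  have hclass := SmallSimple.SelfCentPrime.card_carrier_mul_card_centralizer x
  have hC0 : (Nat.card (Subgroup.centralizer ({x} : Set T)) : ℂ) ≠ 0 := by
    exact_mod_cast Nat.card_pos.ne'
  have hm0 : (Nat.card (ConjClasses.mk x).carrier : ℂ) ≠ 0 := by
    rw [Nat.cast_ne_zero]
    intro h
    rw [h, zero_mul] at hclass
    exact Nat.card_pos.ne' hclass.symm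
  have hχ10 : χ 1 ≠ 0 := by rw [hχ1]; exact hdeg0
  have hsum2 : (Nat.card (ConjClasses.mk x).carrier : ℂ) * (χ x * χ x⁻¹) = χ 1 * χ 1 := by
    have h1 : (Nat.card (Subgroup.centralizer ({x} : Set T)) : ℂ) * χ 1 =
        (Nat.card T : ℂ) * (χ x * χ x⁻¹) / χ 1 := hsum
    rw [← hclass, Nat.cast_mul, eq_div_iff hχ10] at h1
    refine mul_left_cancel₀ hC0 ?_
    rw [← mul_assoc _ (χ 1) (χ 1), h1]
    ring
  have hint : IsIntegral ℤ (χ x * χ x⁻¹) := by
    have hc := isIrr_isCharacter hχ
    exact (Characters.GaloisBasic.isIntegral_apply hc x).mul (Characters.GaloisBasic.isIntegral_apply hc x⁻¹)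
  have hrat : ∃ q : ℚ, χ x * χ x⁻¹ = q := by
    refine ⟨((p ^ (Nat.card S).factorization p : ℕ) : ℚ) * ((p ^ (Nat.card S).factorization p : ℕ) : ℚ) /
      (Nat.card (ConjClasses.mk x).carrier : ℚ), ?_⟩
    push_cast
    rw [eq_div_iff hm0, mul_comm, hsum2, hχ1, hdeg]
    push_cast
    ring
  obtain ⟨k, hk⟩ := Characters.GaloisBasic.exists_int_of_isIntegral hint hrat
  rw [hk, hχ1, hdeg] at hsum2
  have hdvd : (Nat.card (ConjClasses.mk x).carrier : ℤ) ∣
      ((p ^ (2 * (Nat.card S).factorization p) : ℕ) : ℤ) := by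
    refine ⟨k, ?_⟩
    have h1 : (((Nat.card (ConjClasses.mk x).carrier : ℤ) * k : ℤ) : ℂ) =
        (((p ^ (2 * (Nat.card S).factorization p) : ℕ) : ℤ) : ℂ) := by
      push_cast
      rw [hsum2]
      push_cast
      rw [← pow_add, two_mul]
    exact_mod_cast h1.symm
  have hdvd' := Int.natCast_dvd_natCast.1 hdvd
  obtain ⟨j, -, hj⟩ := (Nat.dvd_prime_pow hp).1 hdvd'
  have hsolv := Cfsg.Agent.S4037.result x hp j (by
    rw [← hj]
    exact (Nat.card_coe_set_eq _).symm)
  -- the intersection with `S`
  let M : Subgroup S := (Subgroup.normalClosure ({x} : Set T)).comap SemidirectProduct.inl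
  have hMn : M.Normal := inferInstance
  rcases hMn.eq_bot_or_eq_top with h1 | h1
  · -- `x` centralises `S`
    apply hne
    ext s
    have h2 : (a s)⁻¹ * s ∈ M := by
      show SemidirectProduct.inl ((a s)⁻¹ * s) ∈ Subgroup.normalClosure ({x} : Set T)
      have h3 := hcomm (SemidirectProduct.inl s)
      have h4 : (SemidirectProduct.inl ((a s)⁻¹ * s) : T) =
          x⁻¹ * (SemidirectProduct.inl s)⁻¹ * x * SemidirectProduct.inl s := by
        rw [h3]
        simp
      rw [h4]
      have hx : x ∈ Subgroup.normalClosure ({x} : Set T) := Subgroup.subset_normalClosure rfl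
      have h5 := (Subgroup.normalClosure_normal (s := ({x} : Set T))).conj_mem x hx (SemidirectProduct.inl s)⁻¹
      rw [inv_inv] at h5
      have h6 := mul_mem (inv_mem hx) h5
      simpa only [mul_assoc] using h6
    rw [h1, Subgroup.mem_bot] at h2
    simpa using inv_mul_eq_one.1 h2
  · apply hsol
    have h2 : ∀ s : S, SemidirectProduct.inl s ∈ Subgroup.normalClosure ({x} : Set T) := fun s => by
      have : s ∈ M := by rw [h1]; trivial
      exact this
    have h3 := hsolv
    exact Group.isSolvable_of_isSolvable_injective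
      (f := (SemidirectProduct.inl : S →* T).codRestrict (Subgroup.normalClosure ({x} : Set T)) h2) (by
        intro s t hst
        exact SemidirectProduct.inl_injective (congrArg Subtype.val hst))

/-- Defining characteristic. -/
theorem com_defining {p : ℕ} (hp : p.Prime) [hsimple : IsSimpleGroup S] (h : IsLieTypeChar p S)
    (hsol : ¬ Group.IsSolvable S) : Com p S :=
  com_of_hasSt hp (H167.StChar.hasSt_of_lie hp h) hsimple hsol

end main

end Cfsg.Agent.H705
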