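import Mathlib
import Cfsg.Agent.ClassicalGeometry.UnitAutBasic
import Cfsg.Agent.Prune
set_option linter.all false
prune_inst 0x7f00000000000000000000000000000000000000000000000000000000000000000000000000000000000000000000000000000000000000000000000000000000000000000000000000000000000000003fffffffffffffffffffffffffffbeffbdffffffff
open scoped Cfsg.Agent.FastGrp

/-!
# Arithmetic for the unitary groups over fields with `q = 2 ^ i + 1` (helper705)
-/

set_option autoImplicit false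
set_option linter.unusedSectionVars false

namespace Cfsg.Agent.H705.UArith

open Cfsg Cfsg.Agent.LieClassical.HermBasic

/-- prime powers of the form `2 ^ i + 1` -/
theorem two_pow_add_one {l n i : ℕ} (hl : l.Prime) (h : l ^ n = 2 ^ i + 1) (hi : 2 ≤ i) : n = 1 ∨ l ^ n = 9 := by
  obtain ⟨j, rfl⟩ : ∃ j, i = j + 2 := ⟨i - 2, by omega⟩
  have h4 : 2 ^ (j + 2) = 4 * 2 ^ j := by rw [pow_add]; ring
  have hj : 0 < 2 ^ j := pow_pos two_pos j
  have hn0 : n ≠ 0 := by
    rintro rfl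
    rw [pow_zero] at h
    omega
  have hodd : Odd l := by
    rcases hl.eq_two_or_odd' with rfl | h1
    · exfalso
      obtain ⟨k, rfl⟩ : ∃ k, n = k + 1 := ⟨n - 1, by omega⟩
      rw [pow_succ] at h
      omega
    · exact h1
  rcases Nat.even_or_odd n with ⟨k, rfl⟩ | ho
  · right
    set x := l ^ k with hx
    have hx1 : 1 ≤ x := Nat.one_le_pow _ _ hl.pos
    obtain ⟨y, hy⟩ : ∃ y, x = y + 1 := ⟨x - 1, by omega⟩
    have h1 : y * (y + 2) = 2 ^ (j + 2) := by
      rw [pow_add, ← hx, hy] at h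
      have : (y + 1) * (y + 1) = y * (y + 2) + 1 := by ring
      omega
    obtain ⟨a, -, ha⟩ := (Nat.dvd_prime_pow Nat.prime_two).1 (Dvd.intro _ h1)
    obtain ⟨b, -, hb⟩ := (Nat.dvd_prime_pow Nat.prime_two).1 (Dvd.intro_left _ h1)
    have ha1 : a = 1 := by
      rcases a with _ | _ | a
      · exfalso
        rw [pow_zero] at ha
        rw [ha] at hb
        rcases b with _ | b
        · omega
        · rw [pow_succ] at hb
          omega
      · rfl
      · exfalso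
        have e1 : 2 ^ (a + 1 + 1) = 4 * 2 ^ a := by ring
        rcases b with _ | _ | b
        · omega
        · rw [ha, e1] at hb
          have : 0 < 2 ^ a := pow_pos two_pos a
          omega
        · have e2 : 2 ^ (b + 1 + 1) = 4 * 2 ^ b := by ring
          rw [ha, e1, e2] at hb
          omega
    rw [ha1] at ha
    rw [pow_add, ← hx, hy, ha]
    norm_num
  · left
    by_contra hn1
    have h1 : (∑ k ∈ Finset.range n, l ^ k) * (l - 1) + 1 = l ^ n := by
      have := Nat.geomSum_eq hl.two_le n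
      have h2 : (l - 1) ∣ l ^ n - 1 := by
        simpa using Nat.sub_dvd_pow_sub_pow l 1 n
      rw [this, Nat.div_mul_cancel h2]
      have : 1 ≤ l ^ n := Nat.one_le_pow _ _ hl.pos
      omega
    have h2 : (∑ k ∈ Finset.range n, l ^ k) ∣ 2 ^ (j + 2) := Dvd.intro (l - 1) (by omega)
    obtain ⟨a, -, ha⟩ := (Nat.dvd_prime_pow Nat.prime_two).1 h2
    have h3 : ∀ m : ℕ, (∑ k ∈ Finset.range m, l ^ k) % 2 = m % 2 := by
      intro m
      induction m with
      | zero => rfl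
      | succ m ih =>
        rw [Finset.sum_range_succ, Nat.add_mod, ih, Nat.odd_iff.1 (hodd.pow (n := m))]
        omega
    have h4 := h3 n
    rw [ha, Nat.odd_iff.1 ho] at h4
    have ha0 : a = 0 := by
      rcases a with _ | a
      · rfl
      · rw [pow_succ] at h4
        omega
    rw [ha0, pow_zero] at ha
    obtain ⟨k, rfl⟩ : ∃ k, n = k + 2 := ⟨n - 2, by omega⟩
    rw [Finset.sum_range_succ, Finset.sum_range_succ'] at ha
    have : 0 < l ^ (k + 1) := pow_pos hl.pos _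
    rw [pow_zero] at ha
    omega

variable {F : Type*} [Field F] [Fintype F] {q : ℕ}

/-- the two possibilities for the restriction of `ρ` to `F_q` -/
theorem dichotomy (hF : Fintype.card F = q ^ 2) {i : ℕ} (hq : q = 2 ^ i + 1) (hi : 2 ≤ i) (ρ : F ≃+* F) :
    (∀ x : F, x ^ q = x → ρ x = x) ∨ (q = 9 ∧ ∀ x : F, x ^ q = x → ρ x = x ^ 3) := by
  obtain ⟨n, hp, hn⟩ := FiniteField.card F (ringChar F)
  have hfact : Fact (ringChar F).Prime := ⟨hp⟩
  set l := ringChar F with hl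
  have h1 : q ∣ l ^ (n : ℕ) := by rw [← hn, hF]; exact dvd_pow_self q (by norm_num)
  obtain ⟨k, -, hk⟩ := (Nat.dvd_prime_pow hp).1 h1
  rcases two_pow_add_one hp (hk ▸ hq) hi with rfl | h9
  · left
    intro x hx
    rw [hk, pow_one] at hx
    have h2 : x ∈ (⊥ : Subfield F) := (Subfield.mem_bot_iff_pow_eq_self (F := F) (p := l)).2 hx
    have h3 : (⊥ : Subfield F) ≤ (ρ : F →+* F).eqLocusField (RingHom.id F) := bot_le
    exact h3 h2
  · rw [← hk] at h9
    subst h9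
    have h3 : l = 3 := by
      have h2 : l ∣ 3 ^ 2 := by
        have h3 : k ≠ 0 := by
          rintro rfl
          rw [pow_zero] at hk
          omega
        have : l ∣ l ^ k := dvd_pow_self l h3
        rw [← hk] at this
        exact this
      exact (Nat.prime_dvd_prime_iff_eq hp Nat.prime_three).1 (hp.dvd_of_dvd_pow h2)
    have hch : CharP F 3 := by rw [← h3]; exact ringChar.charP F
    by_cases hall : ∀ x : F, x ^ 9 = x → ρ x = x
    · exact Or.inl hall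
    · right
      refine ⟨rfl, ?_⟩
      push Not at hall
      obtain ⟨x₀, hx₀, hne⟩ := hall
      -- elements of `F_9` satisfy a quadratic equation over `F_3`
      have hF3 : ∀ x : F, x ^ 3 = x → ρ x = x := by
        intro x hx
        have h2 : x ∈ (⊥ : Subfield F) := (Subfield.mem_bot_iff_pow_eq_self (F := F) (p := 3)).2 hx
        have h3 : (⊥ : Subfield F) ≤ (ρ : F →+* F).eqLocusField (RingHom.id F) := bot_le
        exact h3 h2
      have hquad : ∀ x : F, x ^ 9 = x → ρ x = x ∨ ρ x = x ^ 3 := by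
        intro x hx
        have ht : ρ (x + x ^ 3) = x + x ^ 3 := by
          apply hF3
          have : (x + x ^ 3) ^ 3 = x ^ 3 + (x ^ 3) ^ 3 := add_pow_char x (x ^ 3) 3
          rw [this, ← pow_mul, hx, add_comm]
        have hd : ρ (x * x ^ 3) = x * x ^ 3 := by
          apply hF3
          rw [mul_pow, ← pow_mul x 3 3, hx, mul_comm]
        rw [map_add, map_pow] at ht
        rw [map_mul, map_pow] at hd
        have h4 : (ρ x - x) * (ρ x - x ^ 3) = 0 := by
          linear_combination (-hd + (ρ x) * ht)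
        rcases mul_eq_zero.1 h4 with h5 | h5
        · exact Or.inl (sub_eq_zero.1 h5)
        · exact Or.inr (sub_eq_zero.1 h5)
      intro x hx
      rcases hquad x hx with h4 | h4
      · -- compare with `x + x₀`
        have h5 : ρ x₀ = x₀ ^ 3 := (hquad x₀ hx₀).resolve_left hne
        have h6 : (x + x₀) ^ 9 = x + x₀ := by
          have e1 : (x + x₀) ^ 9 = ((x + x₀) ^ 3) ^ 3 := by ring
          rw [e1, add_pow_char x x₀ 3, add_pow_char (x ^ 3) (x₀ ^ 3) 3, ← pow_mul, ← pow_mul, hx, hx₀]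
        rcases hquad _ h6 with h7 | h7
        · exfalso
          rw [map_add, h4] at h7
          exact hne (add_left_cancel h7)
        · rw [map_add, add_pow_char x x₀ 3, h5] at h7
          exact add_right_cancel h7
      · exact h4

/-- what we want -/
def Good (q : ℕ) (ρ : F ≃+* F) (D : F) : Prop :=
  ∃ l : F, l ≠ 0 ∧ ∃ ζ : F, ζ ^ ((q + 1) / 2) = 1 ∧ ζ ≠ 0 ∧ ζ ≠ 1 ∧ ζ * ζ ≠ 1 ∧
    2 - D * (l * l ^ q) * (ρ l * ρ l ^ q) = ζ + ζ⁻¹

/-- roots of unity -/
theorem exists_root (hF : Fintype.card F = q ^ 2) {j : ℕ} (hq : q = 4 * 2 ^ j + 1) :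
    ∃ ξ : F, ξ ≠ 0 ∧ ξ ^ ((q + 1) / 2) = 1 ∧ ∃ s : ℕ, s.Prime ∧ s ≠ 2 ∧ s ∣ (q + 1) / 2 ∧ orderOf ξ = s := by
  have hj : 0 < 2 ^ j := pow_pos two_pos j
  have hk : (q + 1) / 2 = 2 * 2 ^ j + 1 := by omega
  set s := Nat.minFac ((q + 1) / 2) with hs
  have hsp : s.Prime := Nat.minFac_prime (by omega)
  have hsk : s ∣ (q + 1) / 2 := Nat.minFac_dvd _
  have hs2 : s ≠ 2 := by
    intro h2
    rw [h2, hk] at hsk
    omega
  have hsc : s ∣ Nat.card Fˣ := by
    rw [card_units_eq hF]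
    refine Dvd.dvd.mul_right (hsk.trans ⟨2, ?_⟩) _
    omega
  have : Fact s.Prime := ⟨hsp⟩
  obtain ⟨x, hx⟩ := exists_prime_orderOf_dvd_card' s hsc
  refine ⟨(x : F), x.ne_zero, ?_, s, hsp, hs2, hsk, by rw [orderOf_units, hx]⟩
  obtain ⟨k, hk'⟩ := hsk
  rw [hk', pow_mul, ← Units.val_pow_eq_pow_val, ← hx, pow_orderOf_eq_one, Units.val_one, one_pow]

theorem ne_one_of {ξ : F} {s n : ℕ} (hs : s.Prime) (hs2 : s ≠ 2) (h : orderOf ξ = s) (hn : n = 1 ∨ n = 2 ∨ n = 4) :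
    ξ ^ n ≠ 1 := by
  intro h1
  have h2 := orderOf_dvd_of_pow_eq_one h1
  rw [h] at h2
  have h3 : s ∣ 2 ^ 2 := h2.trans (by rcases hn with rfl | rfl | rfl <;> norm_num)
  exact hs2 ((Nat.prime_dvd_prime_iff_eq hs Nat.prime_two).1 (hs.dvd_of_dvd_pow h3))

/-- the first case -/
theorem key1 (hF : Fintype.card F = q ^ 2) {j : ℕ} (hq : q = 4 * 2 ^ j + 1) (ρ : F ≃+* F)
    (hρ : ∀ x : F, x ^ q = x → ρ x = x) {c t : F} (hc : c ≠ 0) (hcq : c ^ q = -c) {m : ℕ} (hm : q ^ 2 - 1 = 2 * m)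
    (ht0 : t ≠ 0) (ht : t ^ m = 1) : Good q ρ (c * ρ c * (t * t ^ q)) := by
  have hj : 0 < 2 ^ j := pow_pos two_pos j
  set s := 2 ^ j with hs
  have hqm : m = (q + 1) * (2 * s) := by
    have h1 : q ^ 2 - 1 = 2 * ((q + 1) * (2 * s)) := by
      have : q ^ 2 = 2 * ((q + 1) * (2 * s)) + 1 := by rw [hq]; ring
      omega
    omega
  obtain ⟨ξ, hξ0, hξk, p, hp, hp2, hpk, hξp⟩ := exists_root hF hq
  have hξq : ξ ^ q = ξ⁻¹ := by
    have h1 : ξ ^ (q + 1) = 1 := by
      have h2 : q + 1 = (q + 1) / 2 * 2 := by omega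
      rw [h2, pow_mul, hξk, one_pow]
    rw [pow_succ] at h1
    exact eq_inv_of_mul_eq_one_left h1
  set d := ξ - ξ⁻¹ with hd
  have hdq : d ^ q = -d := by
    rw [hd, sub_pow_q hF, hξq, inv_pow, hξq, inv_inv, neg_sub]
  have hd0 : d ≠ 0 := by
    intro h
    have h1 : ξ ^ 2 = 1 := by
      have h2 : ξ = ξ⁻¹ := sub_eq_zero.1 h
      rw [sq]
      nth_rw 2 [h2]
      exact mul_inv_cancel₀ hξ0
    exact ne_one_of hp hp2 hξp (Or.inr (Or.inl rfl)) h1
  have hpow : ∀ x : F, x ≠ 0 → x ^ q = -x → x ^ (4 * s) = -1 := by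
    intro x hx hxq
    rw [hq, pow_succ] at hxq
    exact mul_right_cancel₀ hx (by rw [hxq]; ring)
  have hcc : ρ c * ρ c = c * c := by
    rw [← map_mul]
    apply hρ
    rw [mul_pow, hcq]
    ring
  have hρc0 : ρ c ≠ 0 := by
    intro h
    exact hc ((map_eq_zero ρ).1 h)
  have hρcq : ρ c ^ q = -ρ c := by rw [← map_pow, hcq, map_neg]
  set D := c * ρ c * (t * t ^ q) with hD
  have hN0 : t * t ^ q ≠ 0 := mul_ne_zero ht0 (pow_ne_zero _ ht0)
  have hD0 : D ≠ 0 := mul_ne_zero (mul_ne_zero hc hρc0) hN0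
  have hDq : D ^ q = D := by
    rw [hD, mul_pow, mul_pow, norm_pow_q hF, hcq, hρcq]
    ring
  have hDs : D ^ (2 * s) = -1 := by
    have h1 : (t * t ^ q) ^ (2 * s) = 1 := by
      rw [← pow_succ', ← pow_mul, ← hqm, ht]
    have h2 : (c * ρ c) ^ (2 * s) = c ^ (4 * s) := by
      rw [pow_mul, mul_pow, sq (ρ c), hcc, ← sq, ← pow_add, ← pow_mul]
    rw [hD, mul_pow, h1, mul_one, h2, hpow c hc hcq]
  set R := -(d ^ 2) / D with hR
  have hR0 : R ≠ 0 := div_ne_zero (neg_ne_zero.2 (pow_ne_zero _ hd0)) hD0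
  have hRq : R ^ q = R := by
    rw [hR, div_pow, hDq, neg_pow_q hF, ← pow_mul, mul_comm 2 q, pow_mul, hdq, neg_sq]
  have hRs : R ^ (2 * s) = 1 := by
    rw [hR, div_pow, hDs, pow_mul, neg_sq, ← pow_mul, ← pow_mul]
    have h1 : 2 * (2 * s) = 4 * s := by ring
    rw [h1, hpow d hd0 hdq, div_self (neg_ne_zero.2 one_ne_zero)]
  obtain ⟨μ, hμ⟩ := exists_norm_eq hF hRq
  have hμ0 : μ ≠ 0 := by
    rintro rfl
    rw [zero_mul] at hμ
    exact hR0 hμ.symm
  have hchar : ringChar F ≠ 2 := by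
    intro h2
    have h3 : CharP F 2 := by rw [← h2]; exact ringChar.charP F
    obtain ⟨n, -, hn⟩ := FiniteField.card F 2
    rw [hF] at hn
    have h4 : Even (q ^ 2) := by rw [hn]; exact (Nat.even_pow' n.ne_zero).2 even_two
    have h5 : Odd q := by rw [hq]; exact ⟨2 * s, by ring⟩
    exact (Nat.not_even_iff_odd.2 h5.pow) h4
  have hsq : IsSquare μ := by
    rw [FiniteField.isSquare_iff hchar hμ0]
    have h1 : Fintype.card F / 2 = (q + 1) * (2 * s) := by
      rw [hF]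
      have : q ^ 2 = 2 * ((q + 1) * (2 * s)) + 1 := by rw [hq]; ring
      omega
    rw [h1, pow_mul, pow_succ', hμ, hRs]
  obtain ⟨l, hl⟩ := hsq
  have hl0 : l ≠ 0 := by
    rintro rfl
    rw [zero_mul] at hl
    exact hμ0 hl
  refine ⟨l, hl0, ξ * ξ, ?_, mul_ne_zero hξ0 hξ0, ?_, ?_, ?_⟩
  · rw [mul_pow, hξk, one_mul]
  · rw [← sq]
    exact ne_one_of hp hp2 hξp (Or.inr (Or.inl rfl))
  · have h1 : ξ * ξ * (ξ * ξ) = ξ ^ 4 := by ring
    rw [h1]
    exact ne_one_of hp hp2 hξp (Or.inr (Or.inr rfl))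
  · have h1 : ρ l * ρ l ^ q = l * l ^ q := by
      rw [← map_pow, ← map_mul]
      exact hρ _ (norm_pow_q hF l)
    have h2 : (l * l ^ q) * (l * l ^ q) = R := by
      rw [← hμ, hl, mul_pow]
      ring
    rw [h1, mul_assoc, h2, hR, mul_div_cancel₀ _ hD0, hd, mul_inv]
    have h3 : ξ * ξ⁻¹ = 1 := mul_inv_cancel₀ hξ0
    linear_combination (-2 : F) * h3

/-- the second case -/
theorem key2 (hF : Fintype.card F = 9 ^ 2) (ρ : F ≃+* F)
    (hρ : ∀ x : F, x ^ 9 = x → ρ x = x ^ 3) {c t : F} (hc : c ≠ 0) (hcq : c ^ 9 = -c) (ht : t ^ 40 = -1) :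
    Good 9 ρ (c * ρ c * (t * t ^ 9)) := by
  have h3F : (3 : F) = 0 := by
    obtain ⟨n, hp, hn⟩ := FiniteField.card F (ringChar F)
    have h1 : ringChar F ∣ 3 := by
      have h2 : ringChar F ∣ 3 ^ 4 := by
        rw [show (3 : ℕ) ^ 4 = 9 ^ 2 by norm_num, ← hF, hn]
        exact dvd_pow_self _ n.ne_zero
      exact hp.dvd_of_dvd_pow h2
    have := (ringChar.spec F 3).2 h1
    exact_mod_cast this
  obtain ⟨ξ, hξ0, hξk, p, hp, hp2, hpk, hξp⟩ := exists_root (F := F) (q := 9) hF (j := 1) (by norm_num)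
  have hξ5 : ξ ^ 5 = 1 := by simpa using hξk
  have hξ1 : ξ ≠ 1 := by
    have := ne_one_of hp hp2 hξp (Or.inl rfl)
    rwa [pow_one] at this
  have hcyc : ξ ^ 4 + ξ ^ 3 + ξ ^ 2 + ξ + 1 = 0 := by
    have h1 : (ξ - 1) * (ξ ^ 4 + ξ ^ 3 + ξ ^ 2 + ξ + 1) = 0 := by linear_combination hξ5
    exact (mul_eq_zero.1 h1).resolve_left (sub_ne_zero.2 hξ1)
  have hinv : ξ⁻¹ = ξ ^ 4 := by
    rw [inv_eq_iff_eq_inv, eq_comm, inv_eq_iff_eq_inv]
    exact eq_inv_of_mul_eq_one_left (by rw [← hξ5]; ring)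
  have hη : (ξ + ξ⁻¹) ^ 2 + (ξ + ξ⁻¹) - 1 = 0 := by
    rw [hinv]
    linear_combination hcyc + (ξ ^ 3 + 2) * hξ5
  have ht0 : t ≠ 0 := by
    rintro rfl
    rw [zero_pow (by norm_num)] at ht
    exact one_ne_zero (neg_eq_zero.1 ht.symm)
  have hc8 : c ^ 8 = -1 := mul_right_cancel₀ hc (by rw [← pow_succ, hcq]; ring)
  have hρc : ρ c ^ 2 = c ^ 6 := by
    rw [← map_pow]
    have h1 : (c ^ 2) ^ 9 = c ^ 2 := by
      rw [← pow_mul, mul_comm 2 9, pow_mul, hcq, neg_sq]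
    rw [hρ _ h1, ← pow_mul]
  have hρcq : ρ c ^ 9 = -ρ c := by rw [← map_pow, hcq, map_neg]
  set D := c * ρ c * (t * t ^ 9) with hD
  have hDq : D ^ 9 = D := by
    rw [hD, mul_pow, mul_pow, norm_pow_q hF, hcq, hρcq]
    ring
  have hD4 : D ^ 4 = -1 := by
    have h1 : D ^ 4 = c ^ 4 * (ρ c ^ 2) ^ 2 * t ^ 40 := by rw [hD]; ring
    rw [h1, ht, hρc]
    have h2 : c ^ 4 * (c ^ 6) ^ 2 * (-1) = -(c ^ 8) ^ 2 := by ring
    rw [h2, hc8]
    ring
  have hD0 : D ≠ 0 := by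
    intro h
    rw [h, zero_pow (by norm_num)] at hD4
    exact one_ne_zero (neg_eq_zero.1 hD4.symm)
  have hfac : (D ^ 2 + D - 1) * (D ^ 2 - D - 1) = 0 := by linear_combination hD4 - D ^ 2 * h3F
  -- it is enough to reach a root of `x² + x - 1`
  have main : ∀ (l : F), l ≠ 0 → ∀ D' : F, D' ^ 2 + D' - 1 = 0 → D * (l * l ^ 9) * (ρ l * ρ l ^ 9) = D' →
      Good 9 ρ D := by
    intro l hl D' hD' hlD
    have h1 : (D' - (ξ + ξ⁻¹)) * (D' + 1 + (ξ + ξ⁻¹)) = 0 := by linear_combination hD' - hη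
    rcases mul_eq_zero.1 h1 with h2 | h2
    · refine ⟨l, hl, ξ * ξ, ?_, mul_ne_zero hξ0 hξ0, ?_, ?_, ?_⟩
      · rw [mul_pow, hξk, one_mul]
      · rw [← sq]
        exact ne_one_of hp hp2 hξp (Or.inr (Or.inl rfl))
      · have h1 : ξ * ξ * (ξ * ξ) = ξ ^ 4 := by ring
        rw [h1]
        exact ne_one_of hp hp2 hξp (Or.inr (Or.inr rfl))
      · rw [hlD, mul_inv]
        have h3 : ξ * ξ⁻¹ = 1 := mul_inv_cancel₀ hξ0
        linear_combination -h2 - hη + 2 * h3 + h3F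
    · refine ⟨l, hl, ξ, hξk, hξ0, hξ1, ?_, ?_⟩
      · rw [← sq]
        exact ne_one_of hp hp2 hξp (Or.inr (Or.inl rfl))
      · rw [hlD]
        linear_combination -h2 + h3F
  rcases mul_eq_zero.1 hfac with h | h
  · exact main 1 one_ne_zero D h (by simp)
  · obtain ⟨l, hl⟩ := exists_norm_eq hF hDq
    have hl0 : l ≠ 0 := by
      rintro rfl
      rw [zero_mul] at hl
      exact hD0 hl.symm
    refine main l hl0 (-D) (by linear_combination h) ?_
    have h1 : ρ l * ρ l ^ 9 = D ^ 3 := by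
      rw [← map_pow, ← map_mul, hl]
      exact hρ _ hDq
    rw [h1, hl]
    linear_combination D * hD4

end Cfsg.Agent.H705.UArith
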