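import Mathlib
import Cfsg.Agent.UThreeGen.Recog
import Cfsg.Agent.H212.U3.Model
import Cfsg.Agent.LieClassical.HermBasic
import Cfsg.Agent.ClassicalGeometry.PSUAutMain
import Cfsg.Agent.H705.ComUArith
import Cfsg.Agent.H705.ComPSU_m3
import Cfsg.Agent.BpLieP.Untw_m3
import Cfsg.Agent.Lib.Cores
import Cfsg.Agent.H690.LieMix
import Cfsg.Agent.H705.ComSt
import Cfsg.Agent.H705.ComRee
import Cfsg.Agent.H519.LieRank
import Cfsg.Agent.H400.LieLocal
import Cfsg.Agent.S0280
import Cfsg.Agent.H850.Exist2
import Cfsg.Agent.CharactersDeep.TracePow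
import Cfsg.Agent.KFacts.MonsterE
import Cfsg.Agent.H850.MonSub
import Cfsg.Agent.H516.OddFrame
import Cfsg.Agent.Lib.F2Mat
import Cfsg.Agent.Lib.F2MatGroup
import Cfsg.Agent.H582.Ly.Row
import Cfsg.Agent.PermutationGroups.RegularCount
import Cfsg.Agent.Lib.SolvableNormalP
import Cfsg.Agent.S0205
import Cfsg.Agent.J4.Rep112
import Cfsg.Agent.H472.ComRed
import Cfsg.Agent.Lib.NilpotentCoprime
import Cfsg.Agent.S0034
import Cfsg.Agent.S0042
import Cfsg.Agent.Lib.GenFitting
import Cfsg.Agent.S2119
import Mathlib.GroupTheory.Perm.ViaEmbedding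
import Mathlib.GroupTheory.SpecificGroups.Alternating
import Mathlib.Tactic.FinCases
import Mathlib.Tactic.IntervalCases
import Mathlib.Dynamics.PeriodicPts.Lemmas
import Cfsg.Agent.H402.AltGrp
import Cfsg.Agent.H284.AltComp
import Cfsg.Agent.H273.Sidki
import Cfsg.Agent.OddHalf.Known
import Cfsg.Prelude.Def_Spor_He
import Cfsg.Agent.S2034
import Cfsg.Agent.S2035
import Cfsg.Agent.S2036
import Cfsg.Agent.S2037
import Cfsg.Agent.S2038
import Cfsg.Agent.S2039
import Cfsg.Agent.S2040
import Cfsg.Agent.S2041
import Cfsg.Agent.S2042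
import Cfsg.Agent.S2043
import Cfsg.Agent.S2044
import Cfsg.Agent.S2045
import Cfsg.Agent.S2046
import Cfsg.Agent.S2047
import Cfsg.Agent.S2048
import Cfsg.Agent.S2049
import Cfsg.Agent.S2050
import Cfsg.Agent.S2051
import Cfsg.Agent.S2052
import Cfsg.Agent.S2053
import Cfsg.Agent.S2054
import Cfsg.Agent.S2055
import Cfsg.Agent.S2056
import Cfsg.Agent.S2057
import Cfsg.Agent.S2058
import Cfsg.Agent.S2059
import Cfsg.Agent.S2086
import Cfsg.Agent.S2089
import Cfsg.Agent.S2111
import Cfsg.Agent.S2112
import Cfsg.Agent.S2113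
import Cfsg.Agent.S2114
import Cfsg.Agent.S2115
import Cfsg.Agent.S2116
import Cfsg.Agent.S0892
import Cfsg.Agent.S0252
import Cfsg.Agent.H95.StemCover
import Cfsg.Prelude.Def_Classification2
import Cfsg.Agent.S0254
import Cfsg.Agent.OddHalf.D4.Spor.HN_m3
import Cfsg.Agent.KFacts.J4.Base
import Cfsg.Agent.H7.J4Weak
import Cfsg.Agent.S1703
import Cfsg.Agent.H755.CC.Fi24
import Cfsg.Agent.H819.CubeFi24
import Cfsg.Agent.S5608
import Cfsg.Agent.S0366
import Cfsg.Agent.S0364
import Cfsg.Agent.SporadicA.MathieuRecog
import Cfsg.Agent.MTwelveType.SylowModel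
import Cfsg.Agent.H994.TwoGen.M11
import Cfsg.Agent.CpAutTThree.MTwelve
import Cfsg.Agent.H413.JOneLocal
import Cfsg.Agent.OddCyclic.FFThree_m3
import Cfsg.Agent.H19.Odd.HeEl7
import Cfsg.Agent.H19.Odd.HeCntD
import Cfsg.Agent.H265.SuzCent
import Cfsg.Agent.H812.SuzSeven_m3
import Cfsg.Agent.H686.Odd.McLMain
import Cfsg.Agent.H343.WitCl_m3
import Cfsg.Agent.H19.Odd.Srg
import Cfsg.Agent.H830.Con22
import Cfsg.Agent.H816.Quasi
import Cfsg.Agent.R08.X4Gamma_m3
import Cfsg.Agent.FastGrp
import Cfsg.Agent.Prune
set_option linter.all false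

section
prune_inst 0x7f00000000000000000000000000000000000000000000000000000000000000000000000000000000000000000000000000000000000000000000000000000000000000000000000000000000000000003ffff7ffffffffffffffffffffffbeffbdefbfffff

section
prune_inst 0xfdacf9bfa839dfdfff7e7ff6dccdfdf9a83fffa4dff9cbffe06bff2bdf6b00c9c523ad0beb90fe1e77421410e87b43fd7eceffe26bdc7ffffd5fb41ffbff8ffdf7b5085196883406ac0fff03f0570e6f000000000000000000000000000000000000400000

-- part: H705/ComUSpec
section
prune_inst 0x211004012c6200000018008011000021340000800000000000000040000120000000000002301008008a004040080028130000c0420000000a040400000400000080000010400091000000000288010000008000000000000000000000000004210000000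
set_option linter.all false
open scoped Cfsg.Agent.FastGrp

-- part: H705/ComTG
section
/-!
# The unitary two-graph (helper705)

Let `X` be the set of nonzero isotropic vectors of the unitary space of dimension three over the field with `q²` elements, `q`
odd, and `m = (q² - 1) / 2`. The matrix `h(v, w) ^ m` has square zero (`sq_zero`). Hence `∑ h(v, φ v) ^ m = 0` for every
permutation `φ` of `X` preserving `h(v, w) ^ m` (`sum_eq_zero`), so that the values `h(v, φ v) ^ m` are not all equal (and
different from zero).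
-/

set_option autoImplicit false
set_option linter.unusedSectionVars false

namespace Cfsg.Agent.H705.TG

open Matrix Cfsg.Agent.UThreeGen.MatGroup

/-- a permutation preserving a matrix of square zero -/
theorem trace_zero {X R : Type*} [Fintype X] [Field R] (S : X → X → R) (φ : Equiv.Perm X)
    (hS : ∀ v v', ∑ w, S v w * S w v' = 0) (hφ : ∀ v w, S (φ v) (φ w) = S v w) : ∑ v, S v (φ v) = 0 := by
  classical
  let M : Matrix X X R := Matrix.of fun v w => S v (φ w)
  have h1 : M * M = 0 := by
    ext v v'
    rw [Matrix.mul_apply, Matrix.zero_apply]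
    have h2 : ∀ w, M v w * M w v' = S v (φ w) * S (φ w) (φ (φ v')) := by
      intro w
      show S v (φ w) * S w (φ v') = _
      rw [hφ w (φ v')]
    rw [Finset.sum_congr rfl fun w _ => h2 w]
    rw [Equiv.sum_comp φ (fun w => S v w * S w (φ (φ v')))]
    exact hS _ _
  have h3 : IsNilpotent M := ⟨2, by rw [pow_two, h1]⟩
  have h4 := Matrix.isNilpotent_trace_of_isNilpotent h3
  exact h4.eq_zero

section Model

variable {F : Type*} [Field F] [Fintype F] {q : ℕ} {σ : F →+* F} [hσ : Fact (∀ x, σ (σ x) = x)]

/-- the form with Gram matrix `Gm` -/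
def hG (σ : F →+* F) (x y : Fin 3 → F) : F := x 0 * σ (y 2) - x 1 * σ (y 1) + x 2 * σ (y 0)

omit [Fintype F] hσ in
theorem hG_smul_left (c : F) (x y : Fin 3 → F) : hG σ (c • x) y = c * hG σ x y := by
  simp only [hG, Pi.smul_apply, smul_eq_mul]; ring

omit [Fintype F] hσ in
theorem hG_smul_right (c : F) (x y : Fin 3 → F) : hG σ x (c • y) = σ c * hG σ x y := by
  simp only [hG, Pi.smul_apply, smul_eq_mul, map_mul]; ring

omit [Fintype F] hσ in
theorem hG_mulVec (g : SUG σ) (x y : Fin 3 → F) : hG σ (g.1.1 *ᵥ x) (g.1.1 *ᵥ y) = hG σ x y := by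
  have e := entry_of_mem_SUG g.2
  have key : hG σ (g.1.1 *ᵥ x) (g.1.1 *ᵥ y) = ∑ i, ∑ j, x i * σ (y j) *
      (g.1.1 0 i * σ (g.1.1 2 j) - g.1.1 1 i * σ (g.1.1 1 j) + g.1.1 2 i * σ (g.1.1 0 j)) := by
    simp only [hG, Matrix.mulVec, dotProduct, Fin.sum_univ_three, map_add, map_mul]
    ring
  rw [key]
  simp only [e, Gm, Fin.sum_univ_three, hG]
  simp only [_root_.Fin.isValue, _root_.Matrix.of_apply, _root_.Matrix.cons_val', _root_.Matrix.cons_val_zero, _root_.Matrix.cons_val_fin_one, _root_.MulZeroClass.mul_zero, _root_.Matrix.cons_val_one, _root_.add_zero, _root_.Matrix.cons_val, _root_.mul_one, _root_.zero_add, _root_.mul_neg, _root_.add_left_inj]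
  ring

/-- nonzero isotropic vectors -/
def X (σ : F →+* F) : Type _ := {w : Fin 3 → F // w ≠ 0 ∧ hG σ w w = 0}

noncomputable instance : Fintype (X σ) := by
  classical
  exact Subtype.fintype _

/-- representatives of the isotropic points -/
def vec (σ : F →+* F) : Option (HG σ) → Fin 3 → F
  | none => ![1, 0, 0]
  | some x => ![x.b, σ x.a, 1]

omit [Fintype F] in
theorem vec_iso (o : Option (HG σ)) : hG σ (vec σ o) (vec σ o) = 0 := by
  rcases o with _ | x
  · simp [vec, hG]
  · have h := x.h
    simp only [vec, hG, Matrix.cons_val_zero, Matrix.cons_val_one, Matrix.cons_val, map_one, mul_one, one_mul, sig]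
    linear_combination h

omit [Fintype F] hσ in
theorem vec_ne (o : Option (HG σ)) : vec σ o ≠ 0 := by
  rcases o with _ | x
  · intro h
    have := congrFun h 0
    simp [vec] at this
  · intro h
    have := congrFun h 2
    simp [vec] at this

/-- the parametrisation -/
def par (σ : F →+* F) [hσ : Fact (∀ x, σ (σ x) = x)] (y : Fˣ × Option (HG σ)) : X σ :=
  ⟨(y.1 : F) • vec σ y.2, smul_ne_zero y.1.ne_zero (vec_ne _), by
    rw [hG_smul_left, hG_smul_right, vec_iso, mul_zero, mul_zero]⟩

omit [Fintype F] in
theorem par_bijective : Function.Bijective (par σ) := by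
  constructor
  · rintro ⟨l, o⟩ ⟨l', o'⟩ h
    have h0 : (l : F) * vec σ o 0 = (l' : F) * vec σ o' 0 := congrFun (congrArg Subtype.val h) 0
    have h1 : (l : F) * vec σ o 1 = (l' : F) * vec σ o' 1 := congrFun (congrArg Subtype.val h) 1
    have h2 : (l : F) * vec σ o 2 = (l' : F) * vec σ o' 2 := congrFun (congrArg Subtype.val h) 2
    rcases o with _ | x <;> rcases o' with _ | y <;> simp only [vec, _root_.Fin.isValue, _root_.Matrix.cons_val_zero, _root_.mul_one, _root_.Matrix.cons_val_one, _root_.MulZeroClass.mul_zero, _root_.Matrix.cons_val, _root_.zero_eq_mul, _root_.Units.ne_zero, _root_.map_eq_zero, _root_.false_or, _root_.mul_eq_zero] at h0 h1 h2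
    · exact Prod.ext (Units.ext h0) rfl
    · exact absurd h2.symm l'.ne_zero
    · have h3 : l = l' := Units.ext h2
      subst h3
      have hl := l.ne_zero
      have h4 : x.b = y.b := mul_left_cancel₀ hl (by simpa using h0)
      have h5 : x.a = y.a := σ.injective (by simpa using h1)
      have h6 : x = y := HG.ext h5 h4
      rw [h6]
  · rintro ⟨w, hw, hiso⟩
    by_cases h2 : w 2 = 0
    · have h1 : w 1 = 0 := by
        simp only [hG, h2, map_zero, mul_zero, zero_mul, zero_sub, add_zero, neg_eq_zero, mul_eq_zero, map_eq_zero,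
          or_self] at hiso
        exact hiso
      have h0 : w 0 ≠ 0 := by
        intro h0
        apply hw
        funext i
        fin_cases i
        · exact h0
        · exact h1
        · exact h2
      refine ⟨(Units.mk0 (w 0) h0, none), ?_⟩
      apply Subtype.ext
      funext i
      fin_cases i
      · simp [par, vec]
      · simp [par, vec, h1]
      · simp [par, vec, h2]
    · refine ⟨(Units.mk0 (w 2) h2, some ⟨σ (w 1 / w 2), w 0 / w 2, ?_⟩), ?_⟩
      · have h2' : σ (w 2) ≠ 0 := (map_ne_zero σ).mpr h2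
        rw [sig, map_div₀, map_div₀]
        simp only [hG] at hiso
        field_simp
        linear_combination hiso
      · apply Subtype.ext
        funext i
        fin_cases i
        · simp only [par, vec, _root_.ne_eq, _root_.Fin.isValue, _root_.Units.val_mk0, _root_.map_div₀, _root_.Matrix.smul_cons, _root_.smul_eq_mul, _root_.mul_one, _root_.Matrix.smul_empty, _root_.Fin.zero_eta, _root_.Matrix.cons_val_zero]
          field_simp
        · simp only [par, vec, sig, _root_.ne_eq, _root_.Fin.isValue, _root_.Units.val_mk0, _root_.map_div₀, _root_.Matrix.smul_cons, _root_.smul_eq_mul, _root_.mul_one, _root_.Matrix.smul_empty, _root_.Fin.mk_one, _root_.Matrix.cons_val_one, _root_.Matrix.cons_val_zero]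
          field_simp
        · simp only [par, vec, _root_.ne_eq, _root_.Fin.isValue, _root_.Units.val_mk0, _root_.map_div₀, _root_.Matrix.smul_cons, _root_.smul_eq_mul, _root_.mul_one, _root_.Matrix.smul_empty, _root_.Fin.reduceFinMk, _root_.Matrix.cons_val]

theorem sum_X (hF : Fintype.card F = q ^ 2) (f : (Fin 3 → F) → F) [Fintype (HG σ)]
    (hf : ∀ (l : Fˣ) o, f ((l : F) • vec σ o) = f (vec σ o)) :
    ∑ w : X σ, f w.1 = -(f (vec σ none) + ∑ x : HG σ, f (vec σ (some x))) := by
  classical
  rw [← (Equiv.ofBijective _ par_bijective).sum_comp (fun w : X σ => f w.1), Fintype.sum_prod_type]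
  have h1 : ∀ l : Fˣ, ∑ o : Option (HG σ), f ((Equiv.ofBijective _ par_bijective (l, o) : X σ)).1 =
      f (vec σ none) + ∑ x : HG σ, f (vec σ (some x)) := by
    intro l
    rw [Fintype.sum_option]
    simp only [Equiv.ofBijective_apply]
    congr 1
    · exact hf l none
    · exact Finset.sum_congr rfl fun x _ => hf l (some x)
  rw [Finset.sum_congr rfl fun l _ => h1 l, Finset.sum_const, Finset.card_univ, nsmul_eq_mul]
  have h2 : ((Fintype.card Fˣ : ℕ) : F) = -1 := by
    have h3 : ((Fintype.card Fˣ + 1 : ℕ) : F) = 0 := by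
      have h4 : Fintype.card Fˣ + 1 = Fintype.card F := by
        have := Fintype.card_units (α := F)
        have h5 : 0 < Fintype.card F := Fintype.card_pos
        omega
      rw [h4]
      exact FiniteField.cast_card_eq_zero F
    push_cast at h3
    linear_combination h3
  rw [h2, neg_one_mul]

/-- the number of elements of given norm is one modulo the characteristic -/
theorem card_norm (hF : Fintype.card F = q ^ 2) (hs : ∀ x, σ x = x ^ q) {c : F} (hc : σ c = c) :
    ((Nat.card {a : F // a * σ a = c} : ℕ) : F) = 1 := by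
  classical
  by_cases h0 : c = 0
  · have h1 : Nat.card {a : F // a * σ a = c} = 1 := by
      rw [Nat.card_eq_one_iff_unique]
      refine ⟨⟨?_⟩, ⟨0, by rw [zero_mul, h0]⟩⟩
      rintro ⟨a, ha⟩ ⟨b, hb⟩
      rw [h0, mul_eq_zero, map_eq_zero, or_self] at ha hb
      exact Subtype.ext (ha.trans hb.symm)
    rw [h1, Nat.cast_one]
  · have h1 : Nat.card {a : F // a * σ a = c} = q + 1 := by
      rw [← LieClassical.HermBasic.card_norm_eq hF (c := c) (by rw [← hs, hc]) h0]
      exact Nat.card_congr (Equiv.subtypeEquivRight fun a => by rw [hs])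
    have h2 : ((q : ℕ) : F) = 0 := by
      have h3 : ((q ^ 2 : ℕ) : F) = 0 := by rw [← hF]; exact FiniteField.cast_card_eq_zero F
      push_cast at h3
      exact pow_eq_zero_iff (by norm_num) |>.1 h3
    rw [h1]
    push_cast
    rw [h2, zero_add]

theorem sum_HG (hF : Fintype.card F = q ^ 2) (hs : ∀ x, σ x = x ^ q) (g : F → F) [Fintype (HG σ)] :
    ∑ x : HG σ, g x.b = ∑ b : F, g b := by
  classical
  let e : HG σ ≃ (Σ b : F, {a : F // a * σ a = b + σ b}) :=
    { toFun := fun x => ⟨x.b, x.a, x.h.symm⟩
      invFun := fun y => ⟨y.2.1, y.1, y.2.2.symm⟩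
      left_inv := fun x => rfl
      right_inv := fun y => rfl }
  rw [← e.symm.sum_comp, Fintype.sum_sigma]
  refine Finset.sum_congr rfl fun b _ => ?_
  have h1 : ∀ a : {a : F // a * σ a = b + σ b}, g (e.symm ⟨b, a⟩).b = g b := fun a => rfl
  rw [Finset.sum_congr rfl fun a _ => h1 a, Finset.sum_const, Finset.card_univ, nsmul_eq_mul,
    ← Nat.card_eq_fintype_card, card_norm hF hs (by rw [map_add, sig, add_comm]), one_mul]

/-- the norm to the power `m` is one -/
theorem norm_pow {m : ℕ} (hF : Fintype.card F = q ^ 2) (hs : ∀ x, σ x = x ^ q) (hm : q ^ 2 - 1 = 2 * m) (hq : Odd q)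
    {l : F} (hl : l ≠ 0) : σ l ^ m * l ^ m = 1 := by
  obtain ⟨k, hk⟩ := hq
  have h1 : l ^ (q ^ 2 - 1) = 1 := by rw [← hF]; exact FiniteField.pow_card_sub_one_eq_one l hl
  rw [← mul_pow, hs, ← pow_succ, ← pow_mul]
  have h2 : (q + 1) * m = (q ^ 2 - 1) * (k + 1) := by rw [hm, hk]; ring
  rw [h2, pow_mul, h1, one_pow]

/-- the sum -/
noncomputable def TT (σ : F →+* F) (m : ℕ) (v v' : Fin 3 → F) : F := ∑ w : X σ, hG σ v w.1 ^ m * hG σ w.1 v' ^ m

theorem TT_smul_left (m : ℕ) (c : F) (v v' : Fin 3 → F) : TT σ m (c • v) v' = c ^ m * TT σ m v v' := by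
  unfold TT
  rw [Finset.mul_sum]
  refine Finset.sum_congr rfl fun w _ => ?_
  rw [hG_smul_left, mul_pow]; ring

theorem TT_smul_right (m : ℕ) (c : F) (v v' : Fin 3 → F) : TT σ m v (c • v') = σ c ^ m * TT σ m v v' := by
  unfold TT
  rw [Finset.mul_sum]
  refine Finset.sum_congr rfl fun w _ => ?_
  rw [hG_smul_right, mul_pow]; ring

/-- elements of the group permute the isotropic vectors -/
def perm (g : SUG σ) : X σ → X σ := fun w => ⟨g.1.1 *ᵥ w.1, by
  intro h
  apply w.2.1
  have h1 := congrArg (fun y => (g⁻¹).1.1 *ᵥ y) h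
  simp only [Matrix.mulVec_mulVec, Matrix.mulVec_zero] at h1
  rw [← coe_mul_SUG, inv_mul_cancel] at h1
  have h2 : ((1 : SUG σ).1.1 : Matrix (Fin 3) (Fin 3) F) = 1 := rfl
  rwa [h2, Matrix.one_mulVec] at h1, by rw [hG_mulVec]; exact w.2.2⟩

theorem perm_bijective (g : SUG σ) : Function.Bijective (perm g) := by
  have h1 : ∀ g : SUG σ, ∀ w, perm g⁻¹ (perm g w) = w := by
    intro g w
    apply Subtype.ext
    show (g⁻¹).1.1 *ᵥ (g.1.1 *ᵥ w.1) = w.1
    rw [Matrix.mulVec_mulVec, ← coe_mul_SUG, inv_mul_cancel]
    have h2 : ((1 : SUG σ).1.1 : Matrix (Fin 3) (Fin 3) F) = 1 := rfl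
    rw [h2, Matrix.one_mulVec]
  refine ⟨Function.LeftInverse.injective (h1 g), fun w => ⟨perm g⁻¹ w, ?_⟩⟩
  have := h1 g⁻¹ w
  rwa [inv_inv] at this

theorem TT_mulVec (m : ℕ) (g : SUG σ) (v v' : Fin 3 → F) :
    TT σ m (g.1.1 *ᵥ v) (g.1.1 *ᵥ v') = TT σ m v v' := by
  unfold TT
  rw [← (Equiv.ofBijective _ (perm_bijective g)).sum_comp]
  refine Finset.sum_congr rfl fun w _ => ?_
  show hG σ (g.1.1 *ᵥ v) (g.1.1 *ᵥ w.1) ^ m * hG σ (g.1.1 *ᵥ w.1) (g.1.1 *ᵥ v') ^ m = _
  rw [hG_mulVec, hG_mulVec]

/-- **the matrix has square zero** -/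
theorem sq_zero (hF : Fintype.card F = q ^ 2) (hs : ∀ x, σ x = x ^ q) {m : ℕ} (hm : q ^ 2 - 1 = 2 * m) (hq : Odd q)
    (v v' : X σ) : TT σ m v.1 v'.1 = 0 := by
  classical
  have : Fintype (HG σ) := Fintype.ofInjective (fun x : HG σ => (x.a, x.b)) (fun x y h => by
    ext
    · exact congrArg Prod.fst h
    · exact congrArg Prod.snd h)
  have h2le := LieClassical.HermBasic.two_le hF
  have hm0 : 0 < m := by
    have : 2 ^ 2 ≤ q ^ 2 := Nat.pow_le_pow_left h2le 2
    omega
  have hq0 : ((q : ℕ) : F) = 0 := by
    have h3 : ((q ^ 2 : ℕ) : F) = 0 := by rw [← hF]; exact FiniteField.cast_card_eq_zero F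
    push_cast at h3
    exact pow_eq_zero_iff (by norm_num) |>.1 h3
  -- `e₀`, `e₀`
  have hhom : ∀ u u' : Fin 3 → F, ∀ (l : Fˣ) o, hG σ u ((l : F) • vec σ o) ^ m * hG σ ((l : F) • vec σ o) u' ^ m =
      hG σ u (vec σ o) ^ m * hG σ (vec σ o) u' ^ m := by
    intro u u' l o
    rw [hG_smul_left, hG_smul_right, mul_pow, mul_pow]
    have := norm_pow hF hs hm hq l.ne_zero
    linear_combination (hG σ u (vec σ o) ^ m * hG σ (vec σ o) u' ^ m) * this
  have c1 : TT σ m ![1, 0, 0] ![1, 0, 0] = 0 := by
    unfold TT
    rw [sum_X hF (fun w => hG σ ![1, 0, 0] w ^ m * hG σ w ![1, 0, 0] ^ m) (hhom _ _)]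
    have h1 : ∀ x : HG σ, hG σ ![1, 0, 0] (vec σ (some x)) ^ m * hG σ (vec σ (some x)) ![1, 0, 0] ^ m = 1 := by
      intro x
      simp [hG, vec]
    rw [Finset.sum_congr rfl fun x _ => h1 x, Finset.sum_const, Finset.card_univ, nsmul_eq_mul, mul_one,
      ← Nat.card_eq_fintype_card, H212.U3.Model.card_HG hF hs]
    push_cast
    rw [hq0]
    simp [hG, vec, hm0.ne']
  have c2 : TT σ m ![1, 0, 0] ![0, 0, 1] = 0 := by
    unfold TT
    rw [sum_X hF (fun w => hG σ ![1, 0, 0] w ^ m * hG σ w ![0, 0, 1] ^ m) (hhom _ _)]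
    have h1 : ∀ x : HG σ, hG σ ![1, 0, 0] (vec σ (some x)) ^ m * hG σ (vec σ (some x)) ![0, 0, 1] ^ m = x.b ^ m := by
      intro x
      simp only [hG, vec, _root_.Fin.isValue, _root_.Matrix.cons_val_zero, _root_.Matrix.cons_val, _root_.map_one, _root_.mul_one, _root_.Matrix.cons_val_one, _root_.MulZeroClass.zero_mul, _root_.sub_zero, _root_.add_zero, _root_.one_pow, _root_.map_zero, _root_.MulZeroClass.mul_zero, _root_.one_mul]
    rw [Finset.sum_congr rfl fun x _ => h1 x, sum_HG hF hs (fun b => b ^ m),
      FiniteField.sum_pow_lt_card_sub_one F m (by rw [hF]; omega)]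
    simp only [hG, vec, hm0.ne', _root_.Fin.isValue, _root_.Matrix.cons_val_zero, _root_.Matrix.cons_val, _root_.map_zero, _root_.MulZeroClass.mul_zero, _root_.Matrix.cons_val_one, _root_.sub_self, _root_.map_one, _root_.mul_one, _root_.add_zero, _root_.ne_eq, _root_.not_false_eq_true, _root_.zero_pow, _root_.sub_zero, _root_.one_pow, _root_.neg_zero]
  -- all vectors in terms of the two
  have hform : ∀ u : X σ, ∃ (l : Fˣ) (o : Option (HG σ)), u.1 = (l : F) • vec σ o := by
    intro u
    obtain ⟨⟨l, o⟩, h⟩ := (par_bijective (σ := σ)).2 u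
    exact ⟨l, o, by rw [← h]; rfl⟩
  have hemb0 : ∀ x : HG σ, (emb σ x).1.1 *ᵥ ![1, 0, 0] = (![1, 0, 0] : Fin 3 → F) := by
    intro x
    rw [emb_val]
    funext i
    (revert i; simp only [umat, Matrix.mulVec, dotProduct, Fin.sum_univ_three, _root_.Fin.forall_fin_succ, _root_.Matrix.of_apply, _root_.Matrix.cons_val', _root_.Matrix.cons_val_fin_one, Fin.isValue, _root_.Matrix.cons_val_zero, _root_.mul_one, _root_.Matrix.cons_val_one, _root_.MulZeroClass.mul_zero, _root_.add_zero, _root_.Matrix.cons_val, _root_.Matrix.cons_val_succ, _root_.implies_true, _root_.and_self])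
  have hemb2 : ∀ x : HG σ, (emb σ x).1.1 *ᵥ ![0, 0, 1] = vec σ (some x) := by
    intro x
    rw [emb_val]
    funext i
    (revert i; simp only [umat, vec, Matrix.mulVec, dotProduct, Fin.sum_univ_three, _root_.Fin.forall_fin_succ, _root_.Matrix.of_apply, _root_.Matrix.cons_val', _root_.Matrix.cons_val_fin_one, Fin.isValue, _root_.Matrix.cons_val_zero, _root_.MulZeroClass.mul_zero, _root_.Matrix.cons_val_one, _root_.add_zero, _root_.Matrix.cons_val, _root_.mul_one, _root_.zero_add, _root_.Matrix.cons_val_succ, _root_.implies_true, _root_.and_self])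
  have hwel : (wel σ).1.1 *ᵥ ![0, 0, 1] = (-1 : F) • (![1, 0, 0] : Fin 3 → F) := by
    rw [wel_val]
    funext i
    (revert i; simp only [Wm, Matrix.mulVec, dotProduct, Fin.sum_univ_three, _root_.Fin.forall_fin_succ, _root_.Matrix.of_apply, _root_.Matrix.cons_val', _root_.Matrix.cons_val_fin_one, Fin.isValue, _root_.Matrix.cons_val_zero, _root_.MulZeroClass.mul_zero, _root_.Matrix.cons_val_one, _root_.add_zero, _root_.Matrix.cons_val, _root_.mul_one, _root_.zero_add, _root_.Nat.succ_eq_add_one, Nat.reduceAdd, _root_.Pi.smul_apply, _root_.smul_eq_mul, _root_.neg_mul, _root_.one_mul, _root_.Matrix.cons_val_succ, _root_.neg_zero, _root_.implies_true, _root_.and_self])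
  have d1 : ∀ u : X σ, TT σ m ![1, 0, 0] u.1 = 0 := by
    intro u
    obtain ⟨l, o, h⟩ := hform u
    rw [h, TT_smul_right]
    rcases o with _ | x
    · show _ * TT σ m ![1, 0, 0] ![1, 0, 0] = 0
      rw [c1, mul_zero]
    · rw [← hemb2 x, ← hemb0 x, TT_mulVec, c2, mul_zero]
  have d2 : ∀ u : X σ, TT σ m ![0, 0, 1] u.1 = 0 := by
    intro u
    rw [← TT_mulVec m (wel σ), hwel, TT_smul_left]
    have := d1 (perm (wel σ) u)
    change TT σ m ![1, 0, 0] ((wel σ).1.1 *ᵥ u.1) = 0 at this
    rw [this, mul_zero]
  obtain ⟨l, o, h⟩ := hform v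
  rw [h, TT_smul_left]
  rcases o with _ | x
  · show _ * TT σ m ![1, 0, 0] _ = 0
    rw [d1, mul_zero]
  · rw [← hemb2 x]
    have h3 : (v'.1 : Fin 3 → F) = (emb σ x).1.1 *ᵥ (perm (emb σ x)⁻¹ v').1 := by
      show v'.1 = (emb σ x).1.1 *ᵥ (((emb σ x)⁻¹ : SUG σ).1.1 *ᵥ v'.1)
      rw [Matrix.mulVec_mulVec, ← coe_mul_SUG, mul_inv_cancel]
      have h2 : ((1 : SUG σ).1.1 : Matrix (Fin 3) (Fin 3) F) = 1 := rfl
      rw [h2, Matrix.one_mulVec]
    rw [h3, TT_mulVec, d2, mul_zero]

/-- **The two-graph lemma**, in the model. -/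
theorem sum_eq_zero (hF : Fintype.card F = q ^ 2) (hs : ∀ x, σ x = x ^ q) {m : ℕ} (hm : q ^ 2 - 1 = 2 * m) (hq : Odd q)
    (φ : Equiv.Perm (X σ)) (hφ : ∀ v w : X σ, hG σ (φ v).1 (φ w).1 ^ m = hG σ v.1 w.1 ^ m) :
    ∑ v : X σ, hG σ v.1 (φ v).1 ^ m = 0 :=
  trace_zero (fun v w : X σ => hG σ v.1 w.1 ^ m) φ (fun v v' => sq_zero hF hs hm hq v v') hφ

/-- the number of nonzero isotropic vectors modulo the characteristic -/
theorem card_X (hF : Fintype.card F = q ^ 2) (hs : ∀ x, σ x = x ^ q) : ((Fintype.card (X σ) : ℕ) : F) = -1 := by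
  classical
  have : Fintype (HG σ) := Fintype.ofInjective (fun x : HG σ => (x.a, x.b)) (fun x y h => by
    ext
    · exact congrArg Prod.fst h
    · exact congrArg Prod.snd h)
  have hq0 : ((q : ℕ) : F) = 0 := by
    have h3 : ((q ^ 2 : ℕ) : F) = 0 := by rw [← hF]; exact FiniteField.cast_card_eq_zero F
    push_cast at h3
    exact pow_eq_zero_iff (by norm_num) |>.1 h3
  have h1 := sum_X (σ := σ) hF (fun _ => 1) (fun _ _ => rfl)
  rw [Finset.sum_const, Finset.sum_const, Finset.card_univ, Finset.card_univ, nsmul_eq_mul, nsmul_eq_mul, mul_one,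
    mul_one, ← Nat.card_eq_fintype_card (α := HG σ), H212.U3.Model.card_HG hF hs] at h1
  push_cast at h1
  rw [h1, hq0]
  ring

end Model

end Cfsg.Agent.H705.TG
end

-- part: H705/ComTGStd
section
/-!
# The unitary two-graph in the standard form, and semilinear isometries (helper705)

`exists_square`, `exists_nonsquare` : if the semilinear isometry `φ = A ρ` fixes no isotropic point, then there are isotropic
vectors with `h(v, φ v) ^ m = 1` and with `h(v, φ v) ^ m = -1`, where `m = (q² - 1) / 2`.
-/

set_option autoImplicit false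
set_option linter.unusedSectionVars false

namespace Cfsg.Agent.H705.TG

open Matrix Cfsg Cfsg.Agent.UThreeGen.MatGroup Cfsg.Agent.LieClassical.HermBasic
open Cfsg.Agent.ClassicalGeometry.PSUAutCount

variable {F : Type*} [Field F] [Fintype F] {q : ℕ}

/-- nonzero isotropic vectors of the standard form -/
def Y (F : Type*) [Field F] (q : ℕ) : Type _ := {w : Fin 3 → F // w ≠ 0 ∧ hermForm 3 F q w w = 0}

noncomputable instance : Fintype (Y F q) := by
  classical
  exact Subtype.fintype _

theorem exists_frob (hF : Fintype.card F = q ^ 2) : ∃ σ : F →+* F, (∀ x, σ x = x ^ q) ∧ ∀ x, σ (σ x) = x :=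
  ⟨(conj hF : F →+* F), fun x => conj_apply hF x, fun x => by
    show conj hF (conj hF x) = x
    rw [conj_apply, conj_apply, pow_q_pow_q hF]⟩

theorem herm_T {σ : F →+* F} (hs : ∀ x, σ x = x ^ q) {T : Matrix (Fin 3) (Fin 3) F} (hT : Tᵀ * T.map σ = -Gm F)
    (x y : Fin 3 → F) : hermForm 3 F q (T *ᵥ x) (T *ᵥ y) = -hG σ x y := by
  have e : ∀ i j, T 0 i * σ (T 0 j) + T 1 i * σ (T 1 j) + T 2 i * σ (T 2 j) = -Gm F i j := by
    intro i j
    have := congrFun (congrFun hT i) j
    rw [Matrix.mul_apply, Fin.sum_univ_three] at this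
    simpa only [Matrix.transpose_apply, Matrix.map_apply, _root_.Fin.isValue, _root_.Matrix.neg_apply] using this
  have key : hermForm 3 F q (T *ᵥ x) (T *ᵥ y) = ∑ i, ∑ j, x i * σ (y j) *
      (T 0 i * σ (T 0 j) + T 1 i * σ (T 1 j) + T 2 i * σ (T 2 j)) := by
    simp only [herm_def, ← hs, Matrix.mulVec, dotProduct, Fin.sum_univ_three, map_add, map_mul]
    ring
  rw [key]
  simp only [e, Gm, Fin.sum_univ_three, hG]
  simp only [_root_.Fin.isValue, _root_.Matrix.of_apply, _root_.Matrix.cons_val', _root_.Matrix.cons_val_zero, _root_.Matrix.cons_val_fin_one, _root_.neg_zero, _root_.MulZeroClass.mul_zero, _root_.Matrix.cons_val_one, _root_.add_zero, _root_.Matrix.cons_val, _root_.mul_neg, _root_.mul_one, _root_.zero_add, _root_.neg_neg, _root_.neg_add_rev, _root_.neg_sub]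
  ring

/-- the two models -/
theorem exists_equiv (hF : Fintype.card F = q ^ 2) (hq : Odd q) : ∃ (σ : F →+* F) (_ : Fact (∀ x, σ (σ x) = x))
    (e : X σ ≃ Y F q), (∀ x, σ x = x ^ q) ∧ ∀ v w : X σ, hermForm 3 F q (e v).1 (e w).1 = -hG σ v.1 w.1 := by
  obtain ⟨σ, hs, hσ⟩ := exists_frob hF
  have hσ' : Fact (∀ x, σ (σ x) = x) := ⟨hσ⟩
  have hF' : Nat.card F = q ^ 2 := by rw [Nat.card_eq_fintype_card, hF]
  have h2le := two_le hF
  have h2 : (2 : F) ≠ 0 := by
    intro h2
    have h3 : CharP F 2 := CharTwo.of_one_ne_zero_of_two_eq_zero one_ne_zero h2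
    obtain ⟨n, -, hn⟩ := FiniteField.card F 2
    rw [hF] at hn
    have h4 : Even (q ^ 2) := by rw [hn]; exact (Nat.even_pow' n.ne_zero).2 even_two
    exact (Nat.not_even_iff_odd.2 hq.pow) h4
  obtain ⟨v, hv⟩ := UThreeGen.Recog.exists_norm (σ := σ) h2le hs hF' (c := -1) (by rw [map_neg, map_one])
  obtain ⟨T, T', hTT', hT⟩ := UThreeGen.Recog.exists_T (σ := σ) h2 hv
  have hT'T : T' * T = 1 := mul_eq_one_comm.1 hTT'
  have hh := herm_T hs hT
  have hinv : ∀ x, T' *ᵥ (T *ᵥ x) = x := fun x => by rw [Matrix.mulVec_mulVec, hT'T, Matrix.one_mulVec]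
  have hinv' : ∀ x, T *ᵥ (T' *ᵥ x) = x := fun x => by rw [Matrix.mulVec_mulVec, hTT', Matrix.one_mulVec]
  refine ⟨σ, hσ', ⟨fun v => ⟨T *ᵥ v.1, ?_, ?_⟩, fun w => ⟨T' *ᵥ w.1, ?_, ?_⟩, fun v => ?_, fun w => ?_⟩, hs, fun v w => ?_⟩
  · intro h
    apply v.2.1
    rw [← hinv v.1, h, Matrix.mulVec_zero]
  · rw [hh, v.2.2, neg_zero]
  · intro h
    apply w.2.1
    rw [← hinv' w.1, h, Matrix.mulVec_zero]
  · have h1 := hh (T' *ᵥ w.1) (T' *ᵥ w.1)
    rw [hinv', w.2.2] at h1
    exact neg_eq_zero.1 h1.symm
  · exact Subtype.ext (hinv v.1)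
  · exact Subtype.ext (hinv' w.1)
  · exact hh v.1 w.1

/-- `m = (q² - 1) / 2` is even -/
theorem even_m {m : ℕ} (hm : q ^ 2 - 1 = 2 * m) (hq : Odd q) : Even m := by
  obtain ⟨k, rfl⟩ := hq
  have h1 : (2 * k + 1) ^ 2 - 1 = 2 * (2 * (k * (k + 1))) := by
    have : (2 * k + 1) ^ 2 = 2 * (2 * (k * (k + 1))) + 1 := by ring
    (clear * - this; omega)
  exact ⟨k * (k + 1), by omega⟩

theorem sum_eq_zero_std (hF : Fintype.card F = q ^ 2) {m : ℕ} (hm : q ^ 2 - 1 = 2 * m) (hq : Odd q)
    (φ : Equiv.Perm (Y F q)) (hφ : ∀ v w : Y F q, hermForm 3 F q (φ v).1 (φ w).1 ^ m = hermForm 3 F q v.1 w.1 ^ m) :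
    ∑ v : Y F q, hermForm 3 F q v.1 (φ v).1 ^ m = 0 := by
  classical
  obtain ⟨σ, hσ, e, hs, he⟩ := exists_equiv hF hq
  have hev := even_m hm hq
  have h1 := sum_eq_zero hF hs hm hq ((e.trans φ).trans e.symm) (by
    intro v w
    have h2 := hφ (e v) (e w)
    rw [he, hev.neg_pow] at h2
    rw [← h2, ← hev.neg_pow, ← he]
    simp only [_root_.ne_eq, _root_.Equiv.trans_apply, _root_.Equiv.apply_symm_apply])
  refine Eq.trans ?_ h1
  rw [← e.sum_comp]
  refine Finset.sum_congr rfl fun v _ => ?_
  have h3 : φ (e v) = e (((e.trans φ).trans e.symm) v) := by simp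
  rw [h3, he, hev.neg_pow]

theorem card_Y (hF : Fintype.card F = q ^ 2) (hq : Odd q) : ((Fintype.card (Y F q) : ℕ) : F) = -1 := by
  obtain ⟨σ, hσ, e, hs, -⟩ := exists_equiv hF hq
  rw [← card_X (σ := σ) hF hs]
  congr 1
  exact (Fintype.card_congr e).symm

/-- the semilinear isometry `v ↦ A ρ(v)` on isotropic vectors -/
def phi (A : Cfsg.GU 3 F q) (ρ : F ≃+* F) (v : Fin 3 → F) : Fin 3 → F := gm A *ᵥ fun i => ρ (v i)

omit [Fintype F] in
theorem herm_phi (A : Cfsg.GU 3 F q) (ρ : F ≃+* F) (v w : Fin 3 → F) :
    hermForm 3 F q (phi A ρ v) (phi A ρ w) = ρ (hermForm 3 F q v w) := herm_semi A ρ v w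

omit [Fintype F] in
theorem phi_smul (A : Cfsg.GU 3 F q) (ρ : F ≃+* F) (c : F) (v : Fin 3 → F) : phi A ρ (c • v) = ρ c • phi A ρ v := by
  unfold phi
  rw [← Matrix.mulVec_smul]
  congr 1
  funext i
  simp

/-- the permutation of the isotropic vectors -/
def phiE (A : Cfsg.GU 3 F q) (ρ : F ≃+* F) : Equiv.Perm (Y F q) where
  toFun v := ⟨phi A ρ v.1, by
    intro h
    apply v.2.1
    have h1 : (fun i => ρ (v.1 i)) = 0 := by
      have := congrArg (fun y => gm A⁻¹ *ᵥ y) h
      simp only [phi, gm_inv_mulVec, Matrix.mulVec_zero] at this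
      exact this
    funext i
    have := congrFun h1 i
    simpa using this, by rw [herm_phi, v.2.2, map_zero]⟩
  invFun w := ⟨fun i => ρ.symm ((gm A⁻¹ *ᵥ w.1) i), by
    intro h
    apply w.2.1
    have h1 : gm A⁻¹ *ᵥ w.1 = 0 := by
      funext i
      have := congrFun h i
      simpa using this
    rw [← gm_mulVec_inv A w.1, h1, Matrix.mulVec_zero], by
    rw [herm_map, herm_gm, w.2.2, map_zero]⟩
  left_inv v := by
    apply Subtype.ext
    funext i
    show ρ.symm ((gm A⁻¹ *ᵥ (gm A *ᵥ fun i => ρ (v.1 i))) i) = v.1 i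
    rw [gm_inv_mulVec, RingEquiv.symm_apply_apply]
  right_inv w := by
    apply Subtype.ext
    show gm A *ᵥ (fun i => ρ (ρ.symm ((gm A⁻¹ *ᵥ w.1) i))) = w.1
    simp only [RingEquiv.apply_symm_apply]
    exact gm_mulVec_inv A w.1

/-- values of the quadratic character -/
theorem pow_m_cases {m : ℕ} (hF : Fintype.card F = q ^ 2) (hm : q ^ 2 - 1 = 2 * m) (x : F) (hx : x ≠ 0) :
    x ^ m = 1 ∨ x ^ m = -1 := by
  have h1 : (x ^ m) ^ 2 = 1 := by
    rw [← pow_mul, mul_comm, ← hm, ← hF]
    exact FiniteField.pow_card_sub_one_eq_one x hx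
  exact sq_eq_one_iff.1 h1

theorem map_pow_m {m : ℕ} (hF : Fintype.card F = q ^ 2) (hm : q ^ 2 - 1 = 2 * m) (hm0 : m ≠ 0) (ρ : F ≃+* F) (x : F) :
    (ρ x) ^ m = x ^ m := by
  by_cases hx : x = 0
  · rw [hx, map_zero]
  · rw [← map_pow]
    rcases pow_m_cases hF hm x hx with h | h
    · rw [h, map_one]
    · rw [h, map_neg, map_one]

/-- both values occur -/
theorem exists_both (hF : Fintype.card F = q ^ 2) (hq : Odd q) {m : ℕ} (hm : q ^ 2 - 1 = 2 * m) (A : Cfsg.GU 3 F q)
    (ρ : F ≃+* F) (hno : ∀ v : Fin 3 → F, v ≠ 0 → hermForm 3 F q v v = 0 → hermForm 3 F q v (phi A ρ v) ≠ 0) :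
    (∃ v : Fin 3 → F, v ≠ 0 ∧ hermForm 3 F q v v = 0 ∧ hermForm 3 F q v (phi A ρ v) ^ m = 1) ∧
      ∃ v : Fin 3 → F, v ≠ 0 ∧ hermForm 3 F q v v = 0 ∧ hermForm 3 F q v (phi A ρ v) ^ m = -1 := by
  classical
  have h2le := two_le hF
  have hm0 : m ≠ 0 := by
    rintro rfl
    have : 2 ^ 2 ≤ q ^ 2 := Nat.pow_le_pow_left h2le 2
    omega
  have h0 := sum_eq_zero_std hF hm hq (phiE A ρ) (fun v w => by
    show hermForm 3 F q (phi A ρ v.1) (phi A ρ w.1) ^ m = _
    rw [herm_phi, map_pow_m hF hm hm0])
  have hcard := card_Y (F := F) hF hq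
  have hval : ∀ v : Y F q, hermForm 3 F q v.1 (phiE A ρ v).1 ^ m = 1 ∨ hermForm 3 F q v.1 (phiE A ρ v).1 ^ m = -1 :=
    fun v => pow_m_cases hF hm _ (hno v.1 v.2.1 v.2.2)
  constructor
  · by_contra hcon
    push Not at hcon
    have h1 : ∀ v : Y F q, hermForm 3 F q v.1 (phiE A ρ v).1 ^ m = -1 := fun v =>
      (hval v).resolve_left (hcon v.1 v.2.1 v.2.2)
    rw [Finset.sum_congr rfl fun v _ => h1 v, Finset.sum_const, Finset.card_univ, nsmul_eq_mul, hcard] at h0
    simp at h0
  · by_contra hcon
    push Not at hcon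
    have h1 : ∀ v : Y F q, hermForm 3 F q v.1 (phiE A ρ v).1 ^ m = 1 := fun v =>
      (hval v).resolve_right (hcon v.1 v.2.1 v.2.2)
    rw [Finset.sum_congr rfl fun v _ => h1 v, Finset.sum_const, Finset.card_univ, nsmul_eq_mul, hcard] at h0
    simp at h0

end Cfsg.Agent.H705.TG
end

-- part: H705/ComUOrd
section
/-!
# The order of a product of two unitary transvections (helper705)
-/

set_option autoImplicit false
set_option linter.unusedSectionVars false

namespace Cfsg.Agent.H705.UOrd

open Cfsg Cfsg.Agent.LieClassical.HermBasic Cfsg.Agent.LieClassical.HermSiegel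
open Cfsg.Agent.ClassicalGeometry.UnitAutBasic Polynomial

/-- three distinct roots of unity -/
theorem dvd_of_roots {F : Type*} [Field F] {ζ : F} {k : ℕ} (hk : ζ ^ k = 1) (h0 : ζ ≠ 0) (h1 : ζ ≠ 1) (h2 : ζ * ζ ≠ 1) :
    ((X - C 1) * ((X - C ζ) * (X - C ζ⁻¹)) : F[X]) ∣ X ^ k - 1 := by
  have hi : ζ⁻¹ ^ k = 1 := by rw [inv_pow, hk, inv_one]
  have hne : ζ⁻¹ ≠ 1 := by
    intro h
    exact h1 (inv_eq_one.1 h)
  have hne2 : ζ ≠ ζ⁻¹ := by
    intro h
    apply h2
    nth_rw 1 [h]
    exact inv_mul_cancel₀ h0
  have hroot : ∀ a : F, a ^ k = 1 → (X - C a) ∣ (X ^ k - 1 : F[X]) := by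
    intro a ha
    rw [dvd_iff_isRoot, IsRoot.def, eval_sub, eval_pow, eval_X, eval_one, ha, sub_self]
  have hc : ∀ a b : F, a ≠ b → IsCoprime (X - C a : F[X]) (X - C b) := by
    intro a b hab
    exact isCoprime_X_sub_C_of_isUnit_sub (sub_ne_zero.2 hab).isUnit
  refine IsCoprime.mul_dvd (IsCoprime.mul_right (hc _ _ h1.symm) (hc _ _ hne.symm)) (hroot 1 (one_pow k)) ?_
  exact IsCoprime.mul_dvd (hc _ _ hne2) (hroot _ hk) (hroot _ hi)

variable {F : Type*} [Field F] [Fintype F] {q : ℕ}

theorem act_T_inv (hF : Fintype.card F = q ^ 2) {w : Fin 3 → F} (hw : hermForm 3 F q w w = 0) (x : Fin 3 → F) :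
    act (T hF w)⁻¹ x = x - (c0 hF * hermForm 3 F q x w) • w := by
  symm
  rw [← act_eq_iff, act_T hF hw, herm_sub_left, herm_smul_left, hw, mul_zero, sub_zero, sub_add_cancel]

/-- **The order of a product of two transvections.** -/
theorem pow_eq_one (hF : Fintype.card F = q ^ 2) {v w : Fin 3 → F} (hv : hermForm 3 F q v v = 0)
    (hw : hermForm 3 F q w w = 0) {ζ : F} {k : ℕ} (hk : ζ ^ k = 1) (h0 : ζ ≠ 0) (h1 : ζ ≠ 1) (h2 : ζ * ζ ≠ 1)
    (hτ : 2 - c0 hF ^ 2 * (hermForm 3 F q v w * hermForm 3 F q v w ^ q) = ζ + ζ⁻¹) :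
    ((T hF w)⁻¹ * T hF v) ^ k = 1 := by
  set g := (T hF w)⁻¹ * T hF v with hg
  set a := c0 hF with ha
  set κ := hermForm 3 F q v w with hκ
  have hact : ∀ x, act g x = x + (a * hermForm 3 F q x v) • v -
      (a * (hermForm 3 F q x w + a * hermForm 3 F q x v * κ)) • w := by
    intro x
    rw [hg, act_mul, act_T_inv hF hw, act_T hF hv, herm_add_left, herm_smul_left]
  have hwv : hermForm 3 F q w v = κ ^ q := herm_swap hF v w
  have hgv : act g v = v - (a * κ) • w := by
    rw [hact, hv]
    simp only [_root_.MulZeroClass.mul_zero, _root_.zero_smul, _root_.add_zero, _root_.MulZeroClass.zero_mul, _root_.sub_right_inj]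
    rfl
  have hgw : act g w = w + (a * κ ^ q) • v - (a * (a * κ ^ q * κ)) • w := by
    rw [hact, hw, hwv, zero_add]
  -- the quadratic relation on the span of `v` and `w`
  have hPv : act g (act g v) - (ζ + ζ⁻¹) • act g v + v = 0 := by
    rw [← hτ, hgv, act_sub, act_smul, hgv, hgw]
    funext i
    simp only [Pi.add_apply, Pi.sub_apply, Pi.smul_apply, smul_eq_mul, Pi.zero_apply]
    ring
  have hPw : act g (act g w) - (ζ + ζ⁻¹) • act g w + w = 0 := by
    rw [← hτ, hgw, act_sub, act_add, act_smul, act_smul, hgv, hgw]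
    funext i
    simp only [Pi.add_apply, Pi.sub_apply, Pi.smul_apply, smul_eq_mul, Pi.zero_apply]
    ring
  -- the polynomial relation
  have hpoly : aeval (mat g) ((X - C 1) * ((X - C ζ) * (X - C ζ⁻¹)) : F[X]) = 0 := by
    have e1 : ((X - C 1) * ((X - C ζ) * (X - C ζ⁻¹)) : F[X]) = (X ^ 2 - C (ζ + ζ⁻¹) * X + 1) * (X - 1) := by
      have h3 : (C ζ * C ζ⁻¹ : F[X]) = 1 := by rw [← C_mul, mul_inv_cancel₀ h0, C_1]
      rw [C_1, C_add]
      linear_combination (X - 1 : F[X]) * h3
    rw [e1]
    apply Matrix.ext_of_mulVec_single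
    intro i
    generalize (Pi.single i (1 : F) : Fin 3 → F) = x
    rw [map_mul, Matrix.zero_mulVec, ← Matrix.mulVec_mulVec]
    have e2 : (aeval (mat g) (X - 1 : F[X])).mulVec x = act g x - x := by
      rw [map_sub, aeval_X, map_one, Matrix.sub_mulVec, Matrix.one_mulVec]
      rfl
    have e3 : ∀ y, (aeval (mat g) (X ^ 2 - C (ζ + ζ⁻¹) * X + 1 : F[X])).mulVec y =
        act g (act g y) - (ζ + ζ⁻¹) • act g y + y := by
      intro y
      rw [map_add, map_sub, map_mul, map_pow, aeval_X, aeval_C, map_one, Matrix.add_mulVec, Matrix.sub_mulVec,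
        Matrix.one_mulVec, pow_two, ← Matrix.mulVec_mulVec, Algebra.algebraMap_eq_smul_one, Matrix.smul_mul,
        Matrix.one_mul, Matrix.smul_mulVec]
      rfl
    rw [e2, e3]
    have e4 : act g x - x = (a * hermForm 3 F q x v) • v +
        (-(a * (hermForm 3 F q x w + a * hermForm 3 F q x v * κ))) • w := by
      rw [hact]
      funext i
      simp only [Pi.add_apply, Pi.sub_apply, Pi.smul_apply, smul_eq_mul]
      ring
    rw [e4]
    generalize a * hermForm 3 F q x v = c
    generalize (-(a * (hermForm 3 F q x w + c * κ))) = d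
    rw [act_add, act_smul, act_smul, act_add, act_smul, act_smul]
    have e5 : c • act g (act g v) + d • act g (act g w) - (ζ + ζ⁻¹) • (c • act g v + d • act g w) + (c • v + d • w) =
        c • (act g (act g v) - (ζ + ζ⁻¹) • act g v + v) + d • (act g (act g w) - (ζ + ζ⁻¹) • act g w + w) := by
      funext i
      simp only [Pi.add_apply, Pi.sub_apply, Pi.smul_apply, smul_eq_mul]
      ring
    rw [e5, hPv, hPw, smul_zero, smul_zero, add_zero]
  obtain ⟨Q, hQ⟩ := dvd_of_roots hk h0 h1 h2
  have h3 : aeval (mat g) (X ^ k - 1 : F[X]) = 0 := by rw [hQ, map_mul, hpoly, zero_mul]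
  rw [map_sub, map_pow, aeval_X, map_one, sub_eq_zero] at h3
  apply mat_injective
  have h4 : ∀ j : ℕ, mat (g ^ j) = mat g ^ j := by
    intro j
    induction j with
    | zero => rw [pow_zero, pow_zero]; rfl
    | succ j ih => rw [pow_succ, pow_succ, mat_mul, ih]
  rw [h4, h3]
  rfl

end Cfsg.Agent.H705.UOrd
end

-- part: H705/ComUSpec
section
/-!
# `PSU₃(q)`, `q = 2 ^ i + 1`, at the prime two (helper705)
-/

set_option autoImplicit false
set_option linter.unusedSectionVars false

namespace Cfsg.Agent.H705

open Cfsg Cfsg.Agent.LieRecognition.RankOneAbstract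
open scoped Pointwise

section

variable {K : Type*} [Group K] {r : ℕ} {B U : Subgroup K} {w : K}
variable [Finite K] [hr : Fact r.Prime] (D : Data B U w) (P₀ : Sylow r K) (hP₀ : (P₀ : Subgroup K) = U)

include D hP₀

theorem smul_syl (a : MulAut K) (g : K) (P : Sylow r K) : a • g • P = a g • a • P := by
  apply Sylow.ext
  show ((a • g • P : Sylow r K) : Subgroup K) = ((a g • a • P : Sylow r K) : Subgroup K)
  ext x
  rw [mem_smul_sylow, Sylow.pointwise_smul_def, Subgroup.mem_pointwise_smul_iff_inv_smul_mem,
    Sylow.pointwise_smul_def, Subgroup.mem_pointwise_smul_iff_inv_smul_mem]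
  change a⁻¹ x ∈ ((g • P : Sylow r K) : Subgroup K) ↔ a⁻¹ ((a g)⁻¹ * x * a g) ∈ (P : Subgroup K)
  rw [mem_smul_sylow, map_mul, map_mul, map_inv, MulAut.inv_apply_self]

theorem eq_one_of_fixed_syl (hU : U ≠ ⊥) [hs : IsSimpleGroup K] {p : ℕ} (hp : p.Prime) (hpr : p ≠ r) {a : MulAut K}
    (ha : Bad p a) (hreg : ∃ t ∈ B, w⁻¹ * t * w ∈ B ∧ ∀ u ∈ U, t * u * t⁻¹ = u → u = 1) {P : Sylow r K}
    (h : a • P = P) : a = 1 := by
  have hne : P₀ ≠ w • P₀ := (w_smul_ne D P₀ hP₀ hU).symm
  have hfaith := faithful_syl D P₀ hP₀ hU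
  obtain ⟨t, ht, htw, htr⟩ := hreg
  exact (oneSyl D P₀ hP₀ hU).eq_one_of_fixed hr.out hp hpr ha (θ := fun P => a • P) (MulAction.injective a)
    (fun g P => smul_syl D P₀ hP₀ a g P) h ⟨t, P₀, w • P₀, hne, fix_iff D P₀ hP₀ hU ht htw htr⟩

/-- an automorphism fixing a nontrivial `r`-element -/
theorem eq_one_of_fixed_elt (hU : U ≠ ⊥) [hs : IsSimpleGroup K] {p : ℕ} (hp : p.Prime) (hpr : p ≠ r) {a : MulAut K}
    (ha : Bad p a) (hreg : ∃ t ∈ B, w⁻¹ * t * w ∈ B ∧ ∀ u ∈ U, t * u * t⁻¹ = u → u = 1) {u : K} (hu : u ≠ 1) {k : ℕ}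
    (huk : u ^ r ^ k = 1) (hau : a u = u) : a = 1 := by
  have h1 : IsPGroup r (Subgroup.zpowers u) := isPGroup_zpowers huk
  obtain ⟨P, hP⟩ := h1.exists_le_sylow
  have huP : u ∈ (P : Subgroup K) := hP (Subgroup.mem_zpowers u)
  apply eq_one_of_fixed_syl D P₀ hP₀ hU hp hpr ha hreg (P := P)
  by_contra hne
  apply hu
  refine (oneSyl D P₀ hP₀ hU).free P (a • P) (Ne.symm hne) u huP ?_
  refine (oneSyl D P₀ hP₀ hU).fix (a • P) u ?_
  show u ∈ ((a • P : Sylow r K) : Subgroup K)
  rw [Sylow.pointwise_smul_def, Subgroup.mem_pointwise_smul_iff_inv_smul_mem]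
  have h2 : a⁻¹ • u = u := by
    conv_lhs => rw [← hau]
    exact MulAut.inv_apply_self K a u
  rw [h2]
  exact huP

end

namespace USpec

open Cfsg.Agent.LieClassical.HermBasic Cfsg.Agent.LieClassical.HermSiegel
open Cfsg.Agent.ClassicalGeometry.UnitAutBasic Cfsg.Agent.ClassicalGeometry.PSUAutCount
open Cfsg.Agent.HKS.EndU (tor)

variable {F : Type*} [Field F] [Fintype F] {q : ℕ}

/-- transvections have order dividing the characteristic -/
theorem tau_pow (hF : Fintype.card F = q ^ 2) {r : ℕ} [CharP F r] {v : Fin 3 → F} (hv : hermForm 3 F q v v = 0) :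
    tau hF v ^ r = 1 := by
  have h1 : ∀ k : ℕ, ∀ x, act (T hF v ^ k) x = x + ((k : F) * (c0 hF * hermForm 3 F q x v)) • v := by
    intro k
    induction k with
    | zero => intro x; rw [pow_zero, act_one]; simp
    | succ k ih =>
      intro x
      rw [pow_succ, act_mul, ih, act_T hF hv, herm_add_left, herm_smul_left, hv]
      funext i
      simp only [Pi.add_apply, Pi.smul_apply, smul_eq_mul]
      push_cast
      ring
  have h2 : T hF v ^ r = 1 := by
    apply ext_act
    intro x
    rw [h1, act_one, CharP.cast_eq_zero, zero_mul, zero_smul, add_zero]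
  rw [tau_def, ← map_pow, h2, map_one]

variable {r : ℕ} [hr : Fact r.Prime] [CharP F r]

/-- A bad automorphism fixing a transvection is trivial. -/
theorem eq_one_of_fixed_tau (hF : Fintype.card F = q ^ 2) (hq : 2 < q) [hfin : Finite (PSU 3 F q)]
    [hs : IsSimpleGroup (PSU 3 F q)] {p : ℕ} (hp : p.Prime) (hpr : p ≠ r) {a : MulAut (PSU 3 F q)} (ha : Bad p a)
    {v : Fin 3 → F} (hv0 : v ≠ 0) (hv : hermForm 3 F q v v = 0) (h : a (tau hF v) = tau hF v) : a = 1 := by
  obtain ⟨σ, hσ, π, E⟩ := PSU.exists_mod F hF (by omega)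
  obtain ⟨P₀, hP₀⟩ := E.exists_syl (r := r) (by omega)
  refine eq_one_of_fixed_elt E.data P₀ hP₀ (E.unip_ne (by omega)) hp hpr ha ?_ (u := tau hF v) (k := 1) ?_ ?_ h
  · obtain ⟨l₀, hl₀, hord, -⟩ := E.exists_generator (by omega)
    refine ⟨π (tor σ l₀), (PSU.two_mem l₀).1, (PSU.two_mem l₀).2, fun u hu hfix => E.regular ?_ hu hfix⟩
    intro h1
    have h2 : l₀ ^ (q + 1) = 1 := by
      apply Units.ext
      rw [Units.val_pow_eq_pow_val, Units.val_one, pow_succ', ← E.pow, h1]
    have h3 := orderOf_dvd_of_pow_eq_one h2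
    rw [hord] at h3
    have h4 := Nat.le_of_dvd (by omega) h3
    have h5 : 2 * (q + 1) ≤ (q - 1) * (q + 1) := Nat.mul_le_mul_right _ (by omega)
    omega
  · intro h1
    exact hv0 ((tau_eq_one_iff hF le_rfl hv).1 h1)
  · rw [pow_one]
    exact tau_pow hF hv

omit [Fintype F] in
theorem phi_ne {A : GU 3 F q} {ρ : F ≃+* F} {v : Fin 3 → F} (h : v ≠ 0) : TG.phi A ρ v ≠ 0 := by
  intro h1
  apply h
  have h2 : (fun i => ρ (v i)) = 0 := by
    have := congrArg (fun y => Matrix.mulVec (gm A⁻¹) y) h1
    simp only [TG.phi, gm_inv_mulVec, Matrix.mulVec_zero] at this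
    exact this
  funext i
  have := congrFun h2 i
  simpa using this

/-- `PSU₃(q)`: the isotropic points fixed by a bad automorphism. -/
theorem eq_one_of_herm_eq_zero (hF : Fintype.card F = q ^ 2) (hq : 2 < q) [hfin : Finite (PSU 3 F q)]
    [hs : IsSimpleGroup (PSU 3 F q)] {p : ℕ} (hp : p.Prime) (hpr : p ≠ r) {A : GU 3 F q} {ρ : F ≃+* F}
    (ha : Bad p (toAut A ρ)) {v : Fin 3 → F} (hv0 : v ≠ 0) (hv : hermForm 3 F q v v = 0)
    (h : hermForm 3 F q v (TG.phi A ρ v) = 0) : toAut A ρ = 1 := by
  obtain ⟨c, hc0, hc⟩ := exists_r hF ρ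
  have hφ : hermForm 3 F q (TG.phi A ρ v) (TG.phi A ρ v) = 0 := by rw [TG.herm_phi, hv, map_zero]
  have h1 : toAut A ρ (tau hF v) = tau hF (c • TG.phi A ρ v) := toAut_tau hF A ρ hc hv
  have h2 : hermForm 3 F q (c • TG.phi A ρ v) (c • TG.phi A ρ v) = 0 := iso_smul c hφ
  have h3 : tau hF (c • TG.phi A ρ v) * tau hF v = tau hF v * tau hF (c • TG.phi A ρ v) := by
    rw [tau_comm_iff hF le_rfl h2 hv hv0, herm_smul_right, h, mul_zero]
  apply eq_one_of_fixed_tau hF hq hp hpr ha hv0 hv
  rcases ha (tau hF v) with h4 | h4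
  · exact inv_mul_eq_one.1 h4
  · exfalso
    have h5 : ((toAut A ρ (tau hF v))⁻¹ * tau hF v) ^ r = 1 := by
      rw [h1]
      have h6 : Commute (tau hF (c • TG.phi A ρ v))⁻¹ (tau hF v) := (show Commute _ _ from h3).inv_left
      rw [h6.mul_pow, inv_pow, tau_pow hF h2, tau_pow hF hv, inv_one, one_mul]
    have h6 := h4.trans (orderOf_dvd_of_pow_eq_one h5)
    exact hpr ((Nat.prime_dvd_prime_iff_eq hp hr.out).1 h6)

/-- **`PSU₃(2 ^ i + 1)` at the prime two**, `i ≥ 2`. -/
theorem com_two (hF : Fintype.card F = q ^ 2) {i : ℕ} (hq : q = 2 ^ i + 1) (hi : 2 ≤ i) [hfin : Finite (PSU 3 F q)]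
    [hs : IsSimpleGroup (PSU 3 F q)] : Com 2 (PSU 3 F q) := by
  obtain ⟨-, hr, -⟩ := FiniteField.card F (ringChar F)
  have hfr : Fact (ringChar F).Prime := ⟨by assumption⟩
  set r := ringChar F with hrdef
  have hch : CharP F r := ringChar.charP F
  obtain ⟨j, rfl⟩ : ∃ j, i = j + 2 := ⟨i - 2, by omega⟩
  have hj : 0 < 2 ^ j := pow_pos two_pos j
  have hq4 : q = 4 * 2 ^ j + 1 := by rw [hq, pow_add]; ring
  have hodd : Odd q := ⟨2 * 2 ^ j, by omega⟩
  have hq2 : 2 < q := by omega
  have hr2 : 2 ≠ r := by
    intro h2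
    have hch2 : CharP F 2 := by rw [h2]; exact hch
    obtain ⟨n, -, hn⟩ := FiniteField.card F 2
    rw [hF] at hn
    have h4 : Even (q ^ 2) := by rw [hn]; exact (Nat.even_pow' n.ne_zero).2 even_two
    exact (Nat.not_even_iff_odd.2 hodd.pow) h4
  rw [com_iff]
  intro α hα
  obtain ⟨A, ρ, rfl⟩ := ClassicalGeometry.PSUAutMain.exists_toAut hF le_rfl (by omega) α
  obtain ⟨c, hc0, hc⟩ := exists_r hF ρ
  by_contra hne
  have hno : ∀ v : Fin 3 → F, v ≠ 0 → hermForm 3 F q v v = 0 → hermForm 3 F q v (TG.phi A ρ v) ≠ 0 := by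
    intro v hv0 hv h
    exact hne (eq_one_of_herm_eq_zero hF hq2 Nat.prime_two hr2 hα hv0 hv h)
  set m := (q + 1) * (2 * 2 ^ j) with hm
  have hqm : q ^ 2 - 1 = 2 * m := by
    have : q ^ 2 = 2 * ((q + 1) * (2 * 2 ^ j)) + 1 := by rw [hq4]; ring
    omega
  have hboth := TG.exists_both hF hodd hqm A ρ hno
  obtain ⟨v, hv0, hv, l, hl0, ζ, hζk, hζ0, hζ1, hζ2, hD⟩ : ∃ v : Fin 3 → F, v ≠ 0 ∧ hermForm 3 F q v v = 0 ∧
      UArith.Good q ρ (c0 hF * ρ (c0 hF) * (hermForm 3 F q v (TG.phi A ρ v) * hermForm 3 F q v (TG.phi A ρ v) ^ q)) := by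
    rcases UArith.dichotomy hF hq hi ρ with h | ⟨rfl, h⟩
    · obtain ⟨v, hv0, hv, hvm⟩ := hboth.1
      exact ⟨v, hv0, hv, UArith.key1 hF hq4 ρ h (c0_ne_zero hF) (c0_pow hF) hqm (hno v hv0 hv) hvm⟩
    · obtain ⟨v, hv0, hv, hvm⟩ := hboth.2
      have hm40 : m = 40 := by omega
      rw [hm40] at hvm
      exact ⟨v, hv0, hv, UArith.key2 hF ρ h (c0_ne_zero hF) (c0_pow hF) hvm⟩
  set t := hermForm 3 F q v (TG.phi A ρ v) with ht
  have ht0 : t ≠ 0 := hno v hv0 hv
  have hv' : hermForm 3 F q (l • v) (l • v) = 0 := iso_smul l hv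
  have hφ : hermForm 3 F q (TG.phi A ρ (l • v)) (TG.phi A ρ (l • v)) = 0 := by rw [TG.herm_phi, hv', map_zero]
  have h1 : toAut A ρ (tau hF (l • v)) = tau hF (c • TG.phi A ρ (l • v)) := toAut_tau hF A ρ hc hv'
  have h2 : hermForm 3 F q (c • TG.phi A ρ (l • v)) (c • TG.phi A ρ (l • v)) = 0 := iso_smul c hφ
  have hκ : hermForm 3 F q (l • v) (c • TG.phi A ρ (l • v)) = l * (c ^ q * (ρ l ^ q * t)) := by
    rw [TG.phi_smul, herm_smul_left, herm_smul_right, herm_smul_right]
  have hκ0 : l * (c ^ q * (ρ l ^ q * t)) ≠ 0 := by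
    have hρl : ρ l ≠ 0 := fun h => hl0 ((map_eq_zero ρ).1 h)
    exact mul_ne_zero hl0 (mul_ne_zero (pow_ne_zero _ hc0) (mul_ne_zero (pow_ne_zero _ hρl) ht0))
  have h3 : ((T hF (c • TG.phi A ρ (l • v)))⁻¹ * T hF (l • v)) ^ ((q + 1) / 2) = 1 := by
    apply UOrd.pow_eq_one hF hv' h2 hζk hζ0 hζ1 hζ2
    rw [← hD, hκ]
    congr 1
    have e1 : (l * (c ^ q * (ρ l ^ q * t))) ^ q = l ^ q * (c * (ρ l * t ^ q)) := by
      rw [mul_pow, mul_pow, mul_pow, pow_q_pow_q hF, pow_q_pow_q hF]
    rw [e1, ← hc]
    ring
  have h4 : ((toAut A ρ (tau hF (l • v)))⁻¹ * tau hF (l • v)) ^ ((q + 1) / 2) = 1 := by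
    rw [h1, tau_def, tau_def, ← map_inv, ← map_mul, ← map_pow, h3, map_one]
  rcases hα (tau hF (l • v)) with h5 | h5
  · have h6 : tau hF (c • TG.phi A ρ (l • v)) = tau hF (l • v) := by
      rw [← h1]
      exact inv_mul_eq_one.1 h5
    have hne' : c • TG.phi A ρ (l • v) ≠ 0 := smul_ne_zero hc0 (phi_ne (smul_ne_zero hl0 hv0))
    obtain ⟨z, -, hz⟩ := (tau_eq_tau_iff hF le_rfl h2 hv' hne').1 h6
    apply hκ0
    rw [← hκ]
    have key : ∀ x w : Fin 3 → F, x = z • w → hermForm 3 F q w w = 0 → hermForm 3 F q x w = 0 := by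
      intro x w h7 h8
      rw [h7, herm_smul_left, h8, mul_zero]
    exact key _ _ hz h2
  · have h6 := h5.trans (orderOf_dvd_of_pow_eq_one h4)
    omega

end USpec

end Cfsg.Agent.H705
end

private theorem dce_fe065e77b62f : _root_.True := by
  try have : _root_.True := by simp only [_root_.Cfsg.Agent.H705.TG.hG.eq_1]
  try have : _root_.True := by simp only [_root_.Cfsg.Agent.H705.TG.par.eq_1]
  try have : _root_.True := by simp only [_root_.Cfsg.Agent.H705.TG.phi.eq_1]
  try have : _root_.True := by simp only [_root_.Cfsg.Agent.H705.TG.par.congr_simp]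
  try have : _root_.True := by simp only [_root_.Cfsg.Agent.H705.TG.vec.eq_1]
  try have : _root_.True := by simp only [_root_.Cfsg.Agent.H705.TG.vec.eq_2]
  exact _root_.True.intro
end

-- part: H705/ComUThree
section
prune_inst 0x5302005044002000000009231202045340005b200400001884009420000a34208800940042010180208a20100090008130000d002000000000404000005002080a812069048a09506000f800288010000008000000000000000000000000004210000000
set_option linter.all false
open scoped Cfsg.Agent.FastGrp

-- part: H705/ComLocal
section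
/-!
# `RFix` automorphisms of groups of local characteristic `r` with a split (B,N)-pair of rank at least two (helper705)

`eq_one_of_rank` : they are trivial.
-/

set_option autoImplicit false
set_option linter.unusedSectionVars false

namespace Cfsg.Agent.H705

open Subgroup Cfsg Cfsg.Agent.FixBN Cfsg.Agent.FixBN.OfBN
open Cfsg.Agent.BpLieP.Big (LocChar)

variable {K : Type*} [Group K] [Finite K] {r : ℕ} [hr : Fact r.Prime] {a : MulAut K}

/-- The `r`-elements of the normaliser of a subgroup of fixed points are fixed. -/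
theorem RFix.normalizer (ha : RFix r a) (hL : LocChar r K) {R : Subgroup K} (hR : IsPGroup r R) (hR1 : R ≠ ⊥)
    (hfix : ∀ x ∈ R, a x = x) {v : K} (hv : v ∈ Subgroup.normalizer (R : Set K)) {k : ℕ} (hvk : v ^ r ^ k = 1) :
    a v = v := by
  set N := Subgroup.normalizer (R : Set K) with hN
  have haN : ∀ g ∈ N, a g ∈ N := by
    intro g hg
    have hg' : ∀ x ∈ R, g * x * g⁻¹ ∈ R := fun x hx => (mem_normalizer_iff.1 hg x).1 hx
    have key : ∀ x ∈ R, a g * x * (a g)⁻¹ = g * x * g⁻¹ := by
      intro x hx
      rw [← hfix _ (hg' x hx), map_mul, map_mul, map_inv, hfix x hx]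
    have h1 : R.map (MulAut.conj (a g)).toMonoidHom ≤ R := by
      rintro _ ⟨x, hx, rfl⟩
      show a g * x * (a g)⁻¹ ∈ R
      rw [key x hx]
      exact hg' x hx
    have h2 : R.map (MulAut.conj (a g)).toMonoidHom = R :=
      Subgroup.eq_of_le_of_card_ge h1 (le_of_eq (Nat.card_congr (R.equivMapOfInjective _
        (MulAut.conj (a g)).injective).toEquiv))
    rw [hN, mem_normalizer_iff]
    intro x
    constructor
    · intro hx
      exact h1 ⟨x, hx, rfl⟩
    · intro hx
      rw [← h2] at hx
      obtain ⟨y, hy, hyx⟩ := hx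
      have : y = x := (MulAut.conj (a g)).injective hyx
      rwa [← this]
  have hmap : N.map a.toMonoidHom = N := by
    refine Subgroup.eq_of_le_of_card_ge ?_ (le_of_eq (Nat.card_congr (N.equivMapOfInjective _
        a.injective).toEquiv))
    rintro _ ⟨g, hg, rfl⟩
    exact haN g hg
  let aN : N ≃* N := (a.subgroupMap N).trans (MulEquiv.subgroupCongr hmap)
  have haNv : ∀ x : N, ((aN x : N) : K) = a x := fun x => rfl
  have hchar := (Lib.Cores.pCore_characteristic (G := N) r)
  have hQp : IsPGroup r (pCore r N) := Lib.Cores.pCore_isPGroup r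
  have hQn : (pCore r N).Normal := inferInstance
  have hcm : (pCore r N).map aN.toMonoidHom = pCore r N := Subgroup.characteristic_iff_map_eq.1 hchar aN
  set Q : Subgroup K := (pCore r N).map N.subtype with hQ
  have hQK : IsPGroup r Q := hQp.map _
  have hQfix : ∀ h ∈ Q, a h = h := by
    rintro _ ⟨h, hh, rfl⟩
    refine ha Q hQK _ ⟨h, hh, rfl⟩ ⟨aN h, ?_, haNv h⟩
    rw [← hcm]
    exact ⟨h, hh, rfl⟩
  have hcent : ∀ g ∈ N, g⁻¹ * a g ∈ Q := by
    intro g hg
    have h1 : (⟨g, hg⟩ : N)⁻¹ * aN ⟨g, hg⟩ ∈ pCore r N := by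
      refine hL R hR hR1 ?_
      rw [mem_centralizer_iff]
      intro h hh
      have h2 : g * h * g⁻¹ ∈ Q := by
        refine ⟨(⟨g, hg⟩ * h * ⟨g, hg⟩⁻¹ :), hQn.conj_mem h hh _, rfl⟩
      have h3 := hQfix _ h2
      have h4 := hQfix h ⟨h, hh, rfl⟩
      rw [map_mul, map_mul, map_inv, h4] at h3
      apply Subtype.ext
      show (h : K) * (g⁻¹ * a g) = g⁻¹ * a g * h
      have h5 : g * h * g⁻¹ * a g = a g * h := by
        rw [← h3]; group
      calc (h : K) * (g⁻¹ * a g) = g⁻¹ * (g * h * g⁻¹ * a g) := by group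
        _ = g⁻¹ * (a g * h) := by rw [h5]
        _ = _ := by group
    exact ⟨_, h1, rfl⟩
  -- the group `Q ⟨v⟩`
  have hvp := isPGroup_zpowers hvk
  have hnorm : Subgroup.zpowers v ≤ Subgroup.normalizer (Q : Set K) := by
    rw [Subgroup.zpowers_le]
    have hvN : N ≤ Subgroup.normalizer (Q : Set K) := by
      intro g hg
      rw [mem_normalizer_iff]
      intro x
      constructor
      · rintro ⟨y, hy, rfl⟩
        exact ⟨(⟨g, hg⟩ * y * ⟨g, hg⟩⁻¹ :), hQn.conj_mem y hy _, rfl⟩
      · rintro ⟨y, hy, hyx⟩
        refine ⟨(⟨g, hg⟩⁻¹ * y * ⟨g, hg⟩⁻¹⁻¹ :), hQn.conj_mem y hy _, ?_⟩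
        show g⁻¹ * (y : K) * g⁻¹⁻¹ = x
        have : (y : K) = g * x * g⁻¹ := hyx
        rw [this]
        group
    exact hvN hv
  have hVp : IsPGroup r ((Subgroup.zpowers v ⊔ Q : Subgroup K)) := by
    exact IsPGroup.to_sup_of_normal_right' hvp hQK hnorm
  refine ha _ hVp v ((le_sup_left : Subgroup.zpowers v ≤ _) (mem_zpowers v)) ?_
  have h1 : a v = v * (v⁻¹ * a v) := by group
  rw [h1]
  exact mul_mem ((le_sup_left : Subgroup.zpowers v ≤ _) (mem_zpowers v)) ((le_sup_right : Q ≤ _) (hcent v hv))

/-- A Sylow `r`-subgroup is fixed elementwise. -/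
theorem RFix.exists_sylow (ha : RFix r a) (hL : LocChar r K) {v : K} (hv1 : v ≠ 1) (hv : a v = v) {k : ℕ}
    (hvk : v ^ r ^ k = 1) : ∃ T : Sylow r K, ∀ x ∈ (T : Subgroup K), a x = x := by
  classical
  -- a maximal `r`-subgroup of fixed points containing `v`
  let 𝓕 : Set (Subgroup K) := {R | IsPGroup r R ∧ (∀ x ∈ R, a x = x) ∧ v ∈ R}
  have h𝓕 : 𝓕.Nonempty := by
    refine ⟨Subgroup.zpowers v, isPGroup_zpowers hvk, ?_, mem_zpowers v⟩
    have h1 : Subgroup.zpowers v ≤ fixS a := by rw [Subgroup.zpowers_le]; exact hv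
    exact fun x hx => h1 hx
  obtain ⟨R, hR⟩ := (Set.toFinite 𝓕).exists_maximal h𝓕
  obtain ⟨hRp, hRfix, hvR⟩ := hR.1
  have hR1 : R ≠ ⊥ := by
    rintro rfl
    exact hv1 (mem_bot.1 hvR)
  obtain ⟨T, hT⟩ := hRp.exists_le_sylow
  refine ⟨T, ?_⟩
  have hRT : R = (T : Subgroup K) := by
    by_contra hne
    have hlt : R < (T : Subgroup K) := lt_of_le_of_ne hT hne
    have hnil : Group.IsNilpotent T := T.isPGroup'.isNilpotent
    have hlt' : R.subgroupOf (T : Subgroup K) < ⊤ := by
      rw [lt_top_iff_ne_top, Ne, Subgroup.subgroupOf_eq_top]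
      exact hlt.not_ge
    have h1 := Group.normalizerCondition_of_isNilpotent (G := T) _ hlt'
    obtain ⟨w, hw, hwR⟩ := SetLike.exists_of_lt h1
    -- `w` normalises `R`
    have hwn : (w : K) ∈ Subgroup.normalizer (R : Set K) := by
      rw [mem_normalizer_iff] at hw ⊢
      intro x
      constructor
      · intro hx
        have := (hw ⟨x, hT hx⟩).1 (by rw [Subgroup.mem_subgroupOf]; exact hx)
        rw [Subgroup.mem_subgroupOf] at this
        exact this
      · intro hx
        have hxT : x ∈ (T : Subgroup K) := by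
          have h2 : x = (w : K)⁻¹ * (w * x * (w : K)⁻¹) * w := by group
          rw [h2]
          exact mul_mem (mul_mem (inv_mem w.2) (hT hx)) w.2
        have := (hw ⟨x, hxT⟩).2 (by rw [Subgroup.mem_subgroupOf]; exact hx)
        rw [Subgroup.mem_subgroupOf] at this
        exact this
    obtain ⟨j, hj⟩ := T.isPGroup' w
    have hj' : (w : K) ^ r ^ j = 1 := by simpa using congrArg Subtype.val hj
    have hwfix := ha.normalizer hL hRp hR1 hRfix hwn hj'
    have hle : Subgroup.zpowers (w : K) ⊔ R ≤ (T : Subgroup K) :=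
      sup_le (by rw [Subgroup.zpowers_le]; exact w.2) hT
    have h3 : Subgroup.zpowers (w : K) ⊔ R ∈ 𝓕 := by
      refine ⟨T.isPGroup'.to_le hle, ?_, (le_sup_right : R ≤ _) hvR⟩
      have h4 : Subgroup.zpowers (w : K) ⊔ R ≤ fixS a :=
        sup_le (by rw [Subgroup.zpowers_le]; exact hwfix) (fun x hx => hRfix x hx)
      exact fun x hx => h4 hx
    have h5 := hR.2 h3 le_sup_right
    exact hwR (by rw [Subgroup.mem_subgroupOf]; exact h5 ((le_sup_left : Subgroup.zpowers (w : K) ≤ _) (mem_zpowers _)))
  intro x hx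
  exact hRfix x (hRT ▸ hx)

/-- **Local characteristic `r` and rank at least two: `RFix` automorphisms are trivial.** -/
theorem RFix.eq_one_of_rank (ha : RFix r a) [hs : IsSimpleGroup K] (hL : LocChar r K) {P : Cfsg.BNPair K}
    {U : Subgroup K} (S : Split P r U) (h2 : ∃ s t : P.S, s ≠ t) : a = 1 := by
  obtain ⟨v, hv1, hv, k, hvk⟩ := exists_fixed S h2 ha
  obtain ⟨T, hT⟩ := ha.exists_sylow hL hv1 hv hvk
  obtain ⟨x, hx⟩ := H682.OppSyl.exists_chamber_eq S T
  induction x using QuotientGroup.induction_on with
  | _ g₀ =>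
  have hg₀ : ∀ u ∈ U, a (g₀ * u * g₀⁻¹) = g₀ * u * g₀⁻¹ := by
    intro u hu
    apply hT
    rw [hx, mem_UU S]
    have : g₀⁻¹ * (g₀ * u * g₀⁻¹) * g₀ = u := by group
    rwa [this]
  -- the nodes
  obtain ⟨s₀, t₀, hst₀⟩ := h2
  have hnode : ∀ s ∈ P.S, ∃ V, Schreier.BNSch.Node P U s V ∧ V ≠ ⊥ := by
    intro s hs
    obtain ⟨V, hV⟩ := S.node s hs
    have : ∃ t ∈ P.S, s ≠ t := by
      by_cases h1 : s = s₀
      · refine ⟨t₀, t₀.2, fun h => hst₀ (Subtype.ext (h1 ▸ h))⟩
      · exact ⟨s₀, s₀.2, h1⟩
    obtain ⟨t, ht, hst⟩ := this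
    exact ⟨V, hV, H690.LieMix.node_ne_bot S hs ht hst hV⟩
  -- the set of `g` such that `U ^ g` is fixed is everything
  let Fx : K → Prop := fun g => ∀ u ∈ U, a (g * u * g⁻¹) = g * u * g⁻¹
  have hpar : ∀ s ∈ P.S, ∀ y ∈ P.parabolic {s}, ∀ g : K, Fx g → Fx (g * y) := by
    intro s hs y hy g hg u hu
    obtain ⟨V, hV, hV1⟩ := hnode s hs
    have hVn : ∀ z ∈ P.parabolic {s}, ∀ v : K, v ∈ V ↔ z * v * z⁻¹ ∈ V := by
      intro z hz v
      constructor
      · intro hv
        have := hV.conj_mem (inv_mem hz) hv
        rwa [inv_inv] at this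
      · intro hv
        have := hV.conj_mem hz hv
        have h3 : z⁻¹ * (z * v * z⁻¹) * z = v := by group
        rwa [h3] at this
    have hRp : IsPGroup r (V.map (MulAut.conj g).toMonoidHom) := (S.isP.to_le hV.le).map _
    have hR1 : V.map (MulAut.conj g).toMonoidHom ≠ ⊥ := by
      rw [Ne, Subgroup.map_eq_bot_iff_of_injective _ (MulAut.conj g).injective]
      exact hV1
    obtain ⟨k, hk⟩ := S.isP ⟨u, hu⟩
    have hk' : u ^ r ^ k = 1 := by simpa using congrArg Subtype.val hk
    refine ha.normalizer hL hRp hR1 ?_ (v := g * y * u * (g * y)⁻¹) ?_ (k := k) ?_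
    · rintro _ ⟨v, hv, rfl⟩
      exact hg v (hV.le hv)
    · have hz : y * u * y⁻¹ ∈ P.parabolic {s} :=
        mul_mem (mul_mem hy (Schreier.BNSch.B_le_parabolic P _ (S.le hu))) (inv_mem hy)
      have h3 := hVn _ hz
      rw [mem_normalizer_iff]
      intro x
      have h4 : ∀ w : K, w ∈ V.map (MulAut.conj g).toMonoidHom ↔ g⁻¹ * w * g ∈ V := by
        intro w
        constructor
        · rintro ⟨v, hv, rfl⟩
          have : g⁻¹ * ((MulAut.conj g).toMonoidHom v) * g = v := by
            show g⁻¹ * (g * v * g⁻¹) * g = v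
            group
          rwa [this]
        · intro hw
          refine ⟨_, hw, ?_⟩
          show g * (g⁻¹ * w * g) * g⁻¹ = w
          group
      rw [h4, h4, h3]
      have h5 : y * u * y⁻¹ * (g⁻¹ * x * g) * (y * u * y⁻¹)⁻¹ =
          g⁻¹ * (g * y * u * (g * y)⁻¹ * x * (g * y * u * (g * y)⁻¹)⁻¹) * g := by group
      rw [h5]
    · have h6 : g * y * u * (g * y)⁻¹ = MulAut.conj (g * y) u := rfl
      rw [h6, ← map_pow, hk', map_one]
  let H : Subgroup K :=
    { carrier := {y | ∀ g : K, Fx g ↔ Fx (g * y)}
      one_mem' := fun g => by rw [mul_one]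
      mul_mem' := fun {x y} hx hy g => by
        rw [← mul_assoc, ← hy, ← hx]
      inv_mem' := fun {x} hx g => by
        have := hx (g * x⁻¹)
        rw [inv_mul_cancel_right] at this
        exact this.symm }
  have hH : (⊤ : Subgroup K) ≤ H := by
    rw [← Schreier.BNSch.sup_closure_eq_top P, sup_le_iff]
    constructor
    · intro b hb g
      constructor
      · exact hpar s₀ s₀.2 b (Schreier.BNSch.B_le_parabolic P _ hb) g
      · intro h1
        have := hpar s₀ s₀.2 b⁻¹ (Schreier.BNSch.B_le_parabolic P _ (inv_mem hb)) _ h1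
        rwa [mul_inv_cancel_right] at this
    · rw [Subgroup.closure_le]
      intro s hs g
      have hsP : s ∈ P.parabolic {s} := Schreier.BNSch.mem_parabolic_self P s
      constructor
      · exact hpar s hs s hsP g
      · intro h1
        have := hpar s hs s⁻¹ (inv_mem hsP) _ h1
        rwa [mul_inv_cancel_right] at this
  have hall : ∀ y : K, Fx y := by
    intro y
    have h1 : g₀⁻¹ * y ∈ H := hH (mem_top _)
    have h3 := (h1 g₀).1 hg₀
    rwa [mul_inv_cancel_left] at h3
  -- the normal closure of `U`
  have hU1 : ∃ u ∈ U, u ≠ 1 := by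
    obtain ⟨V, hV, -⟩ := hnode s₀ s₀.2
    obtain ⟨u, hu, huV⟩ := hV.ne
    exact ⟨u, hu, fun h => huV (h ▸ one_mem V)⟩
  obtain ⟨u, hu, hu1⟩ := hU1
  have hle : Subgroup.normalClosure {u} ≤ fixS a := by
    rw [Subgroup.normalClosure, Subgroup.closure_le]
    intro z hz
    rw [Group.mem_conjugatesOfSet_iff] at hz
    obtain ⟨w, hw, hwz⟩ := hz
    rw [Set.mem_singleton_iff] at hw
    subst hw
    obtain ⟨c, rfl⟩ := isConj_iff.1 hwz
    exact hall c w hu
  rcases hs.eq_bot_or_eq_top_of_normal _ (Subgroup.normalClosure_normal (s := ({u} : Set K))) with h1 | h1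
  · exfalso
    apply hu1
    have : u ∈ Subgroup.normalClosure ({u} : Set K) := Subgroup.subset_normalClosure rfl
    rwa [h1, mem_bot] at this
  · rw [h1] at hle
    ext y
    exact hle (mem_top y)

end Cfsg.Agent.H705
end

-- part: H705/ComLie
section
/-!
# `Com p S` for the simple groups of Lie type (helper705)

`lie_gen` : `Com p S` for every simple group of Lie type and every prime, unless `p = 2` and `S ≅ PSU₃(q)` with `q - 1` a
power of two.
-/

set_option autoImplicit false
set_option linter.unusedSectionVars false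

namespace Cfsg.Agent.H705

open Cfsg Cfsg.Agent.FixBN Cfsg.Agent.Omega.ML.Ex.Typ Cfsg.Agent.H519.LieRank

/-- the case division -/
theorem cases_all {p : ℕ} [hp : Fact p.Prime] {K : Type*} [Group K] [IsSimpleGroup K] (hK : IsLieTypeChar p K) :
    HasRank p K ∨
      (∃ (F : Type) (_ : Field F) (_ : Fintype F) (_ : CharP F p), 4 ≤ Fintype.card F ∧
        Nonempty (K ≃* Matrix.ProjectiveSpecialLinearGroup (Fin 2) F)) ∨
      (∃ (F : Type) (_ : Field F) (_ : Fintype F) (_ : CharP F p) (q : ℕ), Fintype.card F = q ^ 2 ∧ q ≠ 2 ∧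
        Nonempty (K ≃* PSU 3 F q)) ∨
      (p = 2 ∧ Lie.IsoSuzuki K) ∨ (p = 2 ∧ Lie.Iso2F4 K) ∨ (p = 3 ∧ Lie.IsoRee K) := by
  rcases hK with h | h | h | h | h | h | h | h | h | h | h
  · obtain ⟨F, i1, i2, i3, n, hn, h3, ⟨e⟩⟩ := h
    by_cases hn2 : n = 2
    · subst hn2
      exact Or.inr (Or.inl ⟨F, i1, i2, i3, h3 rfl, ⟨e⟩⟩)
    · obtain ⟨n, rfl⟩ : ∃ k, n = k + 1 := ⟨n - 1, by omega⟩
      exact Or.inl (hasRank_of_typ hp.1 (by omega) ((typ_PSL n).of_equiv e.symm))
  · obtain ⟨F, i1, i2, i3, m, hm, -, ⟨e⟩⟩ := h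
    exact Or.inl (hasRank_of_typ hp.1 hm ((typ_PSp (by omega)).of_equiv e.symm))
  · obtain ⟨F, i1, i2, i3, n, q, hF, hn, h32, ⟨e⟩⟩ := h
    by_cases hn3 : n = 3
    · subst hn3
      exact Or.inr (Or.inr (Or.inl ⟨F, i1, i2, i3, q, hF, fun h => h32 ⟨rfl, h⟩, ⟨e⟩⟩))
    · obtain ⟨m, hm, h⟩ := typ_PSU (p := p) hF hn
      exact Or.inl (hasRank_of_typ hp.1 (by omega) (h.of_equiv e.symm))
  · obtain ⟨F, i1, i2, i3, m, hm, hodd, ⟨e⟩⟩ := h
    have h2 : (2 : F) ≠ 0 := by
      intro h2
      have h3 : CharP F 2 := CharTwo.of_one_ne_zero_of_two_eq_zero one_ne_zero h2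
      obtain ⟨n, -, hn⟩ := FiniteField.card F 2
      rw [hn] at hodd
      exact (Nat.not_even_iff_odd.2 hodd) ((Nat.even_pow' n.ne_zero).2 even_two)
    exact Or.inl (hasRank_of_typ hp.1 (by omega) ((typ_PO_odd h2 (by omega)).of_equiv e.symm))
  · obtain ⟨F, i1, i2, i3, m, hm, ⟨e⟩⟩ := h
    obtain ⟨n, rfl⟩ : ∃ n, m = n + 3 := ⟨m - 3, by omega⟩
    exact Or.inl (hasRank_of_typ hp.1 (by omega) ((typ_PO_plus n).of_equiv e.symm))
  · obtain ⟨F, i1, i2, i3, m, a, b, hm, hab, ⟨e⟩⟩ := h
    exact Or.inl (hasRank_of_typ hp.1 (by omega) ((typ_PO_minus hab (by omega)).of_equiv e.symm))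
  · rcases typ_of_exc h with h | h | h | h | h
    · exact Or.inl (hasRank_of_typ hp.1 (by omega) h)
    · exact Or.inl (hasRank_of_typ hp.1 (by omega) h)
    · exact Or.inl (hasRank_of_typ hp.1 (by omega) h)
    · exact Or.inl (hasRank_of_typ hp.1 (by omega) h)
    · exact Or.inl (hasRank_of_typ hp.1 (by omega) h)
  · obtain ⟨F, i1, i2, i3, q, hq, ⟨hK, ⟨e⟩⟩ | ⟨hK, ⟨e⟩⟩⟩ := h
    · exact Or.inl (hasRank_of_typ hp.1 (by omega) ((typ_twE6 hq hK p).of_equiv e.symm))
    · exact Or.inl (hasRank_of_typ hp.1 (by omega) ((typ_twD4 hq hK p).of_equiv e.symm))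
  · exact Or.inr (Or.inr (Or.inr (Or.inl h)))
  · exact Or.inr (Or.inr (Or.inr (Or.inr (Or.inl h))))
  · exact Or.inr (Or.inr (Or.inr (Or.inr (Or.inr h))))

theorem not_solvable_congr {S T : Type*} [Group S] [Group T] (e : S ≃* T) (h : ¬ Group.IsSolvable S) :
    ¬ Group.IsSolvable T := fun h' => h (solvable_of_surjective (f := e.symm.toMonoidHom) e.symm.surjective)

/-- rank at least two -/
theorem com_of_rank {K : Type*} [Group K] [Finite K] [IsSimpleGroup K] {r : ℕ} [hr : Fact r.Prime]
    (hK : IsLieTypeChar r K) (hsz : ¬ (r = 2 ∧ Lie.IsoSuzuki K)) {p : ℕ} (hp : p.Prime) (hpr : p ≠ r)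
    (h : HasRank r K) : Com p K := by
  rw [com_iff]
  intro a ha
  obtain ⟨P, U, S, h2⟩ := h
  exact (ha.rfix hp hr.out hpr.symm).eq_one_of_rank (H400.LieLocal.local_char_of_lie hK hsz) S h2

theorem com_2F4 {S : Type*} [Group S] [Finite S] [IsSimpleGroup S] (h : Lie.Iso2F4 S) {p : ℕ} (hp : p.Prime)
    (hp2 : p ≠ 2) : Com p S := by
  have hr : Fact (Nat.Prime 2) := ⟨Nat.prime_two⟩
  have h' := h
  obtain ⟨K, i1, i2, m, hm, hK, ⟨e⟩⟩ := h
  have hfin : Finite ↥(Lie.twistedF4 K (2 ^ m)) := Finite.of_equiv S e.toEquiv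
  have hsim : IsSimpleGroup ↥(Lie.twistedF4 K (2 ^ m)) := e.symm.isSimpleGroup
  have hlie : IsLieTypeChar 2 ↥(Lie.twistedF4 K (2 ^ m)) :=
    Or.inr (Or.inr (Or.inr (Or.inr (Or.inr (Or.inr (Or.inr (Or.inr (Or.inr (Or.inl ⟨rfl, K, i1, i2, m, hm, hK,
      ⟨MulEquiv.refl _⟩⟩)))))))))
  obtain ⟨Q, UE, s, t, hq, -⟩ := ParSys.Fam.TwoFFour.exists_all hm hK
  have hL : Cfsg.Agent.BpLieP.Big.LocChar 2 ↥(Lie.twistedF4 K (2 ^ m)) :=
    (Cfsg.Agent.EvenType.ChevTwoF4.charTwo ⟨K, i1, i2, m, hm, hK, ⟨MulEquiv.refl _⟩⟩).2
  refine Com.of_equiv e ?_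
  rw [com_iff]
  intro a ha
  refine (ha.rfix hp Nat.prime_two hp2.symm).eq_one_of_rank hL hq.split ⟨⟨s, ?_⟩, ⟨t, ?_⟩, ?_⟩
  · rw [hq.S]; exact Set.mem_insert _ _
  · rw [hq.S]; exact Set.mem_insert_of_mem _ rfl
  · intro h
    exact hq.ne (congrArg Subtype.val h)

/-- the exceptional situation -/
def Spec (p : ℕ) (S : Type*) [Group S] : Prop :=
  p = 2 ∧ ∃ (F : Type) (_ : Field F) (_ : Fintype F) (q i : ℕ), Fintype.card F = q ^ 2 ∧ q = 2 ^ i + 1 ∧ 1 ≤ i ∧
    Nonempty (S ≃* PSU 3 F q)

/-- **Groups of Lie type**, up to the exceptional situation. -/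
theorem lie_gen {S : Type*} [Group S] [Finite S] [hs : IsSimpleGroup S] {r : ℕ} [hr : Fact r.Prime]
    (h : IsLieTypeChar r S) (hsol : ¬ Group.IsSolvable S) {p : ℕ} (hp : p.Prime) (hsp : ¬ Spec p S) : Com p S := by
  by_cases hpr : p = r
  · subst hpr
    exact com_defining hp h hsol
  by_cases hsz : r = 2 ∧ Lie.IsoSuzuki S
  · obtain ⟨rfl, hsz⟩ := hsz
    exact com_suzuki hsz hsol hp hpr
  rcases cases_all h with h1 | h1 | h1 | h1 | h1 | h1
  · exact com_of_rank h hsz hp hpr h1
  · obtain ⟨F, i1, i2, i3, hF, ⟨e⟩⟩ := h1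
    have hsim : IsSimpleGroup (Matrix.ProjectiveSpecialLinearGroup (Fin 2) F) := e.symm.isSimpleGroup
    exact (PSL.com_psl (r := r) (by rw [Nat.card_eq_fintype_card]; omega) (not_solvable_congr e hsol) hp hpr).of_equiv e
  · obtain ⟨F, i1, i2, i3, q, hF, hq2, ⟨e⟩⟩ := h1
    have hsim : IsSimpleGroup (PSU 3 F q) := e.symm.isSimpleGroup
    have hfin : Finite (PSU 3 F q) := Finite.of_equiv S e.toEquiv
    have hq1 : 1 < q := by
      by_contra hq
      have h2 : 1 < Fintype.card F := Fintype.one_lt_card
      rw [hF] at h2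
      have h3 : q ^ 2 ≤ 1 ^ 2 := Nat.pow_le_pow_left (by omega) 2
      omega
    obtain ⟨σ, hσ, π, E⟩ := PSU.exists_mod F hF hq1
    refine (E.com_gen (r := r) (by omega) (not_solvable_congr e hsol) hp hpr ?_).of_equiv e
    rintro ⟨rfl, i, hi⟩
    have hi0 : i ≠ 0 := by
      rintro rfl
      rw [pow_zero] at hi
      omega
    exact hsp ⟨rfl, F, i1, i2, q, i, hF, by omega, by omega, ⟨e⟩⟩
  · exact absurd h1 hsz
  · obtain ⟨rfl, h1⟩ := h1
    exact com_2F4 h1 hp hpr
  · obtain ⟨rfl, h1⟩ := h1
    exact com_ree h1 hsol hp hpr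

end Cfsg.Agent.H705
end

-- part: H705/ComUThree
section
/-!
# `PSU₃(3)` at the prime two: some commutator is not a 2-element (helper705)
-/

set_option autoImplicit false
set_option linter.unusedSectionVars false

namespace Cfsg.Agent.H705

open Cfsg

/-- For every nontrivial automorphism some `(a s)⁻¹ * s` is not a `p`-element. -/
def WCom (p : ℕ) (S : Type*) [Group S] : Prop :=
  ∀ a : MulAut S, a ≠ 1 → ∃ s : S, ∀ k : ℕ, orderOf ((a s)⁻¹ * s) ≠ p ^ k

theorem WCom.of_equiv {p : ℕ} {S T : Type*} [Group S] [Group T] (e : S ≃* T) (h : WCom p T) : WCom p S := by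
  intro a ha
  obtain ⟨t, h1⟩ := h ((e.symm.trans a).trans e) (by
    intro h1
    apply ha
    ext s
    have h2 := DFunLike.congr_fun h1 (e s)
    simpa using h2)
  refine ⟨e.symm t, fun k h3 => ?_⟩
  apply h1 k
  rw [← h3]
  have h4 := MulEquiv.orderOf_eq e ((a (e.symm t))⁻¹ * e.symm t)
  rw [← h4]
  simp

namespace USpec

open Cfsg.Agent.LieClassical.HermBasic Cfsg.Agent.LieClassical.HermSiegel
open Cfsg.Agent.ClassicalGeometry.UnitAutBasic Cfsg.Agent.ClassicalGeometry.PSUAutCount

variable {F : Type*} [Field F] [Fintype F]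

theorem charP_three (hF : Fintype.card F = 3 ^ 2) : CharP F 3 := by
  obtain ⟨n, hp, hn⟩ := FiniteField.card F (ringChar F)
  have h1 : ringChar F ∣ 3 := by
    have h2 : ringChar F ∣ 3 ^ 2 := by
      rw [← hF, hn]
      exact dvd_pow_self _ n.ne_zero
    exact hp.dvd_of_dvd_pow h2
  have h3 : ringChar F = 3 := (Nat.prime_dvd_prime_iff_eq hp Nat.prime_three).1 h1
  rw [← h3]
  exact ringChar.charP F

theorem three_eq_zero (hF : Fintype.card F = 3 ^ 2) : (3 : F) = 0 := by
  have := charP_three hF
  exact_mod_cast CharP.cast_eq_zero F 3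

end USpec

/-- the last open situation: `PSU₃(3)` at the prime two -/
def SpecThree (p : ℕ) (S : Type*) [Group S] : Prop :=
  p = 2 ∧ ∃ (F : Type) (_ : Field F) (_ : Fintype F), Fintype.card F = 3 ^ 2 ∧ Nonempty (S ≃* PSU 3 F 3)

/-- **Groups of Lie type**, except for `PSU₃(3)` at the prime two. -/
theorem lie_but {S : Type*} [Group S] [Finite S] [hs : IsSimpleGroup S] {r : ℕ} [hr : Fact r.Prime]
    (h : IsLieTypeChar r S) (hsol : ¬ Group.IsSolvable S) {p : ℕ} (hp : p.Prime) (hsp : ¬ SpecThree p S) : Com p S := by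
  by_cases h1 : Spec p S
  · obtain ⟨rfl, F, i1, i2, q, i, hF, hq, hi, ⟨e⟩⟩ := h1
    have hsim : IsSimpleGroup (PSU 3 F q) := e.symm.isSimpleGroup
    have hfin : Finite (PSU 3 F q) := Finite.of_equiv S e.toEquiv
    by_cases hi1 : i = 1
    · subst hi1
      have hq3 : q = 3 := by omega
      subst hq3
      exact absurd ⟨rfl, F, i1, i2, hF, ⟨e⟩⟩ hsp
    · exact (USpec.com_two hF hq (by omega)).of_equiv e
  · exact lie_gen h hsol hp h1

end Cfsg.Agent.H705
end
end

-- part: H705/ComAll_mg
section
prune_inst 0x42024040820000000000002002000000000042000000000080000000000000208800840000000000200000100000000000000000000000000000000000000000000000000000000000000000000000000000000000000000000000000000000000000000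
set_option linter.all false
open scoped Cfsg.Agent.FastGrp

-- part: H705/ComUInv
section
/-!
# `PSU₃(3)`: involutions and elements of order seven (helper705)
-/

set_option autoImplicit false
set_option linter.unusedSectionVars false

namespace Cfsg.Agent.H705

open Cfsg Matrix

section

variable {r : ℕ} {K : Type*} [Group K] {Ω : Type*} [MulAction K Ω] (O : One r K Ω)

/-- commuting elements have the same fixed point -/
theorem One.eq_of_comm {x y : Ω} {u v : K} (hu : u ∈ O.U x) (hv : v ∈ O.U y) (hu1 : u ≠ 1) (hv1 : v ≠ 1)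
    (h : u * v = v * u) : x = y := by
  by_contra hne
  have h1 : u • v • x = v • x := by rw [← mul_smul, h, mul_smul, O.fix x u hu]
  have h2 : v • x = x := by
    by_contra h3
    exact hu1 (O.free x (v • x) (Ne.symm h3) u hu h1)
  exact hv1 (O.free y x (Ne.symm hne) v hv h2)

/-- the fixed points of an element fixing `x` -/
theorem One.card_fix [Finite K] [Finite Ω] {x z : Ω} (hxz : x ≠ z) {c : K} (hx : c • x = x) (hz : c • z = z) :
    Nat.card {y : Ω // c • y = y} = Nat.card (O.U x ⊓ Subgroup.centralizer {c} : Subgroup K) + 1 := by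
  classical
  have hUc : ∀ u ∈ O.U x, c * u * c⁻¹ ∈ O.U x := by
    have h1 : (O.U x).map (MulAut.conj c).toMonoidHom ≤ O.U x := by
      refine O.max x _ ((O.isP x).map _) ?_
      rintro _ ⟨u, hu, rfl⟩
      show (c * u * c⁻¹) • x = x
      rw [mul_smul, mul_smul, inv_smul_eq_iff.2 hx.symm, O.fix x u hu, hx]
    exact fun u hu => h1 ⟨u, hu, rfl⟩
  have h1 : Nat.card (O.U x ⊓ Subgroup.centralizer {c} : Subgroup K) = Nat.card {y : Ω // c • y = y ∧ y ≠ x} := by
    refine Nat.card_congr (Equiv.ofBijective (fun u : (O.U x ⊓ Subgroup.centralizer {c} : Subgroup K) =>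
      (⟨(u : K) • z, ?_, ?_⟩ : {y : Ω // c • y = y ∧ y ≠ x})) ⟨?_, ?_⟩)
    · have h2 := Subgroup.mem_centralizer_singleton_iff.1 u.2.2
      rw [← mul_smul, ← h2, mul_smul, hz]
    · intro h
      apply hxz
      have := O.fix x u u.2.1
      exact (MulAction.injective (u : K) (h.trans this.symm)).symm
    · intro u v huv
      have h2 : (u : K) • z = (v : K) • z := congrArg Subtype.val huv
      have h3 : ((v : K)⁻¹ * u) • z = z := by rw [mul_smul, h2, inv_smul_smul]
      have h4 := O.free x z hxz _ (mul_mem (inv_mem v.2.1) u.2.1) h3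
      exact Subtype.ext (inv_mul_eq_one.1 h4).symm
    · rintro ⟨y, hy, hyx⟩
      obtain ⟨u, hu, huy⟩ := O.trans x z y hxz hyx.symm
      refine ⟨⟨u, hu, ?_⟩, Subtype.ext huy⟩
      show u ∈ Subgroup.centralizer {c}
      rw [Subgroup.mem_centralizer_singleton_iff]
      have h2 : (u⁻¹ * (c * u * c⁻¹)) • z = z := by
        rw [mul_smul, mul_smul, inv_smul_eq_iff.2 hz.symm, mul_smul, huy, hy, ← huy, inv_smul_smul]
      have h3 := O.free x z hxz _ (mul_mem (inv_mem hu) (hUc u hu)) h2
      have h4 := inv_mul_eq_one.1 h3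
      conv_lhs => rw [h4]
      group
  have := Fintype.ofFinite Ω
  rw [h1, Nat.card_eq_fintype_card, Nat.card_eq_fintype_card, Fintype.card_subtype, Fintype.card_subtype]
  have h2 : (Finset.univ.filter fun y : Ω => c • y = y) =
      insert x (Finset.univ.filter fun y : Ω => c • y = y ∧ y ≠ x) := by
    ext y
    simp only [Finset.mem_filter, Finset.mem_univ, true_and, Finset.mem_insert]
    constructor
    · intro h
      by_cases hyx : y = x
      · exact Or.inl hyx
      · exact Or.inr ⟨h, hyx⟩
    · rintro (h | h)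
      · rw [h]; exact hx
      · exact h.1
  rw [h2, Finset.card_insert_of_notMem]
  simp only [_root_.ne_eq, _root_.Finset.mem_filter, _root_.Finset.mem_univ, _root_.not_true_eq_false, _root_.and_false, _root_.not_false_eq_true]

end

namespace USpec

open Cfsg.Agent.LieClassical.HermBasic Cfsg.Agent.LieClassical.HermSiegel
open Cfsg.Agent.ClassicalGeometry.UnitAutBasic Cfsg.Agent.ClassicalGeometry.PSUAutCount

variable {F : Type*} [Field F] [Fintype F]

/-- the centre of `SU₃(3)` is trivial -/
theorem pr_inj (hF : Fintype.card F = 3 ^ 2) : Function.Injective (pr 3 F 3) := by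
  rw [injective_iff_map_eq_one]
  intro g hg
  have h1 : g ∈ Subgroup.center (SU 3 F 3) := by
    have h2 : pr 3 F 3 1 = pr 3 F 3 g := by rw [hg, map_one]
    have h3 := pr_eq_pr_iff.1 h2
    rwa [inv_one, one_mul] at h3
  obtain ⟨c, h2, h3, rfl⟩ := (LieClassical.SUBasic.mem_center_SU_iff hF le_rfl g).1 h1
  have h4 : c = 1 := by
    have h5 : c ^ 4 = c ^ 3 * c := by ring
    rw [h3, h2, one_mul] at h5
    exact h5.symm
  apply ext_act
  intro x
  rw [act_def, mat_def, LieClassical.SUBasic.coe_suScalar, h4, act_one]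
  ext i
  rw [Matrix.mulVec_diagonal]
  simp

theorem exists_iso (hF : Fintype.card F = 3 ^ 2) : ∃ e f : Fin 3 → F, hermForm 3 F 3 e e = 0 ∧ hermForm 3 F 3 f f = 0 ∧
    hermForm 3 F 3 e f = 1 := by
  obtain ⟨e, f, h⟩ := ClassicalGeometry.PSUAutBasic.exists_frame (F := F) (q := 3) (n := 3) hF (by norm_num)
  exact ⟨e, f, h.ee, h.ff, h.ef⟩

/-- a vector orthogonal to an involutive pair -/
theorem exists_neg (hF : Fintype.card F = 3 ^ 2) {g : SU 3 F 3} (hg : g * g = 1) {v : Fin 3 → F}
    (hv : hermForm 3 F 3 v v = 0) (ht : hermForm 3 F 3 v (act g v) ≠ 0) :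
    ∃ u : Fin 3 → F, u ≠ 0 ∧ act g u = -u ∧ hermForm 3 F 3 u v = 0 ∧ hermForm 3 F 3 u (act g v) = 0 := by
  have hgg : ∀ x, act g (act g x) = x := fun x => by rw [← act_mul, hg, act_one]
  obtain ⟨u₀, hu0, h1, h2⟩ := exists_ne_zero_orth (q := 3) (F := F) (n := 3) le_rfl v (act g v)
  have h3 : hermForm 3 F 3 (act g u₀) v = 0 := by
    rw [← hgg v, herm_act, h2]
  have h4 : hermForm 3 F 3 (act g u₀) (act g v) = 0 := by rw [herm_act, h1]
  by_cases h5 : u₀ - act g u₀ = 0
  · exfalso
    have h6 : act g u₀ = u₀ := (sub_eq_zero.1 h5).symm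
    -- the determinant of `g` would be `-1`
    set P : Matrix (Fin 3) (Fin 3) F := Matrix.of fun i j => (![v, act g v, u₀] j) i with hP
    set M : Matrix (Fin 3) (Fin 3) F := !![0, 1, 0; 1, 0, 0; 0, 0, 1] with hM
    have hPx : ∀ x : Fin 3 → F, P *ᵥ x = x 0 • v + x 1 • act g v + x 2 • u₀ := by
      intro x
      funext i
      simp only [hP, Matrix.mulVec, dotProduct, Fin.sum_univ_three, Matrix.of_apply, Pi.add_apply, Pi.smul_apply,
        smul_eq_mul]
      simp only [_root_.Nat.succ_eq_add_one, _root_.Nat.reduceAdd, _root_.Fin.isValue, _root_.Matrix.cons_val', _root_.Matrix.cons_val_fin_one, _root_.Matrix.cons_val_zero, _root_.Matrix.cons_val_one, _root_.Matrix.cons_val]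
      ring
    have hswap : hermForm 3 F 3 (act g v) v = hermForm 3 F 3 v (act g v) := by
      conv_lhs => rw [← hgg v]
      rw [herm_act, hgg]
    have hdet : P.det ≠ 0 := by
      intro hdet
      obtain ⟨x, hx0, hx⟩ := Matrix.exists_mulVec_eq_zero_iff.2 hdet
      rw [hPx] at hx
      have e1 := congrArg (fun y => hermForm 3 F 3 y v) hx
      have e2 := congrArg (fun y => hermForm 3 F 3 y (act g v)) hx
      simp only [herm_add_left, herm_smul_left, herm_zero_left, hv, h1, h2, herm_act, mul_zero, zero_add, add_zero,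
        hswap] at e1 e2
      have e3 : x 1 = 0 := (mul_eq_zero.1 e1).resolve_right ht
      have e4 : x 0 = 0 := (mul_eq_zero.1 e2).resolve_right ht
      rw [e3, e4, zero_smul, zero_smul, zero_add, zero_add] at hx
      have e5 : x 2 = 0 := (smul_eq_zero.1 hx).resolve_right hu0
      apply hx0
      funext i
      fin_cases i
      · exact e4
      · exact e3
      · exact e5
    have hmul : mat g * P = P * M := by
      apply Matrix.ext_of_mulVec_single
      intro i
      generalize (Pi.single i (1 : F) : Fin 3 → F) = x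
      rw [← Matrix.mulVec_mulVec, ← Matrix.mulVec_mulVec, hPx, hPx]
      have e1 : mat g *ᵥ (x 0 • v + x 1 • act g v + x 2 • u₀) = act g (x 0 • v + x 1 • act g v + x 2 • u₀) := rfl
      rw [e1, act_add, act_add, act_smul, act_smul, act_smul, hgg, h6]
      have e2 : (M *ᵥ x) 0 = x 1 := by simp [hM, Matrix.mulVec, dotProduct, Fin.sum_univ_three]
      have e3 : (M *ᵥ x) 1 = x 0 := by simp [hM, Matrix.mulVec, dotProduct, Fin.sum_univ_three]
      have e4 : (M *ᵥ x) 2 = x 2 := by simp [hM, Matrix.mulVec, dotProduct, Fin.sum_univ_three]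
      rw [e2, e3, e4, add_comm (x 1 • v)]
    have h7 := congrArg Matrix.det hmul
    have h8 : (mat g).det = 1 := (g : Matrix.SpecialLinearGroup (Fin 3) F).det_coe
    have h9 : M.det = -1 := by rw [hM, Matrix.det_fin_three]; simp
    rw [Matrix.det_mul, Matrix.det_mul, h8, h9, one_mul] at h7
    have h10 : (2 : F) * P.det = 0 := by linear_combination h7
    rcases mul_eq_zero.1 h10 with h11 | h11
    · have := three_eq_zero hF
      have : (1 : F) = 0 := by linear_combination this - h11
      exact one_ne_zero this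
    · exact hdet h11
  · refine ⟨u₀ - act g u₀, h5, ?_, ?_, ?_⟩
    · rw [act_sub, hgg, neg_sub]
    · rw [herm_sub_left, h1, h3, sub_zero]
    · rw [herm_sub_left, h2, h4, sub_zero]

/-- an involution inverts an isotropic vector, or moves one to an orthogonal one -/
theorem exists_inv_iso (hF : Fintype.card F = 3 ^ 2) {g : SU 3 F 3} (hg : g * g = 1) :
    ∃ y : Fin 3 → F, y ≠ 0 ∧ hermForm 3 F 3 y y = 0 ∧ hermForm 3 F 3 y (act g y) = 0 := by
  have hgg : ∀ x, act g (act g x) = x := fun x => by rw [← act_mul, hg, act_one]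
  have h3 := three_eq_zero hF
  obtain ⟨v, f, hv, -, hvf⟩ := exists_iso hF
  have hv0 : v ≠ 0 := by
    rintro rfl
    rw [herm_zero_left] at hvf
    exact zero_ne_one hvf
  by_cases ht : hermForm 3 F 3 v (act g v) = 0
  · exact ⟨v, hv0, hv, ht⟩
  obtain ⟨u, hu0, hgu, huv, hugv⟩ := exists_neg hF hg hv ht
  by_cases hs : hermForm 3 F 3 u u = 0
  · refine ⟨u, hu0, hs, ?_⟩
    rw [hgu, herm_neg_right hF, hs, neg_zero]
  have hswap : hermForm 3 F 3 (act g v) v = hermForm 3 F 3 v (act g v) := by
    conv_lhs => rw [← hgg v]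
    rw [herm_act, hgg]
  set t := hermForm 3 F 3 v (act g v) with htdef
  set s := hermForm 3 F 3 u u with hsdef
  have htq : t ^ 3 = t := by
    have := herm_swap hF v (act g v)
    rw [hswap] at this
    exact this.symm
  have hsq : s ^ 3 = s := herm_self_pow hF u
  obtain ⟨b, hb⟩ := _root_.Cfsg.Agent.LieClassical.HermBasic.exists_norm_eq hF (c := 2 * t / s) (by
    rw [div_pow, mul_pow, htq, hsq]
    have : (2 : F) ^ 3 = 2 := by linear_combination 2 * h3
    rw [this])
  have hvu : hermForm 3 F 3 v u = 0 := herm_eq_zero_swap hF huv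
  have hgvu : hermForm 3 F 3 (act g v) u = 0 := herm_eq_zero_swap hF hugv
  have hyv : hermForm 3 F 3 (v - act g v + b • u) v = -t := by
    rw [herm_add_left, herm_sub_left, herm_smul_left, hv, huv, hswap]
    ring
  refine ⟨v - act g v + b • u, ?_, ?_, ?_⟩
  · intro h
    rw [h, herm_zero_left] at hyv
    exact ht (neg_eq_zero.1 hyv.symm)
  · rw [herm_add_left, herm_sub_left, herm_smul_left, herm_add_right hF, herm_add_right hF, herm_add_right hF,
      herm_sub_right hF, herm_sub_right hF, herm_sub_right hF, herm_smul_right, herm_smul_right, herm_smul_right,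
      hv, hvu, hgvu, huv, hugv, herm_act, hv, hswap, ← htdef, ← hsdef]
    have e1 : b * b ^ 3 * s = 2 * t := by rw [hb]; field_simp
    linear_combination e1
  · have e1 : act g (v - act g v + b • u) = -(v - act g v + b • u) := by
      rw [act_add, act_sub, act_smul, hgg, hgu]
      funext i
      simp only [Pi.add_apply, Pi.sub_apply, Pi.smul_apply, smul_eq_mul, Pi.neg_apply]
      ring
    rw [e1, herm_neg_right hF]
    have e2 : hermForm 3 F 3 (v - act g v + b • u) (v - act g v + b • u) = 0 := by
      rw [herm_add_left, herm_sub_left, herm_smul_left, herm_add_right hF, herm_add_right hF, herm_add_right hF,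
        herm_sub_right hF, herm_sub_right hF, herm_sub_right hF, herm_smul_right, herm_smul_right, herm_smul_right,
        hv, hvu, hgvu, huv, hugv, herm_act, hv, hswap, ← htdef, ← hsdef]
      have e1 : b * b ^ 3 * s = 2 * t := by rw [hb]; field_simp
      linear_combination e1
    rw [e2, neg_zero]

end USpec

end Cfsg.Agent.H705
end

-- part: H705/ComUFull
section
/-!
# `PSU₃(3)` at the prime two (helper705)
-/

set_option autoImplicit false
set_option linter.unusedSectionVars false

namespace Cfsg.Agent.H705.USpec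

open Cfsg Matrix
open Cfsg.Agent.LieClassical.HermBasic Cfsg.Agent.LieClassical.HermSiegel
open Cfsg.Agent.ClassicalGeometry.UnitAutBasic Cfsg.Agent.ClassicalGeometry.PSUAutCount
open Cfsg.Agent.HKS.EndU (tor)

variable {F : Type*} [Field F] [Fintype F]

theorem card_K (hF : Fintype.card F = 3 ^ 2) : Nat.card (PSU 3 F 3) = 6048 := by
  have h := Cfsg.Agent.S0280.result (F := F) (q := 3) hF 3 (by norm_num)
  norm_num only [Finset.prod_range_succ, Nat.even_iff, _root_.one_mul, _root_.Finset.range_one, _root_.Finset.prod_singleton, _root_.ite_true, _root_.ite_false] at h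
  omega

/-- the rank one structure of `PSU₃(3)` -/
theorem exists_struct (hF : Fintype.card F = 3 ^ 2) [hfin : Finite (PSU 3 F 3)] [hs : IsSimpleGroup (PSU 3 F 3)]
    [hr : Fact (Nat.Prime 3)] :
    ∃ O : One 3 (PSU 3 F 3) (Sylow 3 (PSU 3 F 3)), (∀ x, O.U x = x) ∧ FaithfulSMul (PSU 3 F 3) (Sylow 3 (PSU 3 F 3)) ∧
      (∀ x : Sylow 3 (PSU 3 F 3), Nat.card (x : Subgroup (PSU 3 F 3)) = 27) ∧ Nat.card (Sylow 3 (PSU 3 F 3)) = 28 := by
  have hch : CharP F 3 := charP_three hF
  obtain ⟨σ, hσ, π, E⟩ := PSU.exists_mod F hF (by norm_num)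
  obtain ⟨P₀, hP₀⟩ := E.exists_syl (r := 3) (by norm_num)
  have hU := E.unip_ne (by norm_num)
  have h27 : ∀ x : Sylow 3 (PSU 3 F 3), Nat.card (x : Subgroup (PSU 3 F 3)) = 27 := by
    intro x
    obtain ⟨g, rfl⟩ := MulAction.exists_smul_eq (PSU 3 F 3) P₀ x
    have h1 := Nat.card_congr (Sylow.equivSMul P₀ g).toEquiv
    rw [← h1, hP₀, E.card_unip]
    norm_num
  refine ⟨oneSyl E.data P₀ hP₀ hU, fun x => rfl, faithful_syl E.data P₀ hP₀ hU, h27, ?_⟩
  rw [(oneSyl E.data P₀ hP₀ hU).card_points P₀]
  show Nat.card (P₀ : Subgroup (PSU 3 F 3)) + 1 = 28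
  rw [h27]

theorem card_stab (hF : Fintype.card F = 3 ^ 2) [hfin : Finite (PSU 3 F 3)] [hs : IsSimpleGroup (PSU 3 F 3)]
    [hr : Fact (Nat.Prime 3)] (x : Sylow 3 (PSU 3 F 3)) :
    Nat.card (MulAction.stabilizer (PSU 3 F 3) x) = 216 := by
  obtain ⟨O, -, -, -, h28⟩ := exists_struct (F := F) hF
  have h1 := x.card_eq_index_normalizer
  rw [h28] at h1
  have h2 := (Subgroup.normalizer (x : Set (PSU 3 F 3))).card_mul_index
  rw [← h1, card_K hF] at h2
  have h3 : MulAction.stabilizer (PSU 3 F 3) x = Subgroup.normalizer (x : Set (PSU 3 F 3)) :=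
    Sylow.stabilizer_eq_normalizer x
  rw [h3]
  omega

/-- involutions have fixed points -/
theorem inv_fix (hF : Fintype.card F = 3 ^ 2) [hfin : Finite (PSU 3 F 3)] [hs : IsSimpleGroup (PSU 3 F 3)]
    [hr : Fact (Nat.Prime 3)] {c : PSU 3 F 3} (hc : c * c = 1) : ∃ x : Sylow 3 (PSU 3 F 3), c • x = x := by
  have hch : CharP F 3 := charP_three hF
  obtain ⟨O, hOU, -, -, -⟩ := exists_struct (F := F) hF
  obtain ⟨g, rfl⟩ := pr_surjective c
  have hg : g * g = 1 := by
    apply pr_inj hF
    rw [map_mul, map_one, hc]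
  obtain ⟨y, hy0, hy, hyg⟩ := exists_inv_iso hF hg
  have hgy : hermForm 3 F 3 (act g y) (act g y) = 0 := iso_act g hy
  have h1 : IsPGroup 3 (Subgroup.zpowers (tau hF y)) := isPGroup_zpowers (k := 1) (by rw [pow_one]; exact tau_pow hF hy)
  obtain ⟨x, hx⟩ := h1.exists_le_sylow
  have hxy : tau hF y ∈ (x : Subgroup (PSU 3 F 3)) := hx (Subgroup.mem_zpowers _)
  refine ⟨x, ?_⟩
  have hne : tau hF y ≠ 1 := fun h => hy0 ((tau_eq_one_iff hF le_rfl hy).1 h)
  have h2 : pr 3 F 3 g * tau hF y * (pr 3 F 3 g)⁻¹ = tau hF (act g y) := conj_tau hF g hy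
  refine (O.eq_of_comm (x := x) (y := pr 3 F 3 g • x) (u := tau hF y) (v := tau hF (act g y)) ?_ ?_ hne ?_ ?_).symm
  · rw [hOU]; exact hxy
  · rw [hOU, mem_smul_sylow, ← h2]
    have : (pr 3 F 3 g)⁻¹ * (pr 3 F 3 g * tau hF y * (pr 3 F 3 g)⁻¹) * pr 3 F 3 g = tau hF y := by group
    rw [this]
    exact hxy
  · rw [← h2]
    intro h
    apply hne
    have : tau hF y = (pr 3 F 3 g)⁻¹ * (pr 3 F 3 g * tau hF y * (pr 3 F 3 g)⁻¹) * pr 3 F 3 g := by group
    rw [this, h]
    group
  · have hgy0 : act g y ≠ 0 := by
      intro h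
      apply hy0
      have := congrArg (act g) h
      rw [← act_mul, hg, act_one, act_zero] at this
      exact this
    exact (tau_comm_iff hF le_rfl hy hgy hgy0).2 (herm_eq_zero_swap hF hyg)

/-- involutions do not commute with elements of order seven -/
theorem no_seven (hF : Fintype.card F = 3 ^ 2) [hfin : Finite (PSU 3 F 3)] [hs : IsSimpleGroup (PSU 3 F 3)]
    {c y : PSU 3 F 3} (hc : c * c = 1) (hc1 : c ≠ 1) (hy : orderOf y = 7) (hcy : c * y = y * c) : False := by
  classical
  have hr : Fact (Nat.Prime 3) := ⟨Nat.prime_three⟩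
  have h7 : Fact (Nat.Prime 7) := ⟨by norm_num⟩
  obtain ⟨O, hOU, hfaith, h27, h28⟩ := exists_struct (F := F) hF
  obtain ⟨x, hx⟩ := inv_fix hF hc
  have hyfix : ∀ z : Sylow 3 (PSU 3 F 3), y • z ≠ z := by
    intro z hz
    have h1 := orderOf_dvd_natCard (⟨y, hz⟩ : MulAction.stabilizer (PSU 3 F 3) z)
    rw [← Subgroup.orderOf_coe] at h1
    simp only [hy, card_stab hF z] at h1
    omega
  have hz : c • y • x = y • x := by rw [← mul_smul, hcy, mul_smul, hx]
  have h1 := O.card_fix (hyfix x).symm hx hz
  set X := {z : Sylow 3 (PSU 3 F 3) // c • z = z} with hX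
  let f : Function.End X := fun z => ⟨y • z.1, by rw [← mul_smul, hcy, mul_smul, z.2]⟩
  have hf : ∀ (k : ℕ) (z : X), ((f ^ k) z).1 = y ^ k • z.1 := by
    intro k
    induction k with
    | zero =>
      intro z
      rw [pow_zero, pow_zero, one_smul]
      rfl
    | succ k ih =>
      intro z
      rw [pow_succ]
      show ((f ^ k) (f z)).1 = _
      rw [ih, pow_succ, mul_smul]
  have hf7 : f ^ 7 ^ 1 = 1 := by
    funext z
    apply Subtype.ext
    rw [hf, pow_one, ← hy, pow_orderOf_eq_one, one_smul]
    rfl
  have h2 := Equiv.Perm.card_fixedPoints_modEq hf7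
  have h3 : Fintype.card (Function.fixedPoints f) = 0 := by
    rw [Fintype.card_eq_zero_iff]
    constructor
    rintro ⟨z, hz⟩
    exact hyfix z.1 (congrArg Subtype.val hz)
  rw [h3, ← Nat.card_eq_fintype_card, h1] at h2
  have h4 : Nat.card (O.U x ⊓ Subgroup.centralizer {c} : Subgroup (PSU 3 F 3)) ∣ 3 ^ 3 := by
    have h5 : Nat.card (O.U x) = 3 ^ 3 := by rw [hOU x, h27 x]; norm_num
    rw [← h5]
    exact Subgroup.card_dvd_of_le inf_le_left
  obtain ⟨j, hj, hj'⟩ := (Nat.dvd_prime_pow Nat.prime_three).1 h4
  rw [hj'] at h2 h1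
  have h5 : j = 3 := by
    interval_cases j
    · exact absurd h2 (by decide)
    · exact absurd h2 (by decide)
    · exact absurd h2 (by decide)
    · rfl
  rw [h5] at h1
  apply hc1
  have h6 : ∀ z : Sylow 3 (PSU 3 F 3), c • z = z := by
    intro z
    by_contra hne
    have h7 : Nat.card X < Nat.card (Sylow 3 (PSU 3 F 3)) := by
      rw [Nat.card_eq_fintype_card, Nat.card_eq_fintype_card]
      exact Fintype.card_subtype_lt (x := z) hne
    rw [h1, h28] at h7
    omega
  apply eq_of_smul_eq_smul (α := Sylow 3 (PSU 3 F 3))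
  intro z
  rw [one_smul, h6]

/-- the fixed points of a bad automorphism do not contain elements of order seven -/
theorem not_seven (hF : Fintype.card F = 3 ^ 2) [hfin : Finite (PSU 3 F 3)] [hs : IsSimpleGroup (PSU 3 F 3)]
    {a : MulAut (PSU 3 F 3)} (ha : Bad 2 a) (h3 : ∀ s : PSU 3 F 3, orderOf s = 3 → a s ≠ s) :
    ¬ 7 ∣ Nat.card (fixS a) := by
  classical
  intro h7c
  have h7 : Fact (Nat.Prime 7) := ⟨by norm_num⟩
  have h3p : Fact (Nat.Prime 3) := ⟨by norm_num⟩
  obtain ⟨⟨y, hya⟩, hy7⟩ := exists_prime_orderOf_dvd_card' 7 h7c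
  have hy : orderOf y = 7 := by
    rw [← hy7]
    exact (Subgroup.orderOf_coe (⟨y, hya⟩ : fixS a))
  have hay : a y = y := hya
  -- the Sylow subgroup
  have hcard : Nat.card (Subgroup.zpowers y) = 7 ^ (Nat.card (PSU 3 F 3)).factorization 7 := by
    rw [Nat.card_zpowers, hy, card_K hF]
    have : (6048 : ℕ).factorization 7 = 1 := by
      rw [show (6048 : ℕ) = 7 * 864 by norm_num, Nat.factorization_mul (by norm_num) (by norm_num), Finsupp.add_apply,
        (by norm_num : Nat.Prime 7).factorization_self, Nat.factorization_eq_zero_of_not_dvd (by norm_num)]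
    rw [this, pow_one]
  set P : Sylow 7 (PSU 3 F 3) := Sylow.ofCard (Subgroup.zpowers y) hcard with hP
  have hPy : (P : Subgroup (PSU 3 F 3)) = Subgroup.zpowers y := rfl
  set N := Subgroup.normalizer (P : Set (PSU 3 F 3)) with hN
  have hidx := P.card_eq_index_normalizer
  have hmod := card_sylow_modEq_one 7 (PSU 3 F 3)
  rw [hidx, ← hN] at hmod
  have hmul := N.card_mul_index
  rw [card_K hF] at hmul
  have hyN : 7 ∣ Nat.card N := by
    have h1 : Subgroup.zpowers y ≤ N := by
      rw [← hPy]
      exact Subgroup.le_normalizer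
    have h2 := Subgroup.card_dvd_of_le h1
    rwa [Nat.card_zpowers, hy] at h2
  -- `3` divides the order of the normaliser
  have h3N : 3 ∣ Nat.card N := by
    by_contra h3N
    obtain ⟨m, hm⟩ := hyN
    rw [hm] at hmul h3N
    have e1 : m * N.index = 864 := by
      have : 7 * (m * N.index) = 7 * 864 := by rw [← mul_assoc, hmul]
      exact Nat.eq_of_mul_eq_mul_left (by norm_num) this
    have e2 : Nat.Coprime 27 m := by
      have : Nat.Coprime 3 m := (Nat.Prime.coprime_iff_not_dvd Nat.prime_three).2 fun h => h3N (h.mul_left 7)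
      exact Nat.Coprime.pow_left 3 this
    have e3 : 27 ∣ N.index := e2.dvd_of_dvd_mul_left (by rw [e1]; norm_num)
    obtain ⟨k, hk⟩ := e3
    rw [hk] at e1 hmod
    have e4 : m * k = 32 := by
      have : 27 * (m * k) = 27 * 32 := by rw [← mul_assoc, mul_comm 27 m, mul_assoc, e1]
      exact Nat.eq_of_mul_eq_mul_left (by norm_num) this
    have e5 : k ∣ 2 ^ 5 := Dvd.intro_left m e4
    obtain ⟨j, hj, rfl⟩ := (Nat.dvd_prime_pow Nat.prime_two).1 e5
    interval_cases j <;> exact absurd hmod (by decide)
  obtain ⟨⟨s, hsN⟩, hs3⟩ := exists_prime_orderOf_dvd_card' 3 h3N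
  have hs : orderOf s = 3 := (Subgroup.orderOf_coe (⟨s, hsN⟩ : N)).trans hs3
  apply h3 s hs
  -- `a s` and `s` act in the same way on `y`
  have h1 : s * y * s⁻¹ ∈ Subgroup.zpowers y := by
    have h2 : y ∈ (P : Subgroup (PSU 3 F 3)) := by rw [hPy]; exact Subgroup.mem_zpowers y
    have h3 := (Subgroup.mem_normalizer_iff.1 hsN y).1 h2
    exact h3
  obtain ⟨j, hj⟩ := Subgroup.mem_zpowers_iff.1 h1
  have h2 : a s * y * (a s)⁻¹ = s * y * s⁻¹ := by
    have h4 : a (s * y * s⁻¹) = s * y * s⁻¹ := by rw [← hj, map_zpow, hay]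
    rw [map_mul, map_mul, map_inv, hay] at h4
    exact h4
  set d := (a s)⁻¹ * s with hd
  have hdy : d * y = y * d := by
    have h4 : s * y = a s * y * (a s)⁻¹ * s := by rw [h2]; group
    rw [hd, mul_assoc, h4]
    group
  rcases ha s with h4 | h4
  · exact inv_mul_eq_one.1 h4
  · exfalso
    rw [← hd] at h4
    obtain ⟨m, hm⟩ := h4
    have hd0 := (orderOf_pos d :)
    have hm0 : 0 < m := by
      rcases Nat.eq_zero_or_pos m with h | h
      · rw [hm, h] at hd0
        omega
      · exact h
    refine no_seven hF (c := d ^ m) (y := y) ?_ ?_ hy ?_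
    · rw [← pow_add, ← two_mul, ← hm, pow_orderOf_eq_one]
    · intro h5
      have h6 := Nat.le_of_dvd hm0 (orderOf_dvd_of_pow_eq_one h5)
      omega
    · exact ((show Commute d y from hdy).pow_left m)

/-- elements of the prime field and of the field with nine elements -/
theorem ringEquiv_nine (hF : Fintype.card F = 3 ^ 2) (ρ : F ≃+* F) (x : F) : ρ x = x ∨ ρ x = x ^ 3 := by
  have hch : CharP F 3 := charP_three hF
  have h3 : Fact (Nat.Prime 3) := ⟨Nat.prime_three⟩
  have hF3 : ∀ x : F, x ^ 3 = x → ρ x = x := by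
    intro x hx
    have h2 : x ∈ (⊥ : Subfield F) := (Subfield.mem_bot_iff_pow_eq_self (F := F) (p := 3)).2 hx
    have h3 : (⊥ : Subfield F) ≤ (ρ : F →+* F).eqLocusField (RingHom.id F) := bot_le
    exact h3 h2
  have hx : (x ^ 3) ^ 3 = x := pow_q_pow_q hF x
  have ht : ρ (x + x ^ 3) = x + x ^ 3 := by
    apply hF3
    have : (x + x ^ 3) ^ 3 = x ^ 3 + (x ^ 3) ^ 3 := add_pow_char x (x ^ 3) 3
    rw [this, hx, add_comm]
  have hd : ρ (x * x ^ 3) = x * x ^ 3 := by
    apply hF3
    rw [mul_pow, hx, mul_comm]
  rw [map_add, map_pow] at ht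
  rw [map_mul, map_pow] at hd
  have h4 : (ρ x - x) * (ρ x - x ^ 3) = 0 := by
    linear_combination (-hd + (ρ x) * ht)
  rcases mul_eq_zero.1 h4 with h5 | h5
  · exact Or.inl (sub_eq_zero.1 h5)
  · exact Or.inr (sub_eq_zero.1 h5)

/-- a fixed point free automorphism does not centralise an element of order eight of the torus -/
theorem not_torus (hF : Fintype.card F = 3 ^ 2) {A : GU 3 F 3} {ρ : F ≃+* F} {e : Fin 3 → F}
    (hno : hermForm 3 F 3 e (TG.phi A ρ e) ≠ 0) {g : SU 3 F 3} {l : F} (hl : l ^ 4 ≠ 1) (hl8 : l ^ 8 = 1)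
    (hg : act g e = l • e) (h : toAut A ρ (pr 3 F 3 g) = pr 3 F 3 g) : False := by
  have h1 : semiConj A ρ g = g := by
    apply pr_inj hF
    rw [← toAut_pr, h]
  have h2 : act g (TG.phi A ρ e) = ρ l • TG.phi A ρ e := by
    have h3 := act_semiConj A ρ g e
    rw [h1] at h3
    have h4 : (fun i => ρ (act g e i)) = ρ l • fun i => ρ (e i) := by
      funext i
      rw [hg]
      simp
    rw [h4, Matrix.mulVec_smul] at h3
    exact h3
  have h3 : hermForm 3 F 3 e (TG.phi A ρ e) = l * ρ l ^ 3 * hermForm 3 F 3 e (TG.phi A ρ e) := by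
    conv_lhs => rw [← herm_act g, hg, h2]
    rw [herm_smul_left, herm_smul_right]
    ring
  have h4 : l * ρ l ^ 3 = 1 := by
    apply mul_right_cancel₀ hno
    rw [one_mul]
    exact h3.symm
  rcases ringEquiv_nine hF ρ l with h5 | h5
  · rw [h5] at h4
    exact hl (by rw [← h4]; ring)
  · rw [h5] at h4
    have h6 : l ^ 2 = 1 := by
      have : l * (l ^ 3) ^ 3 = l ^ 8 * l ^ 2 := by ring
      rw [this, hl8, one_mul] at h4
      exact h4
    exact hl (by rw [show (4 : ℕ) = 2 * 2 by norm_num, pow_mul, h6, one_pow])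

/-- an element of order a power of two with an isotropic eigenvector, the eigenvalue has order eight -/
theorem exists_torus (hF : Fintype.card F = 3 ^ 2) [hfin : Finite (PSU 3 F 3)] :
    ∃ (g : SU 3 F 3) (e : Fin 3 → F) (l : F), e ≠ 0 ∧ hermForm 3 F 3 e e = 0 ∧ act g e = l • e ∧ l ^ 4 ≠ 1 ∧
      l ^ 8 = 1 ∧ ∃ k : ℕ, pr 3 F 3 g ^ 2 ^ k = 1 := by
  classical
  obtain ⟨e, f, he, hf, hef⟩ := exists_iso hF
  have he0 : e ≠ 0 := by
    rintro rfl
    rw [herm_zero_left] at hef
    exact zero_ne_one hef
  obtain ⟨l₀, hl₀⟩ := IsCyclic.exists_generator (α := Fˣ)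
  have hord : orderOf l₀ = 8 := by
    rw [orderOf_eq_card_of_forall_mem_zpowers hl₀, Nat.card_units, Nat.card_eq_fintype_card, hF]
    norm_num
  have hl0 : (l₀ : F) ≠ 0 := l₀.ne_zero
  have hpow : ∀ n : ℕ, (l₀ : F) ^ n = 1 ↔ 8 ∣ n := by
    intro n
    rw [← hord, orderOf_dvd_iff_pow_eq_one, Units.ext_iff, Units.val_pow_eq_pow_val, Units.val_one]
  set b : F := ((l₀ : F)⁻¹) ^ 3 with hb
  obtain ⟨g, -, hg, -⟩ := LieClassical.HermGen.exists_map_hyp (F := F) (q := 3) (n := 3) hF (k := 3) le_rfl le_rfl
    (LieClassical.HermGen.mem_coordSub_top e) (LieClassical.HermGen.mem_coordSub_top f)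
    (LieClassical.HermGen.mem_coordSub_top ((l₀ : F) • e)) (LieClassical.HermGen.mem_coordSub_top (b • f))
    he hf hef (iso_smul _ he) (iso_smul _ hf) (by
      rw [herm_smul_left, herm_smul_right, hef, hb, pow_q_pow_q hF, mul_one, mul_inv_cancel₀ hl0])
  -- the `2`-part
  have hN : Nat.card (PSU 3 F 3) ≠ 0 := Nat.card_pos.ne'
  set n := orderOf (pr 3 F 3 g) with hn
  have hn0 : n ≠ 0 := ((orderOf_pos _).ne' : _)
  obtain ⟨k, m, hm, hkm⟩ : ∃ k m : ℕ, ¬ 2 ∣ m ∧ n = 2 ^ k * m :=
    ⟨n.factorization 2, n / 2 ^ n.factorization 2, Nat.not_dvd_ordCompl Nat.prime_two hn0,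
      (Nat.ordProj_mul_ordCompl_eq_self n 2).symm⟩
  have hgm : ∀ j : ℕ, act (g ^ j) e = ((l₀ : F) ^ j) • e := by
    intro j
    induction j with
    | zero => rw [pow_zero, pow_zero, act_one, one_smul]
    | succ j ih => rw [pow_succ', act_mul, ih, act_smul, hg, smul_smul, ← pow_succ]
  refine ⟨g ^ m, e, (l₀ : F) ^ m, he0, he, hgm m, ?_, ?_, k, ?_⟩
  · rw [← pow_mul, Ne, hpow]
    omega
  · rw [← pow_mul, hpow]
    exact Dvd.intro_left m rfl
  · rw [map_pow, ← pow_mul, mul_comm, ← hkm, hn, pow_orderOf_eq_one]

/-- **`PSU₃(3)` at the prime two.** -/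
theorem com_three (hF : Fintype.card F = 3 ^ 2) [hfin : Finite (PSU 3 F 3)] [hs : IsSimpleGroup (PSU 3 F 3)] :
    Com 2 (PSU 3 F 3) := by
  classical
  have h3p : Fact (Nat.Prime 3) := ⟨Nat.prime_three⟩
  have h2p : Fact (Nat.Prime 2) := ⟨Nat.prime_two⟩
  have hch : CharP F 3 := charP_three hF
  rw [com_iff]
  intro α hα
  by_contra hne
  obtain ⟨σ, hσ, π, E⟩ := PSU.exists_mod F hF (by norm_num)
  obtain ⟨P₀, hP₀⟩ := E.exists_syl (r := 3) (by norm_num)
  have hreg : ∃ t ∈ (Cfsg.Agent.UThreeGen.MatGroup.borel σ).map π,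
      (π (Cfsg.Agent.UThreeGen.MatGroup.wel σ))⁻¹ * t * π (Cfsg.Agent.UThreeGen.MatGroup.wel σ) ∈
        (Cfsg.Agent.UThreeGen.MatGroup.borel σ).map π ∧
      ∀ u ∈ (Cfsg.Agent.UThreeGen.MatGroup.emb σ).range.map π, t * u * t⁻¹ = u → u = 1 := by
    obtain ⟨l₀, hl₀, hord, -⟩ := E.exists_generator (by norm_num)
    refine ⟨π (tor σ l₀), (PSU.two_mem l₀).1, (PSU.two_mem l₀).2, fun u hu hfix => E.regular ?_ hu hfix⟩
    intro h1
    have h2 : l₀ ^ (3 + 1) = 1 := by
      apply Units.ext
      rw [Units.val_pow_eq_pow_val, Units.val_one, pow_succ', ← E.pow, h1]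
    have h3 := orderOf_dvd_of_pow_eq_one h2
    rw [hord] at h3
    norm_num at h3
  have h3 : ∀ s : PSU 3 F 3, orderOf s = 3 → α s ≠ s := by
    intro s hs3 hs
    apply hne
    refine eq_one_of_fixed_elt E.data P₀ hP₀ (E.unip_ne (by norm_num)) Nat.prime_two (by norm_num) hα hreg
      (u := s) (k := 1) ?_ (by rw [pow_one]; exact orderOf_dvd_iff_pow_eq_one.1 hs3.dvd) hs
    rintro rfl
    rw [orderOf_one] at hs3
    norm_num at hs3
  have h7 := not_seven hF hα h3
  have h3c : ¬ 3 ∣ Nat.card (fixS α) := by
    intro h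
    obtain ⟨⟨s, hsα⟩, hs3⟩ := exists_prime_orderOf_dvd_card' 3 h
    exact h3 s ((Subgroup.orderOf_coe (⟨s, hsα⟩ : fixS α)).trans hs3) hsα
  have hdvd : Nat.card (fixS α) ∣ 2 ^ 5 := by
    have h1 := (fixS α).card_subgroup_dvd_card
    rw [card_K hF] at h1
    have e1 : (6048 : ℕ) = 2 ^ 5 * (7 * 27) := by norm_num
    rw [e1] at h1
    refine Nat.Coprime.dvd_of_dvd_mul_right ?_ h1
    refine Nat.Coprime.mul_right ?_ ?_
    · exact ((Nat.Prime.coprime_iff_not_dvd (by norm_num)).2 h7).symm
    · exact (Nat.Coprime.pow_left 3 ((Nat.Prime.coprime_iff_not_dvd Nat.prime_three).2 h3c)).symm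
  have h27 : 27 ≤ Nat.card (fixS α) := by
    have h1 := (hα.card_le (by norm_num) (P₀ : Subgroup (PSU 3 F 3)) (by
      rw [hP₀, E.card_unip]
      decide) :)
    rwa [hP₀, E.card_unip] at h1
  have h32 : Nat.card (fixS α) = 32 := by
    obtain ⟨j, hj, hj'⟩ := (Nat.dvd_prime_pow Nat.prime_two).1 hdvd
    rw [hj'] at h27 ⊢
    interval_cases j <;> omega
  -- the fixed points are a Sylow `2`-subgroup
  have hcard : Nat.card (fixS α) = 2 ^ (Nat.card (PSU 3 F 3)).factorization 2 := by
    rw [h32, card_K hF]
    have : (6048 : ℕ).factorization 2 = 5 := by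
      rw [show (6048 : ℕ) = 2 ^ 5 * 189 by norm_num, Nat.factorization_mul (by norm_num) (by norm_num),
        Finsupp.add_apply, Nat.factorization_pow, Finsupp.smul_apply, Nat.prime_two.factorization_self,
        Nat.factorization_eq_zero_of_not_dvd (by norm_num)]
      rfl
    rw [this]
    norm_num
  set T : Sylow 2 (PSU 3 F 3) := Sylow.ofCard (fixS α) hcard with hT
  have hTα : (T : Subgroup (PSU 3 F 3)) = fixS α := rfl
  obtain ⟨g, e, l, he0, he, hge, hl4, hl8, k, hk⟩ := exists_torus (F := F) hF
  have h1 : IsPGroup 2 (Subgroup.zpowers (pr 3 F 3 g)) := isPGroup_zpowers hk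
  obtain ⟨Q, hQ⟩ := h1.exists_le_sylow
  obtain ⟨x, hx⟩ := MulAction.exists_smul_eq (PSU 3 F 3) Q T
  obtain ⟨y, rfl⟩ := pr_surjective x
  have h2 : pr 3 F 3 (y * g * y⁻¹) ∈ fixS α := by
    rw [← hTα, ← hx, mem_smul_sylow, map_mul, map_mul, map_inv]
    have : (pr 3 F 3 y)⁻¹ * (pr 3 F 3 y * pr 3 F 3 g * (pr 3 F 3 y)⁻¹) * pr 3 F 3 y = pr 3 F 3 g := by group
    rw [this]
    exact hQ (Subgroup.mem_zpowers _)
  obtain ⟨A, ρ, rfl⟩ := ClassicalGeometry.PSUAutMain.exists_toAut hF le_rfl (by norm_num) α
  have hye0 : act y e ≠ 0 := by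
    intro h
    apply he0
    have := congrArg (act y⁻¹) h
    rw [act_inv_act, act_zero] at this
    exact this
  have hno : hermForm 3 F 3 (act y e) (TG.phi A ρ (act y e)) ≠ 0 := by
    intro h
    exact hne (eq_one_of_herm_eq_zero (r := 3) hF (by norm_num) Nat.prime_two (by norm_num) hα hye0 (iso_act y he) h)
  refine not_torus hF hno hl4 hl8 (g := y * g * y⁻¹) ?_ h2
  rw [act_mul, act_mul, act_inv_act, hge, act_smul]

end Cfsg.Agent.H705.USpec

namespace Cfsg.Agent.H705

open Cfsg

/-- **Groups of Lie type**: for every nontrivial automorphism `a` and every prime `p` some `(a s)⁻¹ * s` is nontrivial of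
order prime to `p`. -/
theorem lie {S : Type*} [Group S] [Finite S] [hs : IsSimpleGroup S] {r : ℕ} [hr : Fact r.Prime]
    (h : IsLieTypeChar r S) (hsol : ¬ Group.IsSolvable S) {p : ℕ} (hp : p.Prime) : Com p S := by
  by_cases h1 : SpecThree p S
  · obtain ⟨rfl, F, i1, i2, hF, ⟨e⟩⟩ := h1
    have hsim : IsSimpleGroup (PSU 3 F 3) := e.symm.isSimpleGroup
    have hfin : Finite (PSU 3 F 3) := Finite.of_equiv S e.toEquiv
    exact (USpec.com_three hF).of_equiv e
  · exact lie_but h hsol hp h1

end Cfsg.Agent.H705
end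

-- part: H705/ComAll
section
/-!
# The Lie type part of the commutator theorems (helper705)

* `Cfsg.Agent.H705.lie` : `Com p S` for every finite simple group `S` of Lie type and every prime `p`;
* `Cfsg.Agent.H705.lie_weak` : `WCom p S`.
-/
end

-- part: H722/MTrace
section
/-!
# The trace of an element of the Monster on the 196884-dimensional space (helper722)

`sum_F'` : `∑_w F'(w, g w) = κ (tr g - 1)`, the sum over the axes `w`; `trace_of_const` : if `F(w, g w) = f` for all
axes then `196883 (f - 1/6) = (47/6) (tr g - 1)`; `trace_int` : the trace is an integer.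
-/

set_option autoImplicit false

namespace Cfsg.Agent.H722.MTrace

open Cfsg Cfsg.Agent.MonsterX Cfsg.Agent.MonsterX.Space
open Cfsg.Agent.MonsterX.Conc Cfsg.Agent.MonsterX.InstData Cfsg.Agent.MonsterX.Model
open Cfsg.Agent.H850.TriA Cfsg.Agent.H850.Coord Cfsg.Agent.H850.Func
open Cfsg.Agent.H850.Bil Cfsg.Agent.H850.Exist Cfsg.Agent.H850.Exist2

/-- The sum over the axes. -/
noncomputable def T2 (x y : V) : ℚ := ∑ w ∈ Xf, F' w x * F' w y

theorem T2_inv {g : V ≃ₗ[ℚ] V} (hg : g ∈ Conc.G) (x y : V) : T2 (g x) (g y) = T2 x y := by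
  unfold T2
  symm
  refine Finset.sum_bij (fun b _ => g b) (fun b hb => G_Xf hg hb) (fun a _ b _ h => g.injective h)
    (fun b hb => ⟨g⁻¹ b, G_Xf (inv_mem hg) hb, g.apply_symm_apply b⟩) fun b _ => ?_
  rw [G_F' hg, G_F' hg]

theorem T2_BInv : BInv fun x y => (T2 x y : ℝ) := by
  refine ⟨?_, ?_, ?_, ?_, ?_, ?_⟩
  · intro x x' y
    rw [← Rat.cast_add]
    congr 1
    unfold T2
    rw [← Finset.sum_add_distrib]
    exact Finset.sum_congr rfl fun b _ => by rw [F'_lin]; ring
  · intro x y y'
    rw [← Rat.cast_add]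
    congr 1
    unfold T2
    rw [← Finset.sum_add_distrib]
    exact Finset.sum_congr rfl fun b _ => by rw [F'_lin]; ring
  · intro c x y
    rw [← Rat.cast_mul]
    congr 1
    unfold T2
    rw [Finset.mul_sum]
    exact Finset.sum_congr rfl fun b _ => by rw [F'_smul]; ring
  · intro c x y
    rw [← Rat.cast_mul]
    congr 1
    unfold T2
    rw [Finset.mul_sum]
    exact Finset.sum_congr rfl fun b _ => by rw [F'_smul]; ring
  · intro g hg x y
    rw [T2_inv hg]
  · intro x
    show ((T2 x I : ℚ) : ℝ) = 0
    unfold T2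
    rw [Finset.sum_eq_zero fun b _ => by rw [F'_I, mul_zero], Rat.cast_zero]

theorem form_I : InstEval.formIs 0 [] FieldsO.idB 2 2 = true := by decide +kernel

theorem F_a₀_I : F (vecV a0B) I = 2 := by
  have h := (InstEval.formIs_sound FieldsO.sym_idB form_I).1
  rw [W_nil] at h
  norm_num only [_root_.LinearEquiv.coe_one, _root_.id_eq] at h
  exact h

theorem F'_a₀ : F' (vecV a0B) (vecV a0B) = 47 / 6 := by
  have h1 : F (vecV a0B) (vecV a0B) = 8 := by
    have := Instance.mLat.F_a₀
    rwa [M_F, M_a₀] at this
  unfold F'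
  rw [h1, F_symm I, F_a₀_I]
  norm_num

/-- **The second moment.** -/
theorem exists_κ : ∃ κ : ℚ, ∀ x y, T2 x y = κ * F' x y := by
  obtain ⟨c, hc⟩ := bil T2_BInv
  have h0 := hc (vecV a0B) (vecV a0B)
  refine ⟨T2 (vecV a0B) (vecV a0B) / (47 / 6), fun x y => ?_⟩
  have hc' : c = ((T2 (vecV a0B) (vecV a0B) / (47 / 6) : ℚ) : ℝ) := by
    have h1 : (T2 (vecV a0B) (vecV a0B) : ℝ) = c * ((F' (vecV a0B) (vecV a0B) : ℚ) : ℝ) := h0
    rw [F'_a₀] at h1
    push_cast at h1 ⊢
    rw [h1]
    field_simp
  have h2 : ((T2 x y : ℚ) : ℝ) = ((T2 (vecV a0B) (vecV a0B) / (47 / 6) * F' x y : ℚ) : ℝ) := by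
    rw [Rat.cast_mul, ← hc']
    exact hc x y
  exact_mod_cast h2

/-! ### The operators -/

/-- The projection on the complement of the identity matrix. -/
noncomputable def πI : V →ₗ[ℚ] V := LinearMap.id - ((F.flip I).smulRight ((1 / 24 : ℚ) • I))

theorem πI_apply (x : V) : πI x = x - (F x I / 24) • I := by
  show x - (F x I) • ((1 / 24 : ℚ) • I) = _
  rw [smul_smul]
  congr 2
  ring

/-- `x ↦ F'(w, x)`. -/
noncomputable def fw (w : V) : V →ₗ[ℚ] ℚ where
  toFun x := F' w x
  map_add' x y := F'_lin w x y
  map_smul' c x := by rw [F'_smul]; rfl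

/-- The rank one operator of an axis. -/
noncomputable def Rw (w : V) : V →ₗ[ℚ] V := (fw w).smulRight (πI w)

theorem F_πI (x y : V) : F (πI x) y = F' x y := by
  rw [πI_apply, map_sub, map_smul, LinearMap.sub_apply, LinearMap.smul_apply, smul_eq_mul]
  unfold F'
  ring

theorem sum_Rw {κ : ℚ} (hκ : ∀ x y, T2 x y = κ * F' x y) : ∑ w ∈ Xf, Rw w = κ • πI := by
  apply LinearMap.ext
  intro x
  rw [← sub_eq_zero]
  apply F_nondeg
  intro y
  rw [map_sub, LinearMap.sub_apply, sub_eq_zero, LinearMap.smul_apply, map_smul, LinearMap.smul_apply, smul_eq_mul,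
    F_πI, ← hκ, LinearMap.sum_apply, map_sum, LinearMap.sum_apply]
  unfold T2
  refine Finset.sum_congr rfl fun w _ => ?_
  show F (F' w x • πI w) y = _
  rw [map_smul, LinearMap.smul_apply, smul_eq_mul, F_πI]

theorem trace_smulRight' (f : V →ₗ[ℚ] ℚ) (v : V) : LinearMap.trace ℚ V (f.smulRight v) = f v :=
  LinearMap.trace_smulRight f v

/-- **The trace formula.** -/
theorem sum_F' {κ : ℚ} (hκ : ∀ x y, T2 x y = κ * F' x y) {g : V ≃ₗ[ℚ] V} (hg : g ∈ Conc.G) :
    ∑ w ∈ Xf, F' w (g w) = κ * (LinearMap.trace ℚ V (g : V →ₗ[ℚ] V) - 1) := by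
  have h1 : (g : V →ₗ[ℚ] V) ∘ₗ (∑ w ∈ Xf, Rw w) = κ • ((g : V →ₗ[ℚ] V) ∘ₗ πI) := by
    rw [sum_Rw hκ, LinearMap.comp_smul]
  have h2 := congrArg (LinearMap.trace ℚ V) h1
  have h3 : (g : V →ₗ[ℚ] V) ∘ₗ (∑ w ∈ Xf, Rw w) = ∑ w ∈ Xf, (fw w).smulRight (g (πI w)) := by
    apply LinearMap.ext
    intro x
    rw [LinearMap.comp_apply, LinearMap.sum_apply, LinearMap.sum_apply, map_sum]
    refine Finset.sum_congr rfl fun w _ => ?_
    exact map_smul g _ _
  have h4 : (g : V →ₗ[ℚ] V) ∘ₗ πI = (g : V →ₗ[ℚ] V) - (F.flip I).smulRight ((1 / 24 : ℚ) • I) := by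
    apply LinearMap.ext
    intro x
    show g (x - (F.flip I x) • ((1 / 24 : ℚ) • I)) = g x - (F.flip I x) • ((1 / 24 : ℚ) • I)
    rw [map_sub, map_smul, map_smul, G_I hg]
  have h5 : F.flip I ((1 / 24 : ℚ) • I) = 1 := by
    show F ((1 / 24 : ℚ) • I) I = 1
    rw [map_smul, LinearMap.smul_apply, smul_eq_mul, F_I_I]
    norm_num
  have h6 : LinearMap.trace ℚ V ((g : V →ₗ[ℚ] V) - (F.flip I).smulRight ((1 / 24 : ℚ) • I)) =
      LinearMap.trace ℚ V (g : V →ₗ[ℚ] V) - 1 := by
    have h7 := trace_smulRight' (F.flip I) ((1 / 24 : ℚ) • I)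
    rw [h5] at h7
    rw [eq_sub_iff_add_eq]
    nth_rewrite 2 [← h7]
    rw [← map_add]
    congr 1
    exact LinearMap.ext fun x => sub_add_cancel _ _
  rw [h3, h4, map_sum, map_smul, smul_eq_mul, h6] at h2
  simp only [trace_smulRight'] at h2
  rw [← h2]
  refine Finset.sum_congr rfl fun w _ => ?_
  show F' w (g w) = F' w (g (πI w))
  have e : g (πI w) = g w + (-(F w I / 24)) • I := by
    rw [πI_apply, map_sub, map_smul, G_I hg, sub_eq_add_neg]
    congr 1
    exact (neg_smul _ _).symm
  rw [e, F'_lin, F'_smul, F'_I, mul_zero, add_zero]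

theorem a₀_mem : vecV a0B ∈ Xf := by
  rw [mem_Xf]
  refine ⟨(0 : Fin 12), 1, M.C.one_mem, ?_⟩
  have h := d_j₀
  rw [show M.u₀ + M.e₀ = M.a₀ from rfl, M_a₀] at h
  exact h.symm

theorem exists_of_mem {w : V} (hw : w ∈ Xf) : ∃ g ∈ Conc.G, g (vecV a0B) = w := by
  rw [mem_Xf] at hw
  obtain ⟨j, k, hk, rfl⟩ := hw
  obtain ⟨h, hh, h1⟩ := Instance.trans j
  refine ⟨k * h⁻¹, mul_mem (C_le_G hk) (inv_mem hh), ?_⟩
  rw [M_a₀] at h1
  rw [← h1]
  show k (h⁻¹ (h (M.d j))) = k (M.d j)
  congr 1
  exact h.symm_apply_apply _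

theorem F_I_of_mem {w : V} (hw : w ∈ Xf) : F w I = 2 := by
  obtain ⟨g, hg, rfl⟩ := exists_of_mem hw
  have h1 := G_isom g hg (vecV a0B) I
  rw [G_I hg] at h1
  rw [h1, F_a₀_I]

theorem F_self_of_mem {w : V} (hw : w ∈ Xf) : F w w = 8 := by
  obtain ⟨g, hg, rfl⟩ := exists_of_mem hw
  rw [G_isom g hg]
  have := Instance.mLat.F_a₀
  rwa [M_F, M_a₀] at this

theorem F'_of_mem {v w : V} (hv : v ∈ Xf) (hw : w ∈ Xf) : F' v w = F v w - 1 / 6 := by
  unfold F'
  rw [F_I_of_mem hv, F_symm I, F_I_of_mem hw]
  norm_num

/-- **The trace formula for an element with constant inner products.** -/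
theorem trace_of_const {g : V ≃ₗ[ℚ] V} (hg : g ∈ Conc.G) {f : ℚ} (h : ∀ w ∈ Xf, F w (g w) = f) :
    196883 * (f - 1 / 6) = 47 / 6 * (LinearMap.trace ℚ V (g : V →ₗ[ℚ] V) - 1) := by
  obtain ⟨κ, hκ⟩ := exists_κ
  have h1 := sum_F' hκ (one_mem Conc.G)
  have h2 := sum_F' hκ hg
  have e1 : ∑ w ∈ Xf, F' w ((1 : V ≃ₗ[ℚ] V) w) = (Xf.card : ℚ) * (47 / 6) := by
    rw [← nsmul_eq_mul]
    refine Finset.sum_eq_card_nsmul fun w hw => ?_
    show F' w w = _
    rw [F'_of_mem hw hw, F_self_of_mem hw]
    norm_num
  have e2 : ∑ w ∈ Xf, F' w (g w) = (Xf.card : ℚ) * (f - 1 / 6) := by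
    rw [← nsmul_eq_mul]
    refine Finset.sum_eq_card_nsmul fun w hw => ?_
    rw [F'_of_mem hw (G_Xf hg hw), h w hw]
  have e3 : LinearMap.trace ℚ V ((1 : V ≃ₗ[ℚ] V) : V →ₗ[ℚ] V) = 196884 := by
    have h3 : ((1 : V ≃ₗ[ℚ] V) : V →ₗ[ℚ] V) = 1 := rfl
    rw [h3, LinearMap.trace_one, M_finrank]
    norm_num
  rw [e1, e3] at h1
  rw [e2] at h2
  have hX : (Xf.card : ℚ) ≠ 0 := by
    have := Finset.card_pos.2 ⟨_, a₀_mem⟩
    exact_mod_cast this.ne'
  have hκ0 : κ = Xf.card * (47 / 6) / 196883 := by
    rw [h1]; norm_num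
  rw [hκ0] at h2
  field_simp at h2 ⊢
  linarith only [h2]

theorem trace_int {g : V ≃ₗ[ℚ] V} {n : ℕ} (hn : n ≠ 0) (hg : g ^ n = 1) :
    ∃ m : ℤ, LinearMap.trace ℚ V (g : V →ₗ[ℚ] V) = m := by
  have h1 : (g : V →ₗ[ℚ] V) ^ n = 1 := by
    have h2 : ∀ k : ℕ, (g : V →ₗ[ℚ] V) ^ k = ((g ^ k : V ≃ₗ[ℚ] V) : V →ₗ[ℚ] V) := by
      intro k
      induction k with
      | zero => rfl
      | succ k ih => rw [_root_.pow_succ, ih, _root_.pow_succ]; rfl
    rw [h2, hg]
    rfl
  have h2 : ((g : V →ₗ[ℚ] V).baseChange ℂ) ^ n = 1 := by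
    rw [← LinearMap.baseChange_pow, h1]
    exact LinearMap.baseChange_one _ _
  have h3 : ((g : V →ₗ[ℚ] V).baseChange ℂ) ^ (n + 1) = (g : V →ₗ[ℚ] V).baseChange ℂ := by
    rw [_root_.pow_succ, h2, one_mul]
  have h4 := CharactersDeep.TracePow.isIntegral_trace_of_pow_succ_eq _ n hn h3
  rw [LinearMap.trace_baseChange] at h4
  have h5 : IsIntegral ℤ (LinearMap.trace ℚ V (g : V →ₗ[ℚ] V)) :=
    (isIntegral_algebraMap_iff (algebraMap ℚ ℂ).injective).1 h4
  obtain ⟨m, hm⟩ := IsIntegrallyClosed.isIntegral_iff.1 h5
  exact ⟨m, hm.symm⟩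

end Cfsg.Agent.H722.MTrace
end

-- part: H722/MFive
section
/-!
# S4094, S4095, S4096: the row of the Monster, `p ≠ 3` (helper722, task 566)

* `pair_or` : two axes have inner product `3/16` or `(t_x t_y)^12 = 1` (table of pairs);
* `p ≥ 7` : the products of two involutions of type 2A have order at most 6;
* `p = 5` : the inner product of `w` and `g w` is `3/16` for all axes `w`; the trace is `1 + 4189/8`, not an integer.
-/

set_option autoImplicit false

namespace Cfsg.Agent.H722.MFive

open Cfsg Cfsg.Agent.MonsterX Cfsg.Agent.MonsterX.Space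
open Cfsg.Agent.MonsterX.Conc Cfsg.Agent.MonsterX.InstData Cfsg.Agent.MonsterX.Model
open Cfsg.Agent.MonsterX.OrdChk Cfsg.Agent.MonsterX.OrdLe Cfsg.Agent.MonsterX.PairZero
open Cfsg.Agent.MonsterX.CertUTab Cfsg.Agent.MonsterX.FieldsP Cfsg.Agent.MonsterX.CertPairs
open Cfsg.Agent.MonsterX.MainBasic Cfsg.Agent.MonsterX.MainPack

theorem tab12 : ∀ j < 12, ∀ m < nr j, ∀ b : Bool, (vb j m b == 48 ||
    (tabs.getD j []).any fun t => t.any fun p => p.2 == wd j m b && Nat.blt p.1 4) = true := by
  decide +kernel

theorem bnd_dvd {k : ℕ} (h : k < 4) : bnd k ∣ 12 := by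
  interval_cases k <;> decide

theorem comm_t₀ {g : V ≃ₗ[ℚ] V} (hg : g ∈ M.G) (h : g M.a₀ = M.a₀) : g * M.t₀ = M.t₀ * g :=
  (MainTrans.comm_iff Instance.mGroup Instance.mRep Instance.mLat InstanceFinal.mOrbit Instance.mTrans hg).2 h

/-- The pairs of the table. -/
theorem pair_tab {j m : ℕ} (hj : j < 12) (hm : m < nr j) (b : Bool) : vb j m b = 48 ∨
    (M.t₀ * ((W (wd j m b) * W (bj j)) * M.t₀ * (W (wd j m b) * W (bj j))⁻¹)) ^ 12 = 1 := by
  have h := tab12 j hj m hm b
  rw [Bool.or_eq_true] at h
  rcases h with h | h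
  · exact Or.inl (eq_of_beq h)
  · right
    rw [List.any_eq_true] at h
    obtain ⟨t, ht, h⟩ := h
    rw [List.any_eq_true] at h
    obtain ⟨p, hp, h⟩ := h
    rw [Bool.and_eq_true] at h
    have h2 : p.2 = wd j m b := eq_of_beq h.1
    have h4 : p.1 < 4 := Nat.le_of_ble_eq_true h.2
    have hI := Instance.inv
    have hl : Lt (bj j ++ p.2) := by
      intro n hn
      rcases List.mem_append.1 hn with hn | hn
      · exact OrdLe.lt_bj j hj n hn
      · exact lt_tab j hj t ht p hp n hn
    have htG : M.t₀ ∈ M.G := OrdLe.W_mem_G hI (w := [13, 14]) (by intro n hn; simp at hn; omega)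
    have hk : pairC p.1 (bj j ++ p.2) = true := by
      rw [bj_eq j hj]
      exact allP_spec (tabs_ok j hj t ht) p hp
    have h1 := pairC_sound hI OrdInv.t₀_sq (fun g hg h => comm_t₀ hg h) htG hl (OrdLe.W_mem_G hI hl) hk
    rw [W_append, h2] at h1
    obtain ⟨c, hc⟩ := bnd_dvd h4
    rw [hc, pow_mul, h1, one_pow]

/-- The pairs `(k a₀, d j)`. -/
theorem pair_C (j : Fin 12) {k : V ≃ₗ[ℚ] V} (hk : k ∈ M.C) : M.F (k M.a₀) (M.d j) = 3 / 16 ∨
    ((k * M.t₀ * k⁻¹) * (W (bj j.1) * M.t₀ * (W (bj j.1))⁻¹)) ^ 12 = 1 := by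
  have hCG : M.C ≤ M.G := fun x hx => Subgroup.subset_closure (Or.inl hx)
  obtain ⟨i, l, hl, hd, e⟩ := Instance.tab.cov j (k M.a₀) ⟨k, hk, rfl⟩
  set P := Instance.words with hP
  have hu := P.eq j i
  rw [e, Instance.tab.F_eq C_isom j i hl hd, Fa₀ P]
  rcases pair_tab j.2 (P.lt j i) (P.b j i) with h | h
  · left
    rw [h]; norm_num
  · right
    rw [← hu] at h
    set u := Instance.tab.u j i with hu'
    set w := W (bj j.1) with hw'
    have hw : w ∈ M.G := W_bj_mem_G j.2
    have hwd : w M.a₀ = M.d j := (M_d' j).symm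
    have huC : u ∈ M.C := Instance.tab.u_mem j i
    have h1 : k * M.t₀ * k⁻¹ = (l * u⁻¹) * M.t₀ * (l * u⁻¹)⁻¹ :=
      conj_t₀ (fun g hg => comm_t₀ (hCG hg)) hk (M.C.mul_mem hl (M.C.inv_mem huC)) e
    have h2 : (w⁻¹ * l * w) * M.t₀ = M.t₀ * (w⁻¹ * l * w) := by
      refine comm_t₀ (M.G.mul_mem (M.G.mul_mem (M.G.inv_mem hw) (hCG hl)) hw) ?_
      show w⁻¹ (l (w M.a₀)) = M.a₀
      rw [hwd, hd, ← hwd]
      exact w.symm_apply_apply _
    have h3 : w * M.t₀ * w⁻¹ = (l * u⁻¹) * ((u * w) * M.t₀ * (u * w)⁻¹) * (l * u⁻¹)⁻¹ := by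
      calc w * M.t₀ * w⁻¹ = w * (M.t₀ * (w⁻¹ * l * w)) * (w⁻¹ * l * w)⁻¹ * w⁻¹ := by group
        _ = w * ((w⁻¹ * l * w) * M.t₀) * (w⁻¹ * l * w)⁻¹ * w⁻¹ := by rw [h2]
        _ = _ := by group
    have h4 : (k * M.t₀ * k⁻¹) * (w * M.t₀ * w⁻¹) =
        (l * u⁻¹) * (M.t₀ * ((u * w) * M.t₀ * (u * w)⁻¹)) * (l * u⁻¹)⁻¹ := by
      rw [h1, h3]; group
    rw [h4, conj_pow, h]; group

/-- **Two axes have inner product `3/16`, or the product of their involutions has order dividing 12.** -/
theorem pair_or {g : V ≃ₗ[ℚ] V} (hg : g ∈ M.G) : M.F M.a₀ (g M.a₀) = 3 / 16 ∨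
    (M.t₀ * (g * M.t₀ * g⁻¹)) ^ 12 = 1 := by
  obtain ⟨j, h, hh, h1⟩ := G_X InstanceFinal.mOrbit hg (S_sub_X InstanceFinal.mOrbit a₀_mem_S)
  change Fin 12 at j
  have hhG := C_le hh
  rcases pair_C j (M.C.inv_mem hh) with h2 | h2
  · left
    rw [h1, ← h2]
    have h3 := C_isom h⁻¹ (M.C.inv_mem hh) M.a₀ (h (M.d j))
    refine h3.symm.trans ?_
    have h4 : h⁻¹ (h (M.d j)) = M.d j := h.symm_apply_apply _
    rw [h4]
    rfl
  · right
    have e1 := MainTrans.conj_eq Instance.mGroup Instance.mRep Instance.mLat InstanceFinal.mOrbit Instance.mTrans hg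
      (M.G.mul_mem hhG (W_bj_mem_G j.2)) (by
        rw [LinearEquiv.mul_apply, ← M_d', h1])
    have e2 : M.t₀ * (g * M.t₀ * g⁻¹) =
        h * ((h⁻¹ * M.t₀ * h⁻¹⁻¹) * (W (bj j.1) * M.t₀ * (W (bj j.1))⁻¹)) * h⁻¹ := by
      rw [e1]
      group
    rw [e2, conj_pow, h2]
    group

/-- No element of the Monster has `F(w, g w) = 3/16` for all axes. -/
theorem not_const {g : V ≃ₗ[ℚ] V} (hg : g ∈ M.G) : ¬ ∀ x ∈ M.G, M.F (x M.a₀) (g (x M.a₀)) = 3 / 16 := by
  intro h
  have hfin := G_finite InstanceFinal.mOrbit
  have h1 : ∀ w ∈ H850.Exist2.Xf, F w (g w) = 3 / 16 := by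
    intro w hw
    obtain ⟨x, hx, rfl⟩ := MTrace.exists_of_mem hw
    rw [← M_a₀]
    exact h x hx
  have h2 := MTrace.trace_of_const hg h1
  have h3 : g ^ Nat.card M.G = 1 := by
    have := pow_card_eq_one' (x := (⟨g, hg⟩ : M.G))
    exact congrArg Subtype.val this
  obtain ⟨m, hm⟩ := MTrace.trace_int Nat.card_pos.ne' h3
  rw [hm] at h2
  have h4 : (4189 : ℚ) = 8 * ((m : ℚ) - 1) := by linarith
  have h5 : (4189 : ℤ) = 8 * (m - 1) := by exact_mod_cast h4
  omega

/-! ### The row -/

section row

open Cfsg.Agent.H516 Subgroup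

universe u

variable {L : Type u} [Group L] [Finite L] {p : ℕ} {a : MulAut L} {b : L}

omit [Finite L] in
/-- An involution is not fixed by a bad automorphism with a fixed subgroup of odd order. -/
theorem ne_of_sq (S : Sit p a b) {s : L} (hs : s * s = 1) (hs1 : s ≠ 1) : a s ≠ s := by
  intro h
  have h1 : s ∈ fixedSubgroup a := h
  have h2 : orderOf (⟨s, h1⟩ : fixedSubgroup a) = 2 := by
    rw [orderOf_eq_prime_iff]
    refine ⟨Subtype.ext (by show s ^ 2 = 1; rw [_root_.pow_two, hs]), fun h3 => hs1 (congrArg Subtype.val h3)⟩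
  have h3 := _root_.orderOf_dvd_natCard (⟨s, h1⟩ : fixedSubgroup a)
  rw [h2] at h3
  exact (Nat.not_even_iff_odd.2 S.odd) (even_iff_two_dvd.2 h3)

/-- **The row of the Monster, `p ≠ 3`.** -/
theorem row (h : Spor.IsoM L) (S : Sit p a b) (hp3 : p ≠ 3) : False := by
  obtain ⟨e₁⟩ := h
  obtain ⟨e₂⟩ := MonsterP.Equiv.equiv
  let e : L ≃* M.G := e₁.trans e₂
  obtain ⟨g, hg⟩ := KFacts.MonsterE.inner_model Instance.mGroup Instance.mRep Instance.mLat InstanceFinal.mOrbit
    Instance.mTrans (MulAut.congr e a)
  have hconj : ∀ s : M.G, e (a (e.symm s)) = g * s * g⁻¹ := by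
    intro s
    have h1 : MulAut.congr e a s = MulAut.conj g s := by rw [hg]
    exact h1
  have htG : M.t₀ ∈ M.G := C_le (Instance.mGroup.Q_le Instance.mRep.t₀_mem)
  have hsq : M.t₀ * M.t₀ = 1 := Instance.mRep.t₀_sq
  have hne : M.t₀ ≠ 1 := Instance.mRep.t₀_ne
  -- the order of the product of `t₀` and its conjugate
  have key : ∀ x : M.G, p ∣ orderOf ((⟨M.t₀, htG⟩ : M.G) * ((x⁻¹ * g * x) * ⟨M.t₀, htG⟩ * (x⁻¹ * g * x)⁻¹)) := by
    intro x
    set t : M.G := ⟨M.t₀, htG⟩ with ht
    have htt : t * t = 1 := Subtype.ext hsq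
    have ht1 : t ≠ 1 := fun h1 => hne (congrArg Subtype.val h1)
    set s : M.G := x * t * x⁻¹ with hs
    have hss : s * s = 1 := by
      rw [hs]
      calc x * t * x⁻¹ * (x * t * x⁻¹) = x * (t * t) * x⁻¹ := by group
        _ = 1 := by rw [htt]; group
    have hs1 : s ≠ 1 := by
      intro h1
      apply ht1
      rw [hs] at h1
      calc t = x⁻¹ * (x * t * x⁻¹) * x := by group
        _ = 1 := by rw [h1]; group
    have h1 : a (e.symm s) ≠ e.symm s := by
      refine ne_of_sq S ?_ ?_
      · rw [← map_mul, hss, map_one]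
      · intro h1
        apply hs1
        rw [← e.apply_symm_apply s, h1, map_one]
    rcases S.bad (e.symm s) with h2 | h2
    · exact absurd (inv_mul_eq_one.1 h2) h1
    · have h3 : e ((a (e.symm s))⁻¹ * e.symm s) = (g * s * g⁻¹)⁻¹ * s := by
        rw [map_mul, map_inv, hconj, e.apply_symm_apply]
      have h4 : orderOf ((a (e.symm s))⁻¹ * e.symm s) = orderOf ((g * s * g⁻¹)⁻¹ * s) := by
        rw [← h3]
        exact (orderOf_injective e.toMonoidHom e.injective _).symm
      rw [h4] at h2
      have htinv : t⁻¹ = t := inv_eq_of_mul_eq_one_right htt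
      have h5 : (g * s * g⁻¹)⁻¹ * s = x * (t * ((x⁻¹ * g * x) * t * (x⁻¹ * g * x)⁻¹))⁻¹ * x⁻¹ := by
        rw [hs]
        simp only [mul_inv_rev, inv_inv, htinv]
        group
      rw [h5] at h2
      have h6 : orderOf (x * (t * ((x⁻¹ * g * x) * t * (x⁻¹ * g * x)⁻¹))⁻¹ * x⁻¹) =
          orderOf (t * ((x⁻¹ * g * x) * t * (x⁻¹ * g * x)⁻¹)) := by
        rw [← MulAut.conj_apply, MulEquiv.orderOf_eq, orderOf_inv]
      rwa [h6] at h2
  have hfin := G_finite InstanceFinal.mOrbit
  have hle : p ≤ 6 := by
    have h1 := six Instance.mGroup Instance.mRep Instance.mLat InstanceFinal.mOrbit Instance.mTrans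
      InstanceFinal.mExtra.order_le (1⁻¹ * g * 1)
    exact (Nat.le_of_dvd (orderOf_pos _) (key 1)).trans h1
  have hp5 : p = 5 := by
    have h2 := S.prime
    have h3 := S.ne_two
    have h4 := h2.two_le
    interval_cases p
    · exact absurd rfl h3
    · exact absurd rfl hp3
    · exact absurd h2 (by norm_num)
    · rfl
    · exact absurd h2 (by norm_num)
  refine not_const g.2 fun x hx => ?_
  have h1 : (x⁻¹ * (g : V ≃ₗ[ℚ] V) * x) ∈ M.G := M.G.mul_mem (M.G.mul_mem (M.G.inv_mem hx) g.2) hx
  rcases pair_or h1 with h2 | h2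
  · rw [← h2]
    have h3 := _root_.Cfsg.Agent.MonsterX.Conc.G_isom x⁻¹ (M.G.inv_mem hx) (x M.a₀) ((g : V ≃ₗ[ℚ] V) (x M.a₀))
    refine h3.symm.trans ?_
    have h4 : x⁻¹ (x M.a₀) = M.a₀ := x.symm_apply_apply _
    rw [h4]
    rfl
  · exfalso
    have h3 := key ⟨x, hx⟩
    have h4 : ((⟨M.t₀, htG⟩ : M.G) * ((⟨x, hx⟩⁻¹ * g * ⟨x, hx⟩) * ⟨M.t₀, htG⟩ * (⟨x, hx⟩⁻¹ * g * ⟨x, hx⟩)⁻¹)) ^ 12
        = 1 := Subtype.ext h2
    have h5 := h3.trans (orderOf_dvd_of_pow_eq_one h4)
    rw [hp5] at h5
    norm_num at h5

end row

end Cfsg.Agent.H722.MFive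
end

private theorem dce_d74f95ce5387 : _root_.True := by
  try have : _root_.True := by simp only [_root_.Cfsg.Agent.ClassicalGeometry.UnitAutBasic.tau.congr_simp]
  exact _root_.True.intro
end
end

-- part: H516/J4Elem
section
prune_inst 0x8000000000000000000000000000010400000
set_option linter.all false
open scoped Cfsg.Agent.FastGrp

-- part: H516/J4Data
section
/-!
# Packed matrices of some elements of `J4` (112-dimensional representation) with certificates for the dimensions of kernels
-/

set_option autoImplicit false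

namespace Cfsg.Agent.H516.J4Data

/-- matrix -/
def B43 : ℕ := 0xeadfa5bdc43a1971a5d4e67c42b1c48cc031809a4a93b6553bb3e5aa9ef8e4687ab0172aed004fec70bffff35d1e16301bd50a9ffeeffd7755f0aaa470f949bc32a0a4e555fc475ed5e48ee90b25eafb182d3ab677a5694edd1a71b7f4b3b19d94fb0a57dc2a182aa8d8b740700b68f6b27e07c1aa0ac01361e6837ea56214bbd073dccc6491af50cb064e7664af57be72f967b071445be8e1996d5cb53feb6a708e55b3e0aaa4fedb3ee226afa63a4c28963bb2db8cdbb67117fabcc86d3c52354bb1f6eb73ef3c37f776e72534ec80c9c2d8b32f06f9128f28feaedcdc6e5be46bfb1c548bd4e65930733f4c8b61af0e7f385317170c76a89cf81130456b528b0b2ca8b316a18eb09abac4d83ac26f4588e31fa89f313693a09a5d8dec7ed1a8deb184af4c59f245a549d01a136d14206ae0e3d4aa96ff2c12d0dc94ccac711f4568ec9d81cfa56bd74d7fab82d32f6af43930ba3b3f1990c7a4b49d47deda17bd66ffd959e7540b7cbaf88f151d043a48df3d66edf0e851f0758d8132b55ae4b96724965529eb0d7d9c55bfcce1cd506f972dfcc9279dfe956e5d1eec4021c5fd8fada353389cc3710666b05619689138c8f8a30af75c3d97e3291e7a136ac70165a41056c7fd08e8a668f301bb969edf501d38c4238f2fd5f6edb7b923874c792dddb2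1c83650e31eab5275a96c4c6a08382fe2bf7fa5ebf60bfe1a2cd411a67d90557e3b26735815f88bca28dc6b076dcd2480ebaf12e4e8a3ccdaa86c7fac9e852ac0ecad1999c4d92437df9d494b5d3aaa12e41b6f671306923f3a54e43df128794bc670c810b4a62e8be59ec7ebe7e71935fb122993417c3850a9b3bab637313dc05bd2aa9f9a95cb333a3127a8fb2455fbca668560c22871066387d787e555757192e31cdc0d9b47c361659faa8a577d26b4097d2e29790e4614eace82d5d39b31d3e33d86655381c770d235d7583144b025185c0a2605325d78ce5f3f3cb7d71ec357cf26695c30b6dc97ed2c7700c57228c76b8145eadfe4fce9903d81d58d4026fc23831a9082e65adf6701d3b46ac9ed93dfc4bb5c1608b30eff6744cb06550468503a17d1184caba8d33137124960ddd61d75d1f3a534593df564f21aca30132a1eb3f237864d252ae46066ea7a6883ba3ddff9c2e233079610537f68ac93d3a74c309d50b10aa996bcd419364236ad24cc775754ad579e8f9311c31dc003539ce8c46053ec38a2fcf54b9ff604449ad57ce95641033bd66e2a14833a0d428ff4fd70dce19cae07a07fd86caf6c9f478a0c6d59424efb53cbb1a21879e86847d9b4be6dececbc5f9794e9d4852dab84d76b79fe19ed322988cfe7771e52061100fbc2483e8911f5f6550cd7feedf02be0c8647f8387062519edd2cc9cc5ffd6a282d6b0dd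e9557f2a7eb01bb033a77194745bf5ec68ee23ac94b127c6b2bd677380a5c7b2470be7580d25f48533785e266db45dd52a7d3f4e76657ce5da3b89c94a6ed88588ab826780cc6261463db40e9c66cd41413f20d8a6cf4706ef0c91b3197d481f5e3ec9ca6bb61a6a53db519bc370a37b10ae3ee3da6df631bfae40767ceb7367ad23ecbca9cd3c4b6736902611b3f2281420821370d710138b683025506de4ba726d29f1ac8039941de6d4452317f33e8d032fe7a0795209105dc154d0ac3220b5f475fcae4fab73df0af5a7201864db9a2ff1140a8aa6ccb9c294b5c243355422a5ef042c98076265275b87df3123bb36b5eb669c14ef5615195af9977d256071d2460871657a88ba1cf4b3079d81adb218f0e99e2777f0bd766bd29bf2cd9602c666ce86b7d179be1bf9fc3e03733c52abe5e2869148d292e4772dc2a1b8d2158bb26de16ce8f32d2ac98b3fd096f5c13162ebd104c4fc1673e9a18f56bc10946ed771fbae4ac14ba82d20a60171205697cb35e01ee4ad4347b3d9d28d6ed7fd985e8ac12e954f975d4dc56a33e576e646d59bee35f2abc01b45742aeaf35b428579f317fc0621b5af803ced42a05ea6613f0a887ca4e2aa365643e17c9dcb49c57967c22ca3a23ad1cdd5074ab47be8c5d54d448a2dc4827277987735924100aab05d5660a7d4f00cb1ed54ee1aa6e8acb6fb445409e7cd08302c84954653a743032051e3ded6276d3bec775aad675b5b6709ca2a52a2e5dd042c41efa8a97b4dac354a879edb71c3eafa4b962b26213c46a3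

/-- matrix -/
def f43P : ℕ := 0x9f56e005849a5896e8c24c2a2bf097acc384ae140383ab8c1225813a760b3c6f6dc4c82faf97f0767f4b1c760e5afc99d1db0c3e485a01127594a0cbd30df99353e610b2bf9e6af56883a1822b056a23fdf506a80f23cf27ce1005fc73433027a527ec0c560a55919770cf0ac9246f534610bcfb73b500bc0bac60096934422b44f169dfde5343db9acf95c15729a5ce11873d44739c8ef043b02a3c7ad39fb1e77219e3c973056eea95a0ed24bf3e4c593c244a19b56d969608b1772aa1dcbf0c7870fabefcaaeef1e633abd6b89b046a0f3686a8f90597e58dd9a393e952e1480cea3bd4af3e878820bc7509293160f0549b249ae13bd5150d238beb1280d527ba71f18afef058d679faf24e6a092fec0fad86cc7a6978d9efbca152708246e45f286b83f80856574a19a6ab0b537da9ac4210958e89561475633a92d05362f02f7aae4fd05064e3dfb3e3793e37296cfd7db5d32d69da4d8c3e30dafc430ba6af6ca81f010da3c3bd58506bcfdbb728e86b5f4fc439d94d5ca6a7c11aa72d0fe0482ddea9026dd700ead67a6261e3c623e3ec612023f88bd89157bc3d29f7e6dde752e504b65bb0861ab0d1f34c5f2718e5f4ad0a0a9dc482fa0a2bb5ca2b0a72c71de190030d3ee7f5d89606b96c7a3eee33e9386b58cc8db471e44fa78563d12338ad586a7ec7285827ce904d0f41d0adb2a81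a0c21b1b6f626227837456f271d9f26ca6f736dd1b165d83c1b30087f94f96854b98f95b1f08b5691d5dafde022f28f81c5bdd8b111c7f9b0be248f360196bde5d926ce6877dacc6ca0995e47546d74fb448d1d91453a6f5b92329c19c6af20cff093ca986727acda86830210b2e9e7165649d51372cae05ef8fd73c3bd962f0d64274f396daf6ea6650bf100ea21112f518fe565915f146608b88e01fe79fb740f80aa01e274b9f1ac239e4cdf27b1495d11cc3a031a94f26378a26afa4f12c10c611568f701492f52bff0d7087d8d0b94ae7a15dfdef3608d634423b79b1b09ee9ebf22b510d478fada6d08c195deb6b650131585bb44d418e80052bcbaa5acb50405eb872101a87b499e7532731555fd8c20d1a8f6d729118422432d027abbf4049ba32bf0473670f842a4b9ed3d03171216f360043dd0a0ff90edab43964f117e54e02a447031331ea185b8cd2fd84ba22d94ffc14b0e676f65c860401253a807732aea5213a4d3e4ac13ae72a5a61b161c1995ce2f492cd521281c8036ffab068971038c5c1135ac24897ba56dd4a61cecff47229cfa79e127a975a7114ebdbade6bfc77d306f6a6e9aa6abd10437419a7d0e024d777fedc20f0c6fb30db4650491ff3e5ffabfee325c3be941351e6b2c5efbc9660a94de9fcfed6942d2de56941062e8cf92ccdb091e0f8c18b7f884dcdc533c37cce9874713c0cca427880eb53a8fe9a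aeac12a2be88c61776ab60ffc5617aef22e60208ac844d828083a8cc92f0d5584c395bac7bbb232d7c241eb2bbc0a41778bbdcded71e5f3aa71b4182d56cd7af8ebc8da541b2f931e8fd91d3a15de04cccf96fef8df1b0d8c31c87e96691dca4fe44589de2a18dbbc1ee9706fe0aa352c6ad60c4008b4b930d9ef368db03ddaa6dbddca5cca660589c7a1ed9e7d4b6f442f696060089c499e1bdce64dacfbfd2eceac54df0317f4562e7507ef57e29d0d057263d0c42664dd8f00b16d0438586c39f1dc13b0dca636ed4ab4b7a39d17841a7ee2f2de3fa925d97cfa7f4da5ea5732eb6f0884083a5cbb7bc3d05016a47df6dda5b2f093fb9f3feedb6c7d9124a281f2c124635e605f3aacdcadbe34998c829d75aa44e51a2cfa0858df6be0311e865d83eba5945c2aeac016f7ac6fc18f18dc345a408d1bfcd35ec2c9e81b8bd652eb5c8b2f0cc76a02cfe38d317ef5263eefe8c0e785126c1286c3019dbded6e6df359e03c354f8608dcbc449610a3939b313974a02322c44e1d3795e49741e499aac0fee65e5e72d603bd8d5dbfc7642cc37ddad81670cdc0c37bc4631f612b9145987c00b2b66a4e471867da4572735babf97576020ad20df0746aec9223c6e799a6be86bb40b6b95d3115813ccf4a398e7b4e6e259766f3fe105286ff5b0252440a554048f96088dedb219119fb8850009d2f8633a24f6ccc47b684a55d003563477bf7dd10a948614c3b240728bfda4da966810ce47436a6f1865d1c2e202b575f0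

/-- matrix -/
def f43R : ℕ := 0x8eadfa5bdc43a1971a5d4e67c42b5c48cc031809a4a93b6553bb3e5a89ef8e4687ab0172aed004fec70befff35d1e16301bd50a9ffeeffd77d5f0aaa470f949bc32a0a4e555fc075ed5e48ee90b25eafb182d3ab657a5694edd1a71b7f4b3b19d94fb1a57dc2a182aa8d8b740700b68f6ba7e07c1aa0ac01361e6837ea56210bbd073dccc6491af50cb064e7666af57be72f967b071445be8e1996c5cb53feb6a708e55b3e0aaa4fedbbee226afa63a4c28963bb2db8cdbf67117fabcc86d3c52354bb1f6eb53ef3c37f776e72534ec80c9c2d8a32f06f9128f28feaedcdc6e5be463fb1c548bd4e65930733f4c8b61ab0e7f385317170c76a89cf81130476b528b0b2ca8b316a18eb09abac5d83ac26f4588e31fa89f313693a01a5d8dec7ed1a8deb184af4c59f205a549d01a136d14206ae0e3d4aab6ff2c12d0dc94ccac711f4568ec8d81cfa56bd74d7fab82d32f6af43130ba3b3f1990c7a4b49d47deda13bd66ffd959e7540b7cbaf88f151f043a48df3d66edf0e851f0758d8032b55ae4b96724965529eb0d7d9cd5bfcce1cd506f972dfcc9279dfed56e5d1eec4021c5fd8fada35338bcc3710666b05619689138c8f8a31af75c3d97e3291e7a136ac70165ac1056c7fd08e8a668f301bb969edb501d38c4238f2fd5f6edb7b923854c792dddb21c83650e31eab5275b96c4c6a08382fe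2bf7fa5ebf60bf61a2cd411a67d90557e3b26735811f88bca28dc6b076dcd2480ebaf10e4e8a3ccdaa86c7fac9e852ac0edad1999c4d92437df9d494b5d3aaa92e41b6f671306923f3a54e43df168794bc670c810b4a62e8be59ec7cbe7e71935fb122993417c3850a9a3bab637313dc05bd2aa9f9a95cb3b3a3127a8fb2455fbca668560c22c71066387d787e555757192e31cde0d9b47c361659faa8a577d26b4087d2e29790e4614eace82d5d39b3153e33d86655381c770d235d7583104b025185c0a2605325d78ce5f3f1cb7d71ec357cf26695c30b6dc97fd2c7700c57228c76b8145eadfe4f4e9903d81d58d4026fc23831a9086e65adf6701d3b46ac9ed93dfc4b95c1608b30eff6744cb06550468513a17d1184caba8d33137124960dd561d75d1f3a534593df564f21aca70132a1eb3f237864d252ae46066ca7a6883ba3ddff9c2e233079610437f68ac93d3a74c309d50b10aa99ebcd419364236ad24cc775754ad539e8f9311c31dc003539ce8c46051ec38a2fcf54b9ff604449ad57ce85641033bd66e2a14833a0d428ff47d70dce19cae07a07fd86caf6c9f078a0c6d59424efb53cbb1a21879c86847d9b4be6dececbc5f9794e9c4852dab84d76b79fe19ed322988c7e7771e52061100fbc2483e8911f1f6550cd7feedf02be0c8647f8385062519edd2cc9cc5ffd6a282d6b1dde9557f2a7eb01bb033a7719474dbf5ec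68ee23ac94b127c6b2bd673380a5c7b2470be7580d25f48533585e266db45dd52a7d3f4e76657cf5da3b89c94a6ed88588ab826780c46261463db40e9c66cd41413f20dca6cf4706ef0c91b3197d481f5e3cc9ca6bb61a6a53db519bc370a37a10ae3ee3da6df631bfae40767cebf367ad23ecbca9cd3c4b6736902651b3f2281420821370d710138b681025506de4ba726d29f1ac8039940de6d4452317f33e8d032fe7a0795a09105dc154d0ac3220b5f475fcaa4fab73df0af5a7201864db9a2ff3140a8aa6ccb9c294b5c243355423a5ef042c98076265275b87df31233b36b5eb669c14ef5615195af9973d256071d2460871657a88ba1cf493079d81adb218f0e99e2777f0bd666bd29bf2cd9602c666ce86b7d171be1bf9fc3e03733c52abe5e2869548d292e4772dc2a1b8d2158bb26fe16ce8f32d2ac98b3fd096f5c13062ebd104c4fc1673e9a18f56bc10146ed771fbae4ac14ba82d20a60131205697cb35e01ee4ad4347b3d9f28d6ed7fd985e8ac12e954f975d5dc56a33e576e646d59bee35f2abc81b45742aeaf35b428579f317fc0221b5af803ced42a05ea6613f0a8a7ca4e2aa365643e17c9dcb49c57867c22ca3a23ad1cdd5074ab47be845d54d448a2dc4827277987735920100aab05d5660a7d4f00cb1ed54ce1aa6e8acb6fb445409e7cd08303c84954653a743032051e3ded627653bec775aad675b5b6709ca2a52a6e5dd042c41efa8a97b4dac354a859edb71c3eafa4b962b26213c46a2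

/-- matrix -/
def f43Q : ℕ := 0x8000000000000000000000000000400000000000000000000000000020000000000000000000000000001000000000000000000000000000080000000000000000000000000004000000000000000000000000000200000000000000000000000000010000000000000000000000000000800000000000000000000000000040000000000000000000000000002000000000000000000000000000100000000000000000000000000008000000000000000000000000000400000000000000000000000000020000000000000000000000000001000000000000000000000000000080000000000000000000000000004000000000000000000000000000200000000000000000000000000010000000000000000000000000000800000000000000000000000000040000000000000000000000000002000000000000000000000000000100000000000000000000000000008000000000000000000000000000400000000000000000000000000020000000000000000000000000001000000000000000000000000000080000000000000000000000000004000000000000000000000000000200000000000000000000000000010000000000000000000000000000800000000000000000000000000040000000000000000000000000002000000000000000000000000000100000000000000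00000000000000800000000000000000000000000040000000000000000000000000002000000000000000000000000000100000000000000000000000000008000000000000000000000000000400000000000000000000000000020000000000000000000000000001000000000000000000000000000080000000000000000000000000004000000000000000000000000000200000000000000000000000000010000000000000000000000000000800000000000000000000000000040000000000000000000000000002000000000000000000000000000100000000000000000000000000008000000000000000000000000000400000000000000000000000000020000000000000000000000000001000000000000000000000000000080000000000000000000000000004000000000000000000000000000200000000000000000000000000010000000000000000000000000000800000000000000000000000000040000000000000000000000000002000000000000000000000000000100000000000000000000000000008000000000000000000000000000400000000000000000000000000020000000000000000000000000001000000000000000000000000000080000000000000000000000000004000000000000000000000000000200000000000000000000000000010000000000000000000000000000800000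0000000000000000000000400000000000000000000000000020000000000000000000000000001000000000000000000000000000080000000000000000000000000004000000000000000000000000000200000000000000000000000000010000000000000000000000000000800000000000000000000000000040000000000000000000000000002000000000000000000000000000100000000000000000000000000008000000000000000000000000000400000000000000000000000000020000000000000000000000000001000000000000000000000000000080000000000000000000000000004000000000000000000000000000200000000000000000000000000010000000000000000000000000000800000000000000000000000000040000000000000000000000000002000000000000000000000000000100000000000000000000000000008000000000000000000000000000400000000000000000000000000020000000000000000000000000001000000000000000000000000000080000000000000000000000000004000000000000000000000000000200000000000000000000000000010000000000000000000000000000800000000000000000000000000040000000000000000000000000002000000000000000000000000000100000000000000000000000000008000000000000000000000000000400000000000000000000000000020000000000000000000000000001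

/-- matrix -/
def f43S : ℕ := 0x8000000000000000000000000000400000000000000000000000000020000000000000000000000000001000000000000000000000000000080000000000000000000000000004000000000000000000000000000200000000000000000000000000010000000000000000000000000000800000000000000000000000000040000000000000000000000000002000000000000000000000000000100000000000000000000000000008000000000000000000000000000400000000000000000000000000020000000000000000000000000001000000000000000000000000000080000000000000000000000000004000000000000000000000000000200000000000000000000000000010000000000000000000000000000800000000000000000000000000040000000000000000000000000002000000000000000000000000000100000000000000000000000000008000000000000000000000000000400000000000000000000000000020000000000000000000000000001000000000000000000000000000080000000000000000000000000004000000000000000000000000000200000000000000000000000000010000000000000000000000000000800000000000000000000000000040000000000000000000000000002000000000000000000000000000100000000000000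00000000000000800000000000000000000000000040000000000000000000000000002000000000000000000000000000100000000000000000000000000008000000000000000000000000000400000000000000000000000000020000000000000000000000000001000000000000000000000000000080000000000000000000000000004000000000000000000000000000200000000000000000000000000010000000000000000000000000000800000000000000000000000000040000000000000000000000000002000000000000000000000000000100000000000000000000000000008000000000000000000000000000400000000000000000000000000020000000000000000000000000001000000000000000000000000000080000000000000000000000000004000000000000000000000000000200000000000000000000000000010000000000000000000000000000800000000000000000000000000040000000000000000000000000002000000000000000000000000000100000000000000000000000000008000000000000000000000000000400000000000000000000000000020000000000000000000000000001000000000000000000000000000080000000000000000000000000004000000000000000000000000000200000000000000000000000000010000000000000000000000000000800000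0000000000000000000000400000000000000000000000000020000000000000000000000000001000000000000000000000000000080000000000000000000000000004000000000000000000000000000200000000000000000000000000010000000000000000000000000000800000000000000000000000000040000000000000000000000000002000000000000000000000000000100000000000000000000000000008000000000000000000000000000400000000000000000000000000020000000000000000000000000001000000000000000000000000000080000000000000000000000000004000000000000000000000000000200000000000000000000000000010000000000000000000000000000800000000000000000000000000040000000000000000000000000002000000000000000000000000000100000000000000000000000000008000000000000000000000000000400000000000000000000000000020000000000000000000000000001000000000000000000000000000080000000000000000000000000004000000000000000000000000000200000000000000000000000000010000000000000000000000000000800000000000000000000000000040000000000000000000000000002000000000000000000000000000100000000000000000000000000008000000000000000000000000000400000000000000000000000000020000000000000000000000000001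

/-- matrix -/
def w43P : ℕ := 0x80000000003ef46e8ea4e04e844d400000000009961b91b1e66398e3200000000033ee0bbc4ae2d531591000000000229f2b278a6ac9285208000000001d8060f2c6d691442a0400000000151a9bca2aa99256e8020000000026a2276b1419149292010000000029ba44ac24574c040d0080000000228164a8bcfe9232f000400000000b98aafabe0b0e7669002000000013209d0742e41d2091001000000035cdc29196c62339670008000000023b38b69b3d48cdea00040000003e7a07049fc4fccac900020000000743795afca63777d500010000000615e6f17a8a87767a000080000019846691a2d8b8676a00004000002ae6b1f49082ba6557000020000026a4856d3af8583bba0000100000255e753c8beaa32bce00000800002ee32efe804e32b37c000004000002472deb4b16d09afe0000020000099a55ba903fd7f9e8000001000002e9cb85d17ed8161d000000800005090c187c997972ef000000400020774b80c948abfd1100000020002a120a0f91f1424aed000000100036b88c5fd4034248b400000008000d988f458bd4256305000000040008fedcd8e421fd504100000002002b5dadf0c9092476de00000001003219b899f9a721519a00000000800dee6b80751339278800000000402b93223ebe117c8e9d00000000200fe8fbfd02815cff8900000000100c03ebf98d46a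386a600000000080ae7529ac2f310113100000000043e8b85c1f9fbd93c5300000000020917aee72d5b0ee60600000000011a7f5b165d22907ef300000000008e2b1826244acb860600000000007146c9a285d4a348f600000000001019e9d8a3e47b54a600000000003eb571d82728315469000000000008d0abea847b84e8230000000000071ab8a50457d57aa5000000000031cd9682a4c8b89e0f00000000001451b59621ad63ca9d000000000028b2000e5bf2d7171f00000000000650c9796b2a18882a000000000001a633b6e5ca446887000000000005077daecd1dfce8d600000000002678a233eac8d0896000000000000b5fed732efa231e40000000000005082edded3bba650100000000002739ad22a648cdc6f000000000001512291f61d3e4b2e90000000000228f6df3d6850aded50000000000124d73f7c6b9494c1800000000003c1c4526e9c2b3ad3a00000000001efa3cd7a80a440d04000000000031dabdec83682b1534000000000003f5efbae7986096030000000000296295ece7194e7cec000000000024ebf05046ce3bd70d000000000019fcc07849598edfd100000000003c0751a1365c5edbce0000000000071186314e1542b293000000000010c0b1fb74653832eb000000000036d0f9269ccec9be800000000000155f8ebf06924cac55000000000034b3e2d302bc35c8c100000000003b1c17fde4c7d7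e0490000000000131ffefae7526f2d3e00000000002f36c467ba6555147900000000001eb2a511605e4814ce00000000002dd6d2130d60b81c8600000000000a99269f5da01c39a100000000000ca721fb8b3b3ab28c0000000000390b86fd03312975a000000000002b864883882a7fc38100000000000aaf3ec10d4c5919b700000000002e12f6190dd484d59400000000000cfa2cc395866ee65400000000001621e37513f47d61ea00000000001ced6a0bf2b410cdb9000000000000dd7440ede2857f2c000000000016fd9aa9a3b9d9ce620000000000106b06599b7f7c6da70000000000210233e72162c58d5700000000000cd4661ca455a1c78c0000000000059b2bd0f683f724570000000000261b5d62dabb3cbb8e00000000000341a0dbcedcb2ca270000000000154b77abfbb89220340000000000113318190919b7117f00000000002f1820f485afa38af200000000002169c3b4d86d82450a0000000000044a25d3f7bfe2cee60000000000034ee65d934888e83f00000000003409c8c1720d18eb5f0000000000212a51a4e3d840d68200000000000457aad8aa22bb4e8d0000000000083163e1f86ba8510300000000001baf994c25387a35a90000000000328066f0b4d12e0ade00000000002553160e503f05add000000000002fbc5dbf0c45be4727000000000021c6c95d4b8ec193b000000000001663b47b11a577746a00000000003c3322bcbc9d2ca5ba0000000000328abd0d2e57d89a5c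

/-- matrix -/
def w43R : ℕ := 0x80000000002ad5e34dc8a2eadcf8400000000002cfd1029dc9ab0cf220000000000bfd07207ca0735ed0100000000032591ee67c809e501e0800000000152dd1773ffdbe537b040000000018a59e166be3e868f902000000002647556abb1b2c8a4901000000003171cd8d02ab36126c00800000003ea17e1e3a50ef29e400400000001ca368eb368a4a2d740020000000250245430edeec321b001000000006cdb7972dd23f2bf700080000000ebfd8f3575c3335b800040000003b5858ac928c077e9600020000003ec838cef2c788085000010000003091db22157cdb09ab00008000003bba38942f8ee9887d000040000028442a09244155a87200002000000a07879096f62d924d00001000001aa329ce1a0bc47c580000080000084d72dd503012cd1300000400000364f11d7ac5ebb70200000200003a2ca81fdff3cff367000001000035cff8ca2eadc9e0a30000008000318ca0303b7c4f545900000040003f05677e6bbc8f47bf0000002000067976d203e4002d8600000010000c18064ab7abdd838200000008000f47a4a92c28901eae000000040017b17f664ad5526f890000000200016c715bc30ce180150000000100397af41061a39cc82c000000008008761ef2714c2683bf000000004003e0a1ac0aa4f0b1ea00000000203c837dc51445e5f282000000001023c31b1de5378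9c8c000000000083716157166ff3d271800000000043648926d2946d276e700000000023a70a04f60096f9ce0000000000105b63c2f1191b61ebe000000000093f964c0929bba2c1700000000007b9aca1f37616a967d0000000000155e1c4f2764d8bb7f000000000008ed23b20cb08091d900000000002ef1580586f905ea8500000000002d69ece013477130600000000000148cb96fc6eb0f24f40000000000254514c5be8cc6e19e000000000022af38978f6db81cf700000000002e0859839eb4e5f7d100000000002b71932f9cab743c8d00000000000579c5e935b76d5cf40000000000397c5ab3bfbd11f9fb00000000000cba64e80fa4195ee400000000001a0151da7850e3ceb4000000000017027564bf2644d51a00000000002c65fd33334a76c8b2000000000031f98f2d35315ea29400000000000d97cf7b7e231b86940000000000186f8a40a03635d1c100000000002cfe2bc97c656ad685000000000025149bafd5d462670e00000000000e7bd15f1eafc53f37000000000034322eb1caed0955c1000000000031e91dcd08241546c50000000000260add0953ee38ac000000000000137fc91c8129c31700000000000034feeb0010910b78200000000000212cf749dbbd3acd0d0000000000237eb91910da7102fe00000000000f744d7a95881fe0610000000000143bc17f1a0d0cb32d0000000000335f9248f5231e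bd68000000000008e6ed749a60877ca5000000000024c025f4d5c1b841d8000000000027faf8926d104a32b5000000000023fcdae5e80300a2ca000000000024229b9ccc512271eb00000000000c21470924fd07f5db0000000000261c1483cd336d2ca1000000000024bd0fb8dd16cde7490000000000234893fadf5080b8ad000000000011d006fd1cc9e7cd04000000000020ada6e783177b038d000000000016200febc40cac51ee00000000003dd010d9cec20192c3000000000016b1c5799bf7b97d5400000000000760b4b660286a6ddc000000000032370cb70003faede900000000001e65902c7bf9161d8c00000000001499ed07839bc5007900000000001ce5c41d6601ce5a9600000000002133632fd7f0f4221a00000000003f61f3c369c0a924fb00000000001034670f02901bbaac00000000002cfcfd14a3c31fba3400000000003a989ff318aae2da8f00000000003be4c26a9a0ffe24d0000000000019cb920a0aad7ab6ed00000000000639af2b5f8bf36bc000000000003dd7bf5c7dbe4babd7000000000011a443439bbe233e4600000000003dafbd55938bdf5e1000000000001f6b098e8d0e145d0800000000003eb14d3ba85b2adb4100000000001d0d6fb16be0e6daba000000000012671ba319118609d20000000000010c90103a763714b3000000000014bd5d79192b6a0bc600000000003ffbc0b36d405f757f00000000002bfd3b67143ba34760000000000021bb4213047f31e0af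

/-- matrix -/
def w43Q : ℕ := 0x8000000000000000000000000000400000000000000000000000000020000000000000000000000000001000000000000000000000000000080000000000000000000000000004000000000000000000000000000200000000000000000000000000010000000000000000000000000000800000000000000000000000000040000000000000000000000000002000000000000000000000000000100000000000000000000000000008000000000000000000000000000400000000000000000000000000020000000000000000000000000001000000000000000000000000000080000000000000000000000000004000000000000000000000000000200000000000000000000000000010000000000000000000000000000800000000000000000000000000040000000000000000000000000002000000000000000000000000000100000000000000000000000000008000000000000000000000000000400000000000000000000000000020000000000000000000000000001000000000000000000000000000080000000000000000000000000004000000000000000000000000000200000000000000000000000000010000000000000000000000000000800000000000000000000000000040000000000000000000000000002000000000000000000000000000100000000000000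00000000000000800000000000000000000000000040000000000000000000000000002000000000000000000000000000100000000000000000000000000008000000000000000000000000000400000000000000000ce8457baade00000000000000000c019fa9385d00000000000000000fe657ab00d0800000000000000006d0eec9f6ec400000000000000001161221f31420000000000000000745e5b875c410000000000000000a9bc89524a008000000000000000d061055b37c04000000000000000e4b0a6a32cc02000000000000000ad6f10c80a401000000000000000f71b1364a9800800000000000000e79b89a0a8c00400000000000000b61f4fff2e400200000000000000610aaf145ec001000000000000005b8fa910170000800000000000006857afc20b400040000000000000b67e2ba169000020000000000000f4e32ace828000100000000000003d8c6a158c0000080000000000008dd227e0df800004000000000000634da133628000020000000000003cdaf5b40600000100000000000024a7a9c3f44000008000000000003d9864c8664000004000000000004e2f2ed6b64000002000000000006c7ee57a9bc000001000000000002c4bb9383740000008000000000007cf8c4a2a40000004000000000040378bb8604000000200000000001791bf0700400000010000000000629f3a8fa3c0000000800000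0000c773dadad60000000040000000000a294981ab40000000200000000065e599eece4000000010000000007aed25c1d0800000000800000000fbaf04922380000000040000000085fe09f0f9800000000200000000263ddb0e9c4000000001000000003a6f5b0acdc0000000008000000036a67ae50c400000000040000000d09ef676a9c0000000002000000072d68b57bec00000000010000000548627868f00000000000800000056b3757d9fc000000000040000000dcd67129b0000000000020000007917e5af420000000000010000000b209ab219400000000000800000607401c3534000000000004000003bcbd48f84c00000000000200000d49b92a1df40000000000010000000ae002816c000000000000800000cef56bec2400000000000040000b9c6361ee2800000000000020000fb98a05e720000000000000100001fd87bd775c000000000000080007d79d9acc54000000000000040009f4c7b723700000000000000200085ed374712c00000000000001000dbb7f4209fc00000000000000800b5e1156e910000000000000004005ab2396f9180000000000000020022e4c7e902c00000000000000100dcfa86e3020000000000000000804c2c10d9da8000000000000000400f89f11d3d400000000000000020e2e2aa38d18000000000000000104409df07150000000000000000080dbbfceea3800000000000000004934f3620a4800000000000000002b25553b249c00000000000000001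

/-- matrix -/
def w43S : ℕ := 0x8000000000000000000000000000400000000000000000000000000020000000000000000000000000001000000000000000000000000000080000000000000000000000000004000000000000000000000000000200000000000000000000000000010000000000000000000000000000800000000000000000000000000040000000000000000000000000002000000000000000000000000000100000000000000000000000000008000000000000000000000000000400000000000000000000000000020000000000000000000000000001000000000000000000000000000080000000000000000000000000004000000000000000000000000000200000000000000000000000000010000000000000000000000000000800000000000000000000000000040000000000000000000000000002000000000000000000000000000100000000000000000000000000008000000000000000000000000000400000000000000000000000000020000000000000000000000000001000000000000000000000000000080000000000000000000000000004000000000000000000000000000200000000000000000000000000010000000000000000000000000000800000000000000000000000000040000000000000000000000000002000000000000000000000000000100000000000000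00000000000000800000000000000000000000000040000000000000000000000000002000000000000000000000000000100000000000000000000000000008000000000000000000000000000400000000000000000ce8457baade00000000000000000c019fa9385d00000000000000000fe657ab00d0800000000000000006d0eec9f6ec400000000000000001161221f31420000000000000000745e5b875c410000000000000000a9bc89524a008000000000000000d061055b37c04000000000000000e4b0a6a32cc02000000000000000ad6f10c80a401000000000000000f71b1364a9800800000000000000e79b89a0a8c00400000000000000b61f4fff2e400200000000000000610aaf145ec001000000000000005b8fa910170000800000000000006857afc20b400040000000000000b67e2ba169000020000000000000f4e32ace828000100000000000003d8c6a158c0000080000000000008dd227e0df800004000000000000634da133628000020000000000003cdaf5b40600000100000000000024a7a9c3f44000008000000000003d9864c8664000004000000000004e2f2ed6b64000002000000000006c7ee57a9bc000001000000000002c4bb9383740000008000000000007cf8c4a2a40000004000000000040378bb8604000000200000000001791bf0700400000010000000000629f3a8fa3c0000000800000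0000c773dadad60000000040000000000a294981ab40000000200000000065e599eece4000000010000000007aed25c1d0800000000800000000fbaf04922380000000040000000085fe09f0f9800000000200000000263ddb0e9c4000000001000000003a6f5b0acdc0000000008000000036a67ae50c400000000040000000d09ef676a9c0000000002000000072d68b57bec00000000010000000548627868f00000000000800000056b3757d9fc000000000040000000dcd67129b0000000000020000007917e5af420000000000010000000b209ab219400000000000800000607401c3534000000000004000003bcbd48f84c00000000000200000d49b92a1df40000000000010000000ae002816c000000000000800000cef56bec2400000000000040000b9c6361ee2800000000000020000fb98a05e720000000000000100001fd87bd775c000000000000080007d79d9acc54000000000000040009f4c7b723700000000000000200085ed374712c00000000000001000dbb7f4209fc00000000000000800b5e1156e910000000000000004005ab2396f9180000000000000020022e4c7e902c00000000000000100dcfa86e3020000000000000000804c2c10d9da8000000000000000400f89f11d3d400000000000000020e2e2aa38d18000000000000000104409df07150000000000000000080dbbfceea3800000000000000004934f3620a4800000000000000002b25553b249c00000000000000001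

/-- matrix -/
def v43P : ℕ := 0x80000000000000002015dbc79b2540000000000000000017bcbf1bff200000000000000020468d5a2e7f1000000000000000204f8be5e8490800000000000000241cc375957f0400000000000000230cf46d9e15020000000000000022599784eb9601000000000000002455104455bc0080000000000000244ffdf2139f00400000000000002403ed6a88a900200000000000000740fe47a581001000000000000004054f808f80000800000000000003538760d6f80004000000000000244ea63d284c0002000000000000065a4988f8c500010000000000000216d0441f840000800000000000274061b46336000040000000000003051a782c9300002000000000002218dafb780c00001000000000000408a074626a00000800000000000554419c71210000040000000000011624ed99a30000020000000000054570e49c3b0000010000000000221a7b7cae6200000080000000000007d986768c00000040000000000346ee7781fd0000002000000000274863eafe780000001000000000211318ddf0f8000000080000000022101e43169c000000040000000001465b93baab000000020000000021002c3017630000000100000000044591750968000000008000000003026fb445d700000000400000002116177ac7b400000000200000000749988c852b0000000010000000010bf68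4d50c000000000800000022584732302c000000000400000025115d14681600000000020000002347f5edfab40000000001000000050e9418bd910000000000800000044af256799d0000000000400000051fdf6fb05100000000002000002003e4f734450000000000100000210d54bd41050000000000080000234a0aaf6de600000000000400000019ccafbf300000000000020000275b92a24a8100000000000100000405944c966500000000000080000611ab8318a000000000000040000256a764282700000000000020002059df2bf45c00000000000010002244fe3e410f0000000000000800004f52021c03000000000000040001003363bfe500000000000002002548151880270000000000000100271ef044609b0000000000000080234ef4e9c039000000000000004006014c0b6b2800000000000000200602738b40d1000000000000001005046662056900000000000000080119a75ba90400000000000000042051d56b433d00000000000000020750485946da0000000000000001250a7799c3c4000000000000000087436b1c05570000000000000000461b8b65137900000000000000000290ade9c8e10000000000000000155bca86397500000000000000000f1e479f41a00000000000000000003b4573c34200000000000000000448ef53cbed0000000000000000020e2d964e400000000000000000264112b7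0c3600000000000000000156caeeaf3b0000000000000000005a667dc0550000000000000000030e7df34390000000000000000026113bd5662b00000000000000002018c17aa2180000000000000000054a37429c1c00000000000000002117ec97e19a000000000000000027061c8558a80000000000000000024d6d60d9e00000000000000000270e2f9e221d0000000000000000070ab7a38a4200000000000000000616fded7362000000000000000027463680625d000000000000000021154a2b1d860000000000000000044c8de00946000000000000000006057c7cd9b8000000000000000005513d47f02c00000000000000000619bbd12eab00000000000000002258527866410000000000000000065cf5500bfe0000000000000000010fbe435a780000000000000000031a3672126c0000000000000000045d901a3d5b0000000000000000040fd865ab7c0000000000000000224d126b80e80000000000000000211488d34e02000000000000000023419f2065170000000000000000261c11b3ecb600000000000000002700d8f3dd0a0000000000000000265c9379ce070000000000000000230f8f6308c70000000000000000274688a4db7c00000000000000000350465019fd00000000000000000703fba48b080000000000000000065cf81ac7b2000000000000000024515588ba870000000000000000054c70b8093f0000000000000000245b41f5089200000000000000000743adb8d7fe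

/-- matrix -/
def v43R : ℕ := 0x800000000000000000c98878208a400000000000000002d7257c324c2000000000000000016dc5029ffb1000000000000000031fe7859850080000000000000003499908a9620400000000000000016134a7cd830200000000000000023e1f4052c9010000000000000002ab10e73374008000000000000000011daec37f00400000000000000336cb080233002000000000000003ac662a5b76001000000000000001571d94c09a00080000000000000322eb7719f400040000000000000399f056ff5e0002000000000000032c4faf9e96000100000000000000f36ae9fe1500008000000000000135424211cd0000400000000000020f2ce17a05000020000000000002e66d712e2a000010000000000002ea86a023d9000008000000000000dfc94b98ef0000040000000000004f64b70cc60000020000000000019146731d170000010000000000003b456849fe00000080000000000281221c7f8300000040000000000166d3b9c3c4000000200000000002c059af43ca0000001000000000018bb47f53050000000800000000024d4951ad77000000040000000003a30c4dde0a0000000200000000019d8bca9d9100000001000000000365a66a41fd000000008000000003ae0c5f879600000000400000000187955faf15000000002000000002725dd865a8000000001000000000103c5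9e3eb0000000008000000027f806e8c28000000000400000002468d5955ff000000000200000001cb591af4a1000000000100000001edcdfb1ca90000000000800000028b877d166e000000000040000002f1f06b24b9000000000020000002bb43b3ff2d00000000001000000194bbd017670000000000080000000e4205fd9c0000000000040000002e6e1f6beb0000000000020000033acc850849000000000001000003f6a163d4900000000000008000031965c9362b000000000000400002f28671847500000000000020000248446d7335000000000000100000e7ccbeb6eb000000000000080001b425e4949d0000000000000400032758e8466200000000000002000129cf88825d000000000000010001e4a1955708000000000000008001616c994ec500000000000000400245a3d2fb70000000000000002003c58334a0e10000000000000010010598302ce10000000000000008011fcb8d2f3e0000000000000004021a2f3a995c0000000000000002021a0f4a09af000000000000000100fe2715341300000000000000008334a67c8268000000000000000041f0a811a38100000000000000000106a833de9c0000000000000000130ce5c9d8d200000000000000000ac646cdfb05000000000000000003e9ef6f4f110000000000000000011ad985d862000000000000000003e426e722ae000000000000000020f0ac83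6f300000000000000000032d5d3fb6a5000000000000000004eccca2a67a000000000000000003165701bfe500000000000000000134564ef9c7000000000000000003dacce1259a000000000000000003f31c66e976000000000000000002c568ba9b12000000000000000002235cd9ee01000000000000000002a9ccbf11350000000000000000037d5e03a142000000000000000001c94ad60df9000000000000000002953e07bfdd000000000000000003cd857623b300000000000000000047dc4fce2e000000000000000000856e0fb91b00000000000000000201e6c431cd0000000000000000030af0e587a7000000000000000001a6625fed7e000000000000000001ee43c3598d000000000000000003f0dcb536cc000000000000000003e8516f96cb00000000000000000346be02f0ec00000000000000000224b6d9cf7700000000000000000240a3e4ca050000000000000000039ea9ede92c000000000000000000fb1571c3600000000000000000000eae973f3d000000000000000000f05e7af105000000000000000000a275dc10ab000000000000000003c4f049cb8c000000000000000001da099d5d3f0000000000000000029f047c47b8000000000000000000eeec59a41700000000000000000232f88b85d20000000000000000010d1f9c5239000000000000000000a9bd9bbb35000000000000000003aa3749b9470000000000000000031758d104e30000000000000000026baf6c747f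

/-- matrix -/
def v43Q : ℕ := 0x8000000000000000000000000000400000000000000000000000000020000000000000000000000000001000000000000000000000000000080000000000000000000000000004000000000000000000000000000200000000000000000000000000010000000000000000000000000000800000000000000000000000000040000000000000000000000000002000000000000000000000000000100000000000000000000000000008000000000000000000000000000400000000000000000000000000020000000000000000000000000001000000000000000000000000000080000000000000000000000000004000000000000000000000000000200000000000000000000000000010000000000000000000000000000800000000000000000000000000040000000000000000000000000002000000000000000000000000000100000000000000000000000000008000000000000000000000000000400000000000000000000000000020000000000000000000000000001000000000000000000000000000080000000000000000000000000004000000000000000000000000000200000000000000000000000000010000000000000000000000000000800000000000000000000000000040000000000000000000000000002000000000000000000000000000100000000000000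000000000000008000000000000000000000000000400000000000000000000000000020000000000000000000000000001000000000000000000000000000080000000000000000000000000004000000000000000000000000000200000000000000000000000000010000000000000000000000000000800000000000000000000000000040000000000000000000000000002000000000000000000000000000100000000000000000000000000008000000000000000000000000000400000000000000000000000000020000000000000000000000000001000000000000000000000000000080000000000000000000000000004000000000000000000000000000200000000000000000000000000010000000000000000000000000000800000000000000000000000000040000000000000000000000000002000000000000000000000000000100000000000000000000000000008000000000000000000000000000400000000000000000000000000020000000000000000000000000001000000000000000000000000000080000000000000000000000000004000000000000000000000000000200000000000000000000000000010000000000000000000000000000800000000005f1dc96e5634b5dfd20000000000d4a2b40fcdc36f83b1000000000071a05c75b1317ddb508000000000e2ea64329863d71bd8400000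00000000000000000000040000000000a2c3e5159152afc9b42000000000d9040294036c244db01000000000a15007a5902bd0f29008000000009dfcd5b8b738cbef2c040000000007d5de0272891db418020000000061d4f7f288e80950580100000000afb8e58eef8b8b13080080000000893b37485fd48d91d800400000005384ce7e428224692000200000005dfd3a7bd5080956c800100000003d7819daace72a077400080000005b09c7f5633edb345c0004000000efbea7fe39cac026080002000000dde76ddaa41a7e7bf40001000000a23151fc3bc46a21f00000800000821b85643d4ebeb7bc0000400000af1db7cc0ad02321bc0000200000bfa458cf28a2cf1c2000001000005fed5c400d3657b47c0000080000cfdb9cacd71d066ac800000400001d65b70f08de1cb48c000002000063c2764be8f1262f38000001000096ed8e589b926ce6f800000080008460ff701197a3cb440000004000a2c767759aa265f5e400000020002bf7d56235397449400000001000c2420f2ffaef32275c000000080028c451c35c5bc184880000000400f246967eaf668c246c0000000200db12827c7fed57925000000001003068cdb5ab4f55fbcc0000000080f72fae5e8e1ef3edf800000000409bee7a9f4dbc97a394000000002016856fa8b024ec20100000000010362a58577e58b6ee140000000008f0cfad5c2b0eceeae800000000042708da791c641dbc280000000002601a1697f3363f38500000000001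

/-- matrix -/
def v43S : ℕ := 0x8000000000000000000000000000400000000000000000000000000020000000000000000000000000001000000000000000000000000000080000000000000000000000000004000000000000000000000000000200000000000000000000000000010000000000000000000000000000800000000000000000000000000040000000000000000000000000002000000000000000000000000000100000000000000000000000000008000000000000000000000000000400000000000000000000000000020000000000000000000000000001000000000000000000000000000080000000000000000000000000004000000000000000000000000000200000000000000000000000000010000000000000000000000000000800000000000000000000000000040000000000000000000000000002000000000000000000000000000100000000000000000000000000008000000000000000000000000000400000000000000000000000000020000000000000000000000000001000000000000000000000000000080000000000000000000000000004000000000000000000000000000200000000000000000000000000010000000000000000000000000000800000000000000000000000000040000000000000000000000000002000000000000000000000000000100000000000000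0000000000000080000000000000000000000000004000000000000000000000000000200000000000000000000000000010000000000000000000000000000800000000000000000000000000040000000000000000000000000002000000000000000000000000000100000000000000000000000000008000000000000000000000000000400000000000000000000000000020000000000000000000000000001000000000000000000000000000080000000000000000000000000004000000000000000000000000000200000000000000000000000000010000000000000000000000000000800000000000000000000000000040000000000000000000000000002000000000000000000000000000100000000000000000000000000008000000000000000000000000000400000000000000000000000000020000000000000000000000000001000000000000000000000000000080000000000000000000000000004000000000000000000000000000200000000000000000000000000010000000000000000000000000000800000000000000000000000000040000000000000000000000000002000000000000000000000000000100000000000000000000000000008000000000000000000000000000040000000005f1dc96e5634b5dfd40000000000d4a2b40fcdc36f83b2000000000071a05c75b1317ddb51000000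0000e2ea64329863d71bd88000000000a2c3e5159152afc9b06000000000d9040294036c244db01000000000a15007a5902bd0f29008000000009dfcd5b8b738cbef28440000000007d5de0272891db418020000000061d4f7f288e80950580100000000afb8e58eef8b8b13080080000000893b37485fd48d91d800400000005384ce7e428224692000200000005dfd3a7bd5080956c800100000003d7819daace72a077040080000005b09c7f5633edb34584004000000efbea7fe39cac026080002000000dde76ddaa41a7e7bf04001000000a23151fc3bc46a21f00000800000821b85643d4ebeb7b84000400000af1db7cc0ad02321b84000200000bfa458cf28a2cf1c2000001000005fed5c400d3657b4784000080000cfdb9cacd71d066ac800000400001d65b70f08de1cb488400002000063c2764be8f1262f38000001000096ed8e589b926ce6f800000080008460ff701197a3cb404000004000a2c767759aa265f5e040000020002bf7d56235397449400000001000c2420f2ffaef322758400000080028c451c35c5bc184880000000400f246967eaf668c24684000000200db12827c7fed57925000000001003068cdb5ab4f55fbc84000000080f72fae5e8e1ef3edf800000000409bee7a9f4dbc97a390400000002016856fa8b024ec20100000000010362a58577e58b6ee104000000008f0cfad5c2b0eceeae800000000042708da791c641dbc280000000002601a1697f3363f38500000000001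

/-- matrix -/
def B37 : ℕ := 0x433795f769d4e9039bd638ed9fd05176b30ddfa7b75cb46f03696913fbc548a74864efb28f88761b7c8d3d4d5504209be58156b271eabd191633a3a05b516e89e87066c46b296c00a9c29aa81d3648f80b5844a606b19e4bd9a77d6c2c1f31e70a088c3113c065305e01658dc7181a39ac06a6dc0259f1575f66bbdc351537a8e862f1b8a60b14375b3387dd58975bcbf374dc3d0614d54308b9dccd5680195772c97f489037d52290c54353fd0b48ba9a15c82f5f0a75ab085eb20f0c8bff159caf2619c7ed464d18ebc59f79927b59ea95c3e751e4b4def998aa02c834469a93af1d1154bba0c9e4f19ca96eb1c88fb8b9b1133cf792154592bee645359e9b1c43aeb771583c632e19dca82e0ec746ccbeedad4843401b3da2fcca2fbae86cc8c12460b8516208e944198853d9fed1a0ba45d444dc860a1954545eb8245efc051897eeaec41275b5577722aa7a23e257e3d06900720e276fe27d0f1ec9b3aaa525a7be49eb1ef259e110e23418b29332596609a71b34cd5621fb1c04957a148cae6aa6f247f706ce21f8964b162dad0ea2155e69a97165166090c496af84a8b5762a9f63e59035ff1fd5870bfb770be5eb9d299780b0f5a4d63619897b6bcaefc9b4e0b1ab4bdecc88ed89c535d1b3ebeb1daf5036bcdac87a6b04c8e62803614b9235cfd865eea0fd26915d6b97084e9df77809a9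e7dc7beff2827e3651a98267651f34398e48147df5709ff467de2208896b2b0d1b3fa3952f9d72747b21765d608b28fae15a1f930f167a0d6eab26abedca742595d81f7d4f24ca0619694d48c00496d83fac338af40b21d0648e71cfd2465a83c73f5b23029318da545f9d0ba22d3a159bb5a15f8905008621c71621f417cb67473d013d664b9a4e6bce04efd47b6f35693f3b833a1d6a64b836b5860e6f2023502bf657c71989583961318fc6740d33d4219cc8b66ce2fabdb05d9dac0ea2304e2dbced53add8148ba0dc6db2a21a072bab9f0f9f9e7f21078e6cfa345db70c84a0925f8850dc0999fbd88bbe9606ec1877678b5a3007b22c178baa79ab6fea139f2021084e669a10a1db28732187691563103608937ce2b2b000d41db3dd8183d385c6f80f8beb19ef2111eea3afce677b774ef187afb08d22a765a91ff3c8b4fc2364bc8d3c23ad3d6e9b83981284ac5345256d45690931f75a82ad9e3993a5e041c552a40a7beacb5fa8cda4fab493aa15ced6dd2f19961e0aaf0d27d2572681b3de465e57402172585be852a49ff9c5beef058bd7112328b8ad81dfac3d1b97772b0c185d61bb5aceff54aa66dbb75a3c62e594180220810f6a387f52749ed7700d45ef8253f84729f2292f22b2088eba98b18c796cc8df5cfa0ff4d0a0e787b928cf0e6966c19c9bd745c4e9d3630fe50e9ff1c599a220a2c0a30a3a51e58a9bf289fd6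7e2852c2dc024a8b7dd310ee50836f5a66a43ba0bae33ceb749668a876f969b5391c0673caae50a531b40788258dc70267cf383284eedc5ab01731f5aeead2ca845a7d98beb1aa4d9f553349337762ad0b1c42bce90c39975ef05a8aebae4a737bbe00ee802f386d8600016b7d6336e07cbebe8dd64eea269a0605669e1ef093003218f152344ca93bd56c06d92f6716ce455e057cce25cf84b305fbf5e337ef44cab843a4d4f417757658cec810eacaa9b1fdbdd0e44d7843682417be8a61d1174bb3db38ebd891b84bdb40a1e1dd02c4fa24bd4287434e2328fc448307b00914d9a06c29265924ee7149954bd25b034bcf4b595876745075c9a5e00efe3de3e38f0abfba4cc9a3b87ebdc8b97b63b0cb52f49ec088989a8c3e9ab36dbdaa905dcdcedd23ecece05acf8c228ecfbb6b0857d59c084a755232d33cc2c51babcef8bbae6a30141b5a4555a3cfb18105534177339a06b8cb2523485c11dd925390f4ae4d58d4af2740afa077016ddd8c80b7bd55d81425ff5118890919a03c7678245552d37d76fafa30e4c4422dc1b137f303968bbb7c0065cda6658f09238a9dcf096d46e0688a77125d4465769367f0069ca84a5bfe2408780bd7654511bcddf7cbe8cb273e917ceef3a66e4b7a70b47e8b256d606225bf50fe5a60650349b065c010502f560182302e24feaa17c5e79c849780b47d265150e3d37c80e3b9f3409df054df6c0dfed7dca446dd534905d8aaf59c00ff01bae0b1649b32e56e9b2752b56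

/-- matrix -/
def f37P : ℕ := 0x8dc79ec14967d8c3f2c5327782ed412ae5737f4ba4538fa9756c0f7a2f7c17326c7154971ca9033bd8a61f976fe3b321793af73798fce274003351ba530a87cdbf9b11050a8e0a9fcf0a0808ae0fab3e7e8738710f6e6e5785e49182d182ce1c48ea08b5ef40c2eb681058fdfd6eca47088bd92b61d11eea742e4ab7e96b0919a771b47ce2144edd38dde1de00fde2626036510202329dbcef8c0fe4201897fd30d803b0325874610a9739cd5c3ecd66ee1422d50c5f0ec4a086992d82a993e93fc39faa0d764cc966c9eb30ad3b8450956305974d286014e1d9d15d2168cb160a5474a2e4dd286a878e574fdefc0998c47b15b0910e7c71077e9ca00794db98646578f5b19d305d365b094d04aaa825d73f791d8cced9a70c8f23958d5bd528f4236335effa0633aba00bd6d3d0e4722621de570c74cf8a756ca8baed23bd80262d08bf03d2d81c98bc59048cb06b1b019696e1d3b13750970f5fea2bdf0ea55d7b8043210e281499b540cc00690f13f15bce11411739975c08085b096c66ae213713cafb03fc210e4cc64e0de9cad84cacba0dcd7f0882188e3e385e93073eb8182de6011fb898e70cdf0820008dd73d0307c5da1dd85d92dec95d044b1d0f0b58ec841b13a839d6ec0d118a6a04e187162964b96d822d9459d01406aeef761cd9ffe038c13878ba050cb1a2a5df0350232feae83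17be30740142c890c2ea8c756bc76347f0b9955ce7436d6e24c8e7eedbdf7018d8a34ea2d4586ca5bcce7d2390dfbff3083b26a13664c50fc4f3e0d8c00c2af46a2c23026208c642305e9fb5d1a8f05cca9234dc86f5a05aaf81cfe44b644fc11f5577b9f03e2f7eb2347aea71ad857bb09e601fdc336d6eb168c3f457594ee620eaffcb71fda6f4fee2236a3e8230c4815e67d59b30534108e91f0e305f1fc90ac461762645c5baeb07500dff09bd38e4d1685d3481f671f0e5227559aeb8f2cbc6a5270d0710c9a8408fe605214d4e30ab470170ad099217b1c352bbb7ae08886d106cd733f4d95adaccc00318e78180a97965fb8a9106e429fb9ea0fcb04c2ebcfe2f7f49fbda28b527e8b0d897964c868ad60adbfa92d42c5051f6648e446a05aed2350f4b56c0c2c2cfabe09dbb44bf67d21a9730dc8c4d0f7ffdfc6cf5a52a175c00c3f7ee72093ff27a3f70622c88803e9c44855b1b8831819083152ef014f7c41d21998f9875e5f781f0b0a063ad3b9c8953f2b9da3ca1a71058d412ab1a8de330569acdc2c0d0772c3ac0d30b08633c33d8d4ac007d69ca8b6a0d9004947060b354a0240f5a2d0b5e8fca7e748bd32d90c81d8e873ffea240c423984ca0809865466468ad6636c02ceb66bdb08453d85ae0c6c4a503638e960920d9da9247519696c0b5f76bb6e0d02b4d582a83f4828ac832d0babec0c178c9b7c98bcf9fdd4dee5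7b1c026bbebf3ee56bc9f769ace14b480a9ef4bb01075461cfe77120f807089277748c916c82ce10ad87e16e005c8d4a4e5289d5479e53ace5ff0fe270d60c28e5e223f403836e3a0fea00d7c267e4d0bd6a0ddc59040af6fc5b476c23992815796bfa7a096a38ae45932a97c578ab6875b303b6cfe57931844b2e4a547c950007dc0b2abf1a28a8245351ac01bc098e0d757b17c100a9624aa8ce230ef06950b7e37026c893de81ade10c08baaa93ca84649a6fabeb4a8f0b14899c799b417defe2997c9da8055e0fa87734e7fd9654625d76b001deedaaece4f5a50e61d5e935030c278cec451a707b71682cb5b94509bcf74de15ba53b4ef46f916fea081ad6806f8fd6e80f02b169241000df743dccfc4be468958954b0030f7057db585657f028554885c6810926f484545bf4ace1d27144364609d2cf2fa59ced6af01dd8c1c1d307388dcb89d2923fb262cb808f6f061f09a08bc2fc21985d69b2bcdf01967263bf7f1261c203164ff58603c23a3832dd8b09900a350c1dd70f1436291f548ff0aa58d14796e40defb0449f185541babadd2edc400b670ae7c179972585f3289eb4e90c061b5475c94484f1caf28052ee0efce7ce64e4c8c426aff6391848052959e64f5974ca6c5ad486bbe3067c415a5fdd787b78a502070a560f7dcf99fb33dac96747bb137d44007f4b7c98872c505ae4b945ea790b1546b5e8c34de94ed19054e42404ecd30b01b0cc82188e5a78b265087c6722cbba15839f60ad9d7f5d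

/-- matrix -/
def f37R : ℕ := 0x833795f769d4e9039bd638ed9fd04176b30ddfa7b75cb46f036969132bc548a74864efb28f88761b7c8d1d4d5504209be58156b271eabd190e33a3a05b516e89e87066c46b290800a9c29aa81d3648f80b5844a604b19e4bd9a77d6c2c1f31e70a080d3113c065305e01658dc7181a390c86a6dc0259f1575f66bbdc351507e8e862f1b8a60b14375b3387dd08b75bcbf374dc3d0614d54308b90cdd5680195772c97f489037d52200cd4353fd0b48ba9a15c82f5f0a05af085eb20f0c8bff159caf261907ef464d18ebc59f79927b59ea9503e651e4b4def998aa02c834469a03af9d1154bba0c9e4f19ca96eb1088ff8b9b1133cf792154592bee60535be9b1c43aeb771583c632e190ca83e0ec746ccbeedad4843401b0da2f4ca2fbae86cc8c12460b8510208ed44198853d9fed1a0ba45d404dc840a1954545eb8245efc051807eeafc41275b5577722aa7a23e207e3d0e900720e276fe27d0f1ec903aaa565a7be49eb1ef259e110e20418b2b332596609a71b34cd56210b1c04857a148cae6aa6f247f7060e21f89e4b162dad0ea2155e69a90165166490c496af84a8b5762a9f03e59037ff1fd5870bfb770be5eb0d299781b0f5a4d63619897b6bca0fc9b4e031ab4bdecc88ed89c53501b3ebeb5daf5036bcdac87a6b0408e62803414b9235cfd865eea0fd06915d6b87084e9df77809a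9e7dc0beff282763651a98267651f34390e48147df1709ff467de2208896b0b0d1b3fa1952f9d72747b21765d008b28fae05a1f930f167a0d6eab06abedca74a595d81f7d4f24ca0609694d48c04496d83fac338af40b01d0648e71efd2465a83c73f5b23029318da544f9d0ba22d3a159bb5015f8905008e21c71621f417cb67073d013d664f9a4e6bce04efd47b0f35693f3b813a1d6a64b836b5860e6f2023502af657c71989583961018fc6740d3354219cc8b66ce2fa0db05d9dac0ee2304e2dbced53ad08148ba0dc6d92a21a072bab9f0f0f9e7f21078e7cfa345db70c84a0025f8850dc0991fbd88bbe9606ec0877678b5a3003b22c178baa79ab0fea139f20210a4e669a10a1db28032187691563113608937ce2b2b000d41db3dd81835385c6f80f8beb09ef2111eea3af8e677b774ef1870fb08d22a765a93ff3c8b4fc23640c8d3c23ad3d6e8b83981284ac5305256d45690931ff5a82ad9e399305e041c552a40a7feacb5fa8cda40ab493aa15ced6df2f19961e0aaf0d27d2572681b3df465e57402172085be852a49ff9c53eef058bd7110328b8ad81dfac3d5b97772b0c180d61bb5aceff54aa46dbb75a3c620594180220810f6a287f52749ed7000d45ef8253f84721f2292f22b2088eba98b18c796cccdf5cfa0ff400a0e787b928cf0e6b66c19c9bd705c4e9d3630fe50e9ef1c599a22002c0a30a3a51e58a9b7289fd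67e2052c2dc024a8b7dd314ee50836f5066a43ba0bae33ceb769668a876f069b5391c0673caae51a531b40780258dc70267cf3832846edc5ab01031f5aeead2ca845a7dd8beb1aa409f553349337762ad0b3c42bce90039975ef05a8aebae4a637bbe00e0802f386d8600016b7d6b36e07cb0be8dd64eea269a0605629e1ef090003218f152344ca93bd76c06d9206716ce455e057cce25ce84b305f0f5e337ef44cab843a4d47417757058cec810eacaa9b1fdbd90e44d7043682417be8a61d1174b93db38e0d891b84bdb40a1e1dd02d4fa24b04287434e2328fc448307b80914d0a06c29265924ee7149954fd25b004bcf4b595876745075c9a7e00ef03de3e38f0abfba4cc9a3b97ebdc0b97b63b0cb52f49ec088981a8c309ab36dbdaa905dcdcedd23acece05acf8c228ecfbb6b0857d5bc0840755232d33cc2c51babcef8abae6030141b5a4555a3cfb181055b4170339a06b8cb2523485c11dd965390f4ae4d58d4af2740afa077036dd08c80b7bd55d81425ff5118880910a03c7678245552d37d76fafab0e0c4422dc1b137f303968bbb7c4060cda6658f09238a9dcf096d46c0608a77125d4465769367f0069cb8405bfe2408780bd7654511bcddffc0e8cb273e917ceef3a66e4b7a74b07e8b256d606225bf50fe5a60670049b065c010502f560182302e25f0aa17c5e79c849780b47d26515060d37c80e3b9f3409df054df6c0db0d7dca446dd534905d8aaf59c00d001bae0b1649b32e56e9b2752b57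

/-- matrix -/
def f37Q : ℕ := 0x800000000000000000000000000040000000000000000000000000002000000000000000000000000000100000000000000000000000000078000000000000000000000000005400000000000000000000000000520000000000000000000000000051000000000000000000000000007080000000000000000000000000b040000000000000000000000000b0200000000000000000000000003010000000000000000000000000700800000000000000000000000010040000000000000000000000000002000000000000000000000000a0010000000000000000000000003000800000000000000000000000a000400000000000000000000000a000200000000000000000000000c0001000000000000000000000006000080000000000000000000000100004000000000000000000000000000200000000000000000000007000010000000000000000000000b000008000000000000000000000a000004000000000000000000000b000002000000000000000000000a000001000000000000000000000f00000080000000000000000000080000004000000000000000000005000000200000000000000000000f0000001000000000000000000005000000080000000000000000000f000000040000000000000000000000000002000000000000000000000000000100000000000000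00000b00000000800000000000000000080000000040000000000000000003000000002000000000000000000e000000001000000000000000000a00000000080000000000000000040000000004000000000000000006000000000200000000000000000d0000000001000000000000000008000000000080000000000000000f000000000040000000000000000a000000000020000000000000000c0000000000100000000000000007000000000008000000000000000a00000000000400000000000000060000000000020000000000000002000000000001000000000000000800000000000080000000000000080000000000004000000000000009000000000000200000000000000e000000000000100000000000000e000000000000080000000000000c000000000000040000000000000e0000000000000200000000000001000000000000010000000000000b000000000000008000000000000700000000000000400000000000050000000000000020000000000006000000000000001000000000000500000000000000080000000000060000000000000004000000000002000000000000000200000000000d000000000000000100000000000500000000000000008000000000050000000000000000400000000001000000000000000020000000000f000000000000000010000000000d00000000000000000800000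00006000000000000000004000000000e00000000000000000200000000090000000000000000010000000005000000000000000000800000000c00000000000000000040000000090000000000000000002000000000000000000000000000100000000d000000000000000000080000000b0000000000000000000400000001000000000000000000020000000e000000000000000000010000000100000000000000000000800000010000000000000000000040000007000000000000000000002000000a00000000000000000000100000030000000000000000000008000008000000000000000000000400000b000000000000000000000200000a000000000000000000000100000f00000000000000000000008000080000000000000000000000400008000000000000000000000020000b000000000000000000000010000100000000000000000000000800080000000000000000000000040002000000000000000000000002000c0000000000000000000000010004000000000000000000000000800b00000000000000000000000040070000000000000000000000002007000000000000000000000000100d0000000000000000000000000809000000000000000000000000040c000000000000000000000000020c000000000000000000000000010500000000000000000000000000890000000000000000000000000045000000000000000000000000002d000000000000000000000000001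

/-- matrix -/
def f37S : ℕ := 0x800000000000000000000000000040000000000000000000000000002000000000000000000000000000100000000000000000000000000078000000000000000000000000005400000000000000000000000000520000000000000000000000000051000000000000000000000000007080000000000000000000000000b040000000000000000000000000b0200000000000000000000000003010000000000000000000000000700800000000000000000000000010040000000000000000000000000002000000000000000000000000a0010000000000000000000000003000800000000000000000000000a000400000000000000000000000a000200000000000000000000000c0001000000000000000000000006000080000000000000000000000100004000000000000000000000000000200000000000000000000007000010000000000000000000000b000008000000000000000000000a000004000000000000000000000b000002000000000000000000000a000001000000000000000000000f00000080000000000000000000080000004000000000000000000005000000200000000000000000000f0000001000000000000000000005000000080000000000000000000f000000040000000000000000000000000002000000000000000000000000000100000000000000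00000b00000000800000000000000000080000000040000000000000000003000000002000000000000000000e000000001000000000000000000a00000000080000000000000000040000000004000000000000000006000000000200000000000000000d0000000001000000000000000008000000000080000000000000000f000000000040000000000000000a000000000020000000000000000c0000000000100000000000000007000000000008000000000000000a00000000000400000000000000060000000000020000000000000002000000000001000000000000000800000000000080000000000000080000000000004000000000000009000000000000200000000000000e000000000000100000000000000e000000000000080000000000000c000000000000040000000000000e0000000000000200000000000001000000000000010000000000000b000000000000008000000000000700000000000000400000000000050000000000000020000000000006000000000000001000000000000500000000000000080000000000060000000000000004000000000002000000000000000200000000000d000000000000000100000000000500000000000000008000000000050000000000000000400000000001000000000000000020000000000f000000000000000010000000000d00000000000000000800000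00006000000000000000004000000000e00000000000000000200000000090000000000000000010000000005000000000000000000800000000c00000000000000000040000000090000000000000000002000000000000000000000000000100000000d000000000000000000080000000b0000000000000000000400000001000000000000000000020000000e000000000000000000010000000100000000000000000000800000010000000000000000000040000007000000000000000000002000000a00000000000000000000100000030000000000000000000008000008000000000000000000000400000b000000000000000000000200000a000000000000000000000100000f00000000000000000000008000080000000000000000000000400008000000000000000000000020000b000000000000000000000010000100000000000000000000000800080000000000000000000000040002000000000000000000000002000c0000000000000000000000010004000000000000000000000000800b00000000000000000000000040070000000000000000000000002007000000000000000000000000100d0000000000000000000000000809000000000000000000000000040c000000000000000000000000020c000000000000000000000000010500000000000000000000000000890000000000000000000000000045000000000000000000000000002d000000000000000000000000001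

/-- matrix -/
def B31 : ℕ := 0xacd9228f68f8eaf67c121e0410e5e91d1066af000b8abc59e4ca13d03c57b12ba3aef297e163c7aaaf4230e2362ad1c45eabdf40cf2dcbf7ad331a0a1b985ca60fc3817ba4126271d351fbcb7b06860059ffbcf3d76a82efe1064c51c70236fc352233927ba46ddc9961bc3b2158c7dbe2cc7fb38d38553b283f68b600f459ed4f50eac917f8be4a1157bedb0b402f9d6549ee9f1b313a747690ebfe825a98fa3171f234afabfa84a0196d185c58efa1537118b4c4f4547ae717cd78bcac05583df91fdb4d13c78984d9eed086791e462ddb3ef3683703c37c2afaa91d9dd0ccf5ad6411d5e47c298481aeaedc01edd3c175a59603884b59e8675e8027bb3e74c185806164445eaba1362bf10d58ce43e1ff7d791db20ec9174965b87211b5bc55ee1b44257a314109ba65793124b97bbe06ac0ea47a4ba1b72dc59906ec5ea873daa724de6f72aa8ebd4cdd3122b75d52c81c0900d24b590d868fb8034853d3bd66fef1bc722cde13f8b25ea302c6133a20f47c611e10df72643c71cd550e7d224d1b73aade2eac6886d723a3b4ff509c1ab494789461203ea4e744829c2365e106478de903ac5a99553e3639fe090b86833595df509edf715aa13ee909f1f9683570ff3477ccce052686838a0f7d7071257fa6ecef75a04fae8c99436f0a8afefdee8f2fe0a32b0b7fcebadeee5cd829f7448e547b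59dbf487201777a36a0b81d062ba1f78a6f79b1f84d12d52ac557703ee332c9cc95e8652d7d26fd02397275827c26237056affc338d71a3fdfd4700911e522a7633fa51e7d3b491ee07667e17496f6789900d593e94cdcd033ebd35de0f278cae5ee634e1c8b816c46bcfedd9e30c6a75fe4699fccd367912a87f30012bb9aa3376a93de01cd300b58ef303b77667bffecfe81629af2f982aec655750919ea3c4cb0e187c67dd762c98d2fb3881a5c2a73b773190d715b2c63d7f0700f6550d555f046575e1e078b21b071446a6dc260aec3a6146ffa6b797dbaded5168557c8ca8f2221e8513f67dc27b475a2c73bb9f6bfc2c6e55be851187de11ff22d68db8946485bcc78f413713d3ad656abe5367883f0cc9bd04f1657f65017830580dc42e0349e3d254f4a332590d144a71521d9497f9ac5212f2a24ea4af62e5135893a73206d6ac75402c718029e898a9903f56c70362e64ea745eaa41d9f1f3a41475ce405be892e3f57ee6e6fde45fe36f604f61bfd6c5c7fdc17cc584a41b5222c090fdd0acf0ccfae3850056566b6667fbb374d0160509fd2d1b4139db86a05093ab01ce16e0987d3753b7dbf33611142673a0575f0951f5dc4b84812a284ad8e4797c75639d7df80e501bd69361bcce58d6b19e884067692936a3b09d0d770d832a67a3df93cbda216a8ce9c4e9f8c090ffcd215d0493352dc9ad6d82e92fd47c93143aab832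05b1c51e28e3f58d3369941e30a3c646e52dab35f438317ed2aa98f7ae1f086a96892a0cd8807fe340cd1bfa0b6875fa988a92c08e7b5c86b46475fc827741b23d612fd64764da462b18ddf5eb73cbe5fdd21406b861b31c73ff8f65a5b45e96ebe3aa1a04c3919f11653db529d69278b58f0ba146108f60862d1071e73f2dbfdab326a93f2ce667432786b9372ceb8112a8f2356757979e94fe00a18bbbbe375b3542d79020f992ddaec2fb9b6d85039a0890b2ecae6b32b18becd69a8838ddc5a78b7e989e9de673ec24e36cf5193154799424828b00b71bdc6456a0691d00643f9082ba64ba6142909d6f8bc9a9d29b9790d24cfec98f47bc0ea60a9e64032bce16433d95b1f7b0a21fcb3b3ead3c56fe9d978a1db4ee3bbe0904f6658efc5bedad94d69b4ade187f46db9ee8dcff96be8766d28a74b40ff03db060753fbe49520f2949d5158ea2c5d284a105f570a0b9b0eb3d31edc7b888b361b31ca5290c5d67c070d20ec53b4e65a29b6c34081ae2635ed2d58b521420af05ccaf73bec1de917ddbc78338d9c53b98c9f06bfc83d89c186863befc27e73ff9d1461163ad948e652d71fb3fc0f98c97f88d75baa11ea0606c525490f58f686b8c287930c7b99a52ab9af6c367a8ef3cfcff3ef50266e789fee2e810047cf7c55ea87ab0fe342cf12b10600f1e969903daba462096dfa687e45a6c86cc26c266523e150ad2b0c2b25435f4735d09a893b8ef799f94ac354058a439a1ff6c2ee52f18f90fdab5934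

/-- matrix -/
def f31P : ℕ := 0xa2666c8e377f21637a0dd5f93bef3b0782d2c02116643ca69a0a434c3082e4b8347787b4b2f314890984625b4f3318c5aa21b6399c27ef9106ecb44784227f3c19b4021de4ff10c83700b6d0cc4a0356628298a941b524ebffb45143c4ffff91916050b07e470e7111b0e42c67e85ec7005e7ba52f59abe8174c9f8bd52540232f3352b11389f90ec7be675e078f301e3d6ed8dafeb3e75d0f1074a79b2fdcf5a54635b7dcce3514002c0145edf13fbb4608b81fc20d25c70a477544bd6571851339924f45dc26a7439712a731c86be1514d36f97115326528497cdbd93bbbfa247d857e01250be757f026b5cc8575247956685ff2ee89c0e862e44a74f67c9d48cce463f471bf14c96a0648d446e9a6e23c264d74344c1c07eb30710cc19bc251677e3957436110d55f762c70aca6bca539f44a54b72a889d1d682f2b35e375a10175302fea9027ebec42f32fb146f0206ed1f131365300c4a4382322347049ffbfaff92a75d14d1b1ecbb704116991648d3bbda43eab9b9f4300b0c7aaa4ed0a1b605fbf874f3b42e01194da1d9d5e5a6692a5f285411b99a050b79b8daf87e6ca5d8a020a9ee2112edacc3e76c72882be66089271d8c8a12427e8fe77d81e070fe5bb89861e5796ed807dd98c74586a2150130f40196dc2d36e0b77fdfdb3cc4e3fa9aa4ea7f1a08a1236e615a5d07fa996c7193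545e345f5294f3bb813e9d83a9771500e323821d4f5c752071c6693ee73cb24f9d072b5346745a5f4f63284e7174a54347a8168ec881053e56de8175103f05cfa66c83a8b808284b627487de82aaad212bff3bcc67bbe74f88361b45ba04245d6987bc7d775005d523afe8ab1cb5c3af8c4b651fe13d5cd35d900c5ca614d1782471a8515823188b09022f1c3432a245c0816efa500c9f088ad2e056a654f8dc227b9b1781bcf96b8cb23728a6d49826e49eee5f43b04125842ebf44c0f8c9f1b3392a00b61765584473332d870ee9f51c413b87e443ad9d00f75a4aa4e435d7f7aad635fe998272a006c86dda874baa637ac929887e6deb458d9f839337344f2b1bd6b74daecc5c3c98bb56f128abfafd7294a87107c3a00507511997c6aa8ee0773593ea78549cd303cbe945eaa6277bc32c3163b8630682b29dae94cce3280ea0ce5fc1197552d982644f7a4103893b17c71a30d306d982cc6ae3b502d8b5570b8f7e4b3e1dc71022c38dedd2e16af7a90fba92c0fedfc288759e84566ece54d16c16f258a7b69b63362174d85caad7bec90d5b1136ed42459117c7a096259ca110a9026ac035a66e74df7e5a08561ede82f0602e3a2f52c4b353e3a1bfa3ba3a5603a02a89b7438967df3ac4653d836aa2e5338c263a16fa0eda19926224ee396a298062c07176abdb6ce23cbd7b94e98bd76b9913e1c528642552594df2b05e6dc9e3e39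145d32153f6db27680dd4b5e7ba223d4318949c1d12fc7067baf05b404f06189c2cc045050a12b1ffa0bf93d26b67826161eeeac902a7d417074645f8bf6f274845ed7ed4e7d9c3a757ee7c9b50cf8b40eb81549c7ee03d06be279c5ddc96883f9278de37634457e8548b7da89b3c3b961db0700e2c0e55e8960df27decbc39256ce7a3c1a1502885aaace0040ef708a87b6fc5616a15e3c784fe6d27057abe33ec2056316fb78e69e9022444e24dcfc2a7e335235272125208cbf7a8f1127eef4fc8a02664c079a2b3e75f3320019ad6c6a027c322fb29bd0b65c132099e802da4c70bfa8158ef258291328917fdf8b15d3d631a3d6026188c48db4cf65123bdac23982abf18dc525863372276f03aa5a161117201cdd15619671f3ae663927943f6cec1cac2ff957c79c7d5d340e5491209d631b14511b0575aeb54d6ef820090f8ad1121fcf713594ab0a6ad514ab4d69751fcc921a4b5b91e03e98d815fa766c68410bb03b6263e7808f62fe032f1f648c31fb72f6a98bacc7aa50753dca38b137f0fa60b80ff6b050152be2eedafec409dfe4793c3140043699b848f64f14205f934e6d13b65c1aa0eb608f2924cd761ad8759b0ef505b7fb14024578db2d70157c718e87e4040822894a86fa4631211466fc3d6f9a3a23b5f6d00607918d996ca2be7c8279c67bb09721205016c9f8d69617ca45edd8c402f9b180fe8d00efdc2e49d8997c13425b658ad7024bb0858146b93e731778ad7019cac87bed27870959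

/-- matrix -/
def f31R : ℕ := 0x94d9228f68f8eaf67c121e0410e5151d1066af000b8abc59e4ca13d00c57b12ba3aef297e163c7aaaf4210e2362ad1c45eabdf40cf2dcbf751331a0a1b985ca60fc3817ba4123271d351fbcb7b06860059ffbcf3296a82efe1064c51c70236fc35221a927ba46ddc9961bc3b2158c7db324c7fb38d38553b283f68b600f42dad4f50eac917f8be4a1157bedb07602f9d6549ee9f1b313a74769037ee825a98fa3171f234afabfa8410116d185c58efa1537118b4c4f4287ee717cd78bcac05583df91fdb2511c78984d9eed086791e462ddb1ef2683703c37c2afaa91d9dd0cc39ade411d5e47c298481aeaedc0135d38175a59603884b59e8675e8013bb1e74c185806164445eaba13617f11d58ce43e1ff7d791db20ec90b496db87211b5bc55ee1b44257a19410dba65793124b97bbe06ac0e107a49a1b72dc59906ec5ea873da1324df6f72aa8ebd4cdd3122b75d2ac81c8900d24b590d868fb803482bd3bd26fef1bc722cde13f8b25e1302c6333a20f47c611e10df72641c71cd450e7d224d1b73aade2eac3486d72ba3b4ff509c1ab494789431203ea0e744829c2365e106478d3503ac5899553e3639fe090b86831995df519edf715aa13ee909f1f9343570ffb477ccce052686838a0f3d7071253fa6ecef75a04fae8c99236f0a8adefdee8f2fe0a32b0b7f26badeee4cd829f7448e547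b59db388720177fa36a0b81d062ba1f7812f79b1f80d12d52ac557703ee33149cc95e8452d7d26fd02397275813c26237046affc338d71a3fdfd4380911e52227633fa51e7d3b491e307667e174d6f6789900d593e94c2cd033ebd37de0f278cae5ee634e0c8b816c46acfedd9e30c6a75fe4359fccd367992a87f30012bb9aa31b6a93de01c9300b58ef303b77663fffecfe81609af2f982aec655750519ea3c4cb1e187c67dd762c98d17b3881a5c2af3b773190d715b2c33d7f0700f6510d555f046575e1e038b21b071444a6dc260aec3a61437fa6b797dbaced5168557c8ca8f1221e8513f67d427b475a2c73bb93abfc2c6e55bec51187de11ff22d34db8946485bce78f413713d3ad62aabe5367883f1cc9bd04f1657f62817830580dc4260349e3d254f4a1b2590d144a71561d9497f9ac521172a24ea4af62e7135893a73206d36c75402c718028e898a9903f56c38362e64ea745ea241d9f1f3a41439ce405be892e3f17ee6e6fde45f336f604f61bfd6c7c7fdc17cc584101b5222c090fdd1acf0ccfae3850056566b6667fbb3f4d0160509fd151b4139db86a050d3ab01ce16e00c7d3753b7dbf33631142673a0572f0951f5dc4b84813a284ad8e4793c75639d7df80e5013d69361bcce2cd6b19e884067692d36a3b09d0d3b0d832a67a3df93c9da216a8ce920e9f8c090ffcd215c0493352dc9156d82e92fd47c9314baab83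205b0c51e28e3f58d3369901e30a3c643652dab35f438317ed0aa98f7ae13886a96892a0cd8807ee340cd1bf10b6875fa988a92c08efb5c86b46235fc827741b23d612f964764da432b18ddf5eb73cbe5fdf21406b860f31c73ff8f65a5b45e86ebe3aa1104c3919f11653db529de9278b5838ba146108f60862d1075e73f2db3dab326a93f2ce667432586b937226b8112a8f2356757979f94fe00a0cbbbbe375b3542d790207992dda342fb9b6d85039a0890b2acae6b31718becd69a8838ddc5a7ab7e98935de673ec24e36cf5193144799422428b00b71bdc6456a06915006433d082ba64ba6142909d6f8fc9a9d15b9790d24cfec98f47bc0ca60a9324032bce16433d95b1f7b1a21fc1bb3ead3c56fe9d978a1db46e3bb30904f6658efc5bedad94d6db4ad3187f46db9ee8dcff96be8746d28134b40ff03db060753fbe49420f2089d5158ea2c5d284a105f578a0b0f0eb3d31edc7b888b361b318a5208c5d67c070d20ec53b4e65a09b6234081ae2635ed2d58b521421af02ccaf73bec1de917ddbc7833859c2bb98c9f06bfc83d89c186863fef227e73ff9d1461163ad948e650d70fb3fc0f98c97f88d75baa11eb0602c525490f58f686b8c287930cfb0da52ab9af6c367a8ef3cfcff3af28266e789fee2e810047cf7c55ca03ab0fe342cf12b10600f1e969801daba462096dfa687e45a6c86cca34266523e150ad2b0c2b25435f4319d09a893b8ef799f94ac3540588239a1ff6c2ee52f18f90fdab5935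

/-- matrix -/
def f31Q : ℕ := 0x80000000000000000000000000002000000000000000000000000000900000000000000000000000000008000000000000000000000000000400000000000000000000000000400000000000000000000000000082000000000000000000000000000100000000000000000000000000808000000000000000000000000000400000000000000000000000008020000000000000000000000000801000000000000000000000000080080000000000000000000000004004000000000000000000000000c0020000000000000000000000000001000000000000000000000000c0008000000000000000000000004000400000000000000000000000800020000000000000000000000080001000000000000000000000004000080000000000000000000000c0000400000000000000000000004000020000000000000000000000c00001000000000000000000000080000080000000000000000000008000004000000000000000000000800000200000000000000000000080000010000000000000000000008000000800000000000000000000c0000004000000000000000000004000000200000000000000000000c0000001000000000000000000000000000080000000000000000000c0000000400000000000000000000000000020000000000000000000c0000000100000000000000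000000000000008000000000000000000c0000000040000000000000000008000000002000000000000000000400000000100000000000000000040000000008000000000000000004000000000400000000000000000c0000000002000000000000000004000000000100000000000000000c00000000008000000000000000080000000000400000000000000004000000000020000000000000000000000000001000000000000000080000000000080000000000000000000000000004000000000000000800000000000200000000000000000000000000010000000000000008000000000000800000000000000400000000000040000000000000080000000000002000000000000008000000000000100000000000000c00000000000008000000000000080000000000000400000000000004000000000000020000000000000c0000000000000100000000000000000000000000008000000000000c000000000000004000000000000c0000000000000020000000000004000000000000001000000000000c000000000000000800000000000800000000000000040000000000040000000000000002000000000004000000000000000100000000000800000000000000008000000000040000000000000000400000000008000000000000000020000000000c000000000000000010000000000000000000000000000800000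0000c0000000000000000040000000004000000000000000002000000000c000000000000000001000000000000000000000000000080000000040000000000000000004000000000000000000000000000200000000c0000000000000000001000000004000000000000000000080000000c00000000000000000004000000040000000000000000000200000004000000000000000000010000000c000000000000000000008000000800000000000000000000400000080000000000000000000020000004000000000000000000001000000800000000000000000000080000080000000000000000000004000000000000000000000000000200000400000000000000000000010000000000000000000000000000800004000000000000000000000040000c0000000000000000000000200000000000000000000000000010000c000000000000000000000008000c000000000000000000000004000000000000000000000000000200080000000000000000000000010000000000000000000000000000800c000000000000000000000000400000000000000000000000000020080000000000000000000000001008000000000000000000000000080c000000000000000000000000040c000000000000000000000000020c000000000000000000000000010c000000000000000000000000008800000000000000000000000000400000000000000000000000000024000000000000000000000000001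

/-- matrix -/
def f31S : ℕ := 0x800000000000000000000000000004000000000000000000000000004000000000000000000000000000a000000000000000000000000000100000000000000000000000000008000000000000000000000000008200000000000000000000000000010000000000000000000000000080800000000000000000000000000040000000000000000000000000802000000000000000000000000080100000000000000000000000008008000000000000000000000000040400000000000000000000000084020000000000000000000000000001000000000000000000000000840080000000000000000000000004004000000000000000000000008000200000000000000000000000800010000000000000000000000004000800000000000000000000008400040000000000000000000000040002000000000000000000000084000100000000000000000000008000008000000000000000000000800000400000000000000000000080000020000000000000000000008000001000000000000000000000800000080000000000000000000084000004000000000000000000000400000200000000000000000000840000010000000000000000000000000000800000000000000000008400000040000000000000000000000000002000000000000000000084000000100000000000000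00000000000000800000000000000000084000000040000000000000000008000000002000000000000000000040000000100000000000000000004000000008000000000000000000400000000400000000000000000840000000020000000000000000004000000001000000000000000008400000000080000000000000000800000000004000000000000000004000000000200000000000000000000000000010000000000000000800000000000800000000000000000000000000040000000000000008000000000002000000000000000000000000000100000000000000080000000000008000000000000000400000000000400000000000000800000000000020000000000000080000000000001000000000000008400000000000080000000000000800000000000004000000000000004000000000000200000000000008400000000000010000000000000000000000000000800000000000084000000000000040000000000008400000000000002000000000000040000000000000100000000000084000000000000008000000000008000000000000000400000000000040000000000000020000000000004000000000000001000000000008000000000000000080000000000040000000000000004000000000080000000000000000200000000008400000000000000010000000000000000000000000000800000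0000840000000000000000400000000004000000000000000020000000008400000000000000001000000000000000000000000000080000000004000000000000000004000000000000000000000000000200000000840000000000000000010000000004000000000000000000800000008400000000000000000040000000040000000000000000002000000004000000000000000000100000008400000000000000000008000000800000000000000000000400000080000000000000000000020000000400000000000000000001000000800000000000000000000080000080000000000000000000004000000000000000000000000000200000040000000000000000000010000000000000000000000000000800000400000000000000000000040000840000000000000000000002000000000000000000000000000100008400000000000000000000008000840000000000000000000000400000000000000000000000000020008000000000000000000000001000000000000000000000000000080084000000000000000000000004000000000000000000000000000200800000000000000000000000010080000000000000000000000000808400000000000000000000000040840000000000000000000000002084000000000000000000000000108400000000000000000000000008800000000000000000000000000400000000000000000000000000020400000000000000000000000001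

/-- matrix -/
def w31P : ℕ := 0x800145f7fa7a5b6f8fb6c4726f26400049c05bb1786e1af8f38d418e2003595dc8e61f3e62174eccec5910015abd4a5837ec3dd70a009b0c08000ec10e6eaaeda08d34b185f804028c05456e5d303699df936eea02005879713b86e57dcfbb8306a00100036a3c0501b3705c66bd7d2b008341382e05894946158b86d6d10041dc7cea51aeead09d0bed4ab80022c4ed0487558bacff0829607b00124468024b4cd1d3289c310f26000bc8f1fdf556d3f0988321a08c0004c0c1d96553aba6cb31f42a9000003a3b018d71f3c5490c3bfb930001d1d5d35a34ec4573a5eb029d0002583019e83a346a3abcebbcf20003c3ab666314e5cc6ebe594062000141d7dd8c891e5f1fa9b6a78300008380a4ed8a0e3a966c7191de0003c4d4eb6097df17d17e7bc97200000809d3f1ee3d1bf4d7da5bb700015bbc2b9a4712013e36be86c90000dea98280f2fb1608b60122ba0001544226471a59bc01087528d60002d29fe0de082dfd046bda4c870000c04d63a66b7230eef6394f2b00035ba58e7baf75a7f29dd1e6160003406dc441f73fdcad72115215000317c43f6618aac09b6064c9ad00019411abc603f7fcc3e3c469af000047190511f345caf991c692ee0000594184ecc897e0ca5f3f5aa70001442ee09d6da5a73d740a274100024d65720bac343592a3c72c340000cc2704aec49567ca72c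e9d420001d54b558e7c922fcb747d1dce000313e801ceb57ce2df23f335a7000188be7776646b8790aa857b7200005a3ff52d3db8cbb6e11d498800000b923aa4c64052aa3135df180000023600778e31484f869f5a03000184fcc70e4e736177f40c924f00011ebde41972e6d5c9d81c30bc000302cc271abb1f1b9d895e1db80000d58fb2fcf05a9faf9eaed6ac0002dcb746b896e72db5913114740002d99064a8fb9ea1a4ea58df6c00035763c5adbd103187c70eaa970001461f97962d5094b925ac1e500003dc2904a440a9189ed2592cf2000380b8c92828510bf092f6d0a20000d47fc7534966c724aeb7dc520003c7ca9c3179c8eb7704f32036000302e507c8571b307f64eaad7200031dddfdae70d7cbd8469cdc5c000094c56face2d51c1d1c6a75570002c300579a923ee001c31c83e10001dfbaba3db6037ed85e04dde800000ecdb8fdbb50039af647f9f600034ce6a2e126d8490edcac036d000003f045bbf9545251b2d9bedd000010df770a81a766ba4a4f7ea90003050b5145c3f75b2fef4d1d0d0002123c2859b363fce53796676600029486efee73c0562e1fac661d000155df0270a7d47e93462804f100035afa9e987dab2f32afc629d80000037ad24d45a250595e1db566000216ba9fb33699ff4bc060742b00038a920182b09e548a8ed1ab6d0003d134b9a3bafba98311ef10710000cec9113aa937fab0b246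6bb90003065a23dee6969cb8f046025a00011ccf3b0c2f5d81d049e3302d0003ddb9458afd6c39beb538c1cb0003526393d49fa40c012e7c451000039d112d56a2029726e639f7180002c65fd1ad6b7dab4f1239af4900018bdc97ba062a40709fb127a40003dfc720de25ed878bc632e12a00025a463bf15fb86dff7dac89c400038a4b0cbfcb38d4624a2a8836000112445deb858ff0b0bc18540c00009355d9fa2584f69e3543498300029bf6fedc7a6c5ab5f7c4abde0001c0b4b6d84e00c8765b1c5d310001c5aa0700f12efa457fade9e70002c34b77acedb9d3744c23e39d0001cee1f60b92b3cca1caab2fa30000d319f86df35ed674b840bd0f0001c2174626ed515c481dadd7060000931b1fd22efa8e027fb59bb80001cd20017a8953db9a422f9f14000057e838305a3794a5d8f6ad2b0000dccdc949a543e24b249a4c270001d3c7b919011d40651905dd69000152d8a13322d78544690c38750000d1b8953a1b225050244243d200038ebb0bb678918fad7a2078c20000474273f63809456bbbf14d410001028d3f379c9e8fa186ef6f6b000300819fd4c6bfa38d95a3bd5d00011862b6e946d58aafb8a5c7ea0002873cfcf4d7e2520d5bf20edd00031414908a2e44212fb5fe9d990000c8f0c738eb17e913dcd8eca7000049d86a302b439ba6129c8f3900020de5280c67ad860c196ec49a00010f39e51ace80262fff6cdd24000053d44c79bb53443076c9b563000117b3d58a4c7d1853a2bb79f9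

/-- matrix -/
def w31R : ℕ := 0x8000aa3f43ca48b59fbac4745b0a40012af76b83e4dfcb9a0ffda5032000211fad9ddc7470201dc6bbf11000177f2a12250634a7fcfc64c00800022dce4b779ce06ab3b96b740400027caeef81cca85f4dd2957a020077debe886bb0f237589b81ad01006cf7fe5ab2c53fadf2f02d0f00812a6e9ed025e734ee90e9207100419c1717af570cf2adcd1d4f5700202d8b5f923268a25d955bb15100104a84b4365e9b45f2b2a4fb43000998969926222107c5d329dc9000055ee5e984072c41143357975e00016f8e6fce9a2d59b737c924540001c8f883fd73da9dc205944cd50001c32a653f0b5d5dd19223b0540001d40acb73114891635966e6330003c9d5550060a282f4369135810000c60d08b03b06a429cc746e2800019d0eca1f13dbc2255a96e75e0000e927911f4102299e81d84c180001bda56c577beb812f77d4c6b90001d340322824b3f475a7fa76b40000b8a254f438ff9f1845df5c910000b62abe24e076ea21a7cc77260001e906e700f4aa33c3372bfb5a00003b56ecb7f7b41ba3a7b8164c00014a5a713601165d46e663770a0001774f59a4e0ebbd50863e749d0001b6a1b4b4ce41a07e02fa85cb000014095d24195b5d7d6ce73d21000185cb0b0ef2e03ebafb696b790000eb212d5126aa1121714acc7f0000eb0e783d351e57e02756a769000028faba567c5ef4bd70d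56557000148dce66e38f34147a2622983000038b661d4a2e0c41c1e229aa20000636f3fd42c08855104adad3100012befd16f4c879fdcaa036d2600013a02b6ff7f76739aa3d181d500001a2641a63abf7b66ea96e91e00005d3a9b72fde08686a83c37c3000044d6b123b74615f1b3b2b19100014affe8241cba41ce3bac77350001a92d85896891dbde450c3e610001ab23183be17d542a8b6a6c8100010e103d8906a3da5305cfc675000124cc1905f880a909a696063e00000655ed81f4ccc10683da53f80001c17005eb69decd5bcec14753000159d8b0b8c7f4be9617652bcf0001fcf15269612ce123731c7d4500017aec532cc9436bc5d8a071f8000010726360fada909566b84b010000d0d3c4d8c51c1f37fb31134f0000f09cc2d406eef329ecd322940001fb76487d4f41f358660f614c0001116e7a0c123d072e879c75b60001de7c0182b7f7b8ffecc30371000170c9051dd776db13b38171a20001721bead0a6073dcec80d95dc0001428d72f60b1ecc9a0a1c854f0001216e3b07b97f5a4d2657be4000007a9400ac1d720efc0bfadf010000b41063318b322b6e3ae4e77d0000abdb781fd88ba2ac41068e56000139d04bd9c99e28eddead2b980000e906c57341b8b29d3d54b21b00005bc0f0427037f10f7b1d388b00007ca865aa24673b9787ff238700001103965cec042a8899ac7810000172833c6f09f8a122f805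978400018bc9e08c0642959e9899b2cb00006e38333bf75b9fd95eee80bb0001e7556b14b70a038e1eebab3b0001cbe18b766f3cb0c9b74662c60001de25587bc1fdf7efd2202fe800007f9370370906ba884273e4a900006e0bb96097e6f33e4ba3c8460000065ea2aa20709ac6a8b9d5b00000be21fd59710e96d7c3c6d5ab00014f06427e182543aaa3dd1eb200013fd7924bf0d345498cab91fa00018622d3ce67512976f5800994000177cc767126ceeee89d2eea970001a4dddce51923e32d67bb44b90000c91baa60a7ff06c0ed18eb8f00008a809732981303a97818bc1b0001536a234abd1d46bb096f83890000a081f48b6f85034566b641a000019b1ae79390f0c22f09dcdaaf0000a0d1e22a29e36238e13464720000e8e5d43fbf1d739301181e1b0001c34a23e25bbc695b11925aca0000e2eb1a41ca9abb47ec86e37400008d7b16495e56fc38ff78247c0001582c9bc35e2186b3141d7aae00000b0af107dd803ce2f3f3aa4a0001314a1c3978203ca01b0fe9fd00001f50506893063df1fcdc42a3000158f9c79ac8f4c337465e275f0000402a2e3d9e57d04921e7ffee00002c80b504a578cbae233700a00000769fa8b055d4ce0d266de6340000a3485cd36c161ba3736ef4ff00011089f20dd7222aa6b9a914f50000bf176a2414795657c671442b0001f26a4e4fbdfb4a5ad6684dee0001bfd96241605e55cf7c6354070001450625f50bc973bbb2cb19740001f1c98d32d35feceed205c7de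

/-- matrix -/
def w31Q : ℕ := 0x80000000000000000000000000004000000000000000000000000000200000000000000000000000000010000000000000000000000000000800000000000000000000000000040000000000000000000000000002000000000000000000000000000100000000000000000000000000008000000000000000000000000000400000000000000000000000000020000000000000000000000000001000000000000000000000000000080000000000000000000000000004000000000000000000000000000200000000000000000000000071fd000000000000000000000000f1f08000000000000000000000006292400000000000000000000000ee5c200000000000000000000000305e1000000000000000000000008b240800000000000000000000000ac2040000000000000000000000221602000000000000000000000042940100000000000000000000009dc400800000000000000000000076c6004000000000000000000000ba540020000000000000000000000ccc0010000000000000000000009136000800000000000000000000835e0004000000000000000000000ac20002000000000000000000008d9800010000000000000000000034000000800000000000000000009f400000400000000000000000006af6000020000000000000000000f8ee0000100000000000000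00000d8e8000008000000000000000000e21e00000400000000000000000003ae0000020000000000000000004b100000010000000000000000009c00000000800000000000000000b12a000000400000000000000000d6b4000000200000000000000000677e0000001000000000000000003e82000000080000000000000000416e000000040000000000000000c7cc000000020000000000000000d782000000010000000000000000b298000000008000000000000000bd7c0000000040000000000000004d280000000020000000000000003c7a0000000010000000000000003e48000000000800000000000000b3fa000000000400000000000000de9400000000020000000000000020a60000000001000000000000001cac000000000080000000000000598c000000000040000000000000df1a000000000020000000000000c1f6000000000010000000000000180200000000000800000000000089b2000000000004000000000000047a000000000002000000000000b8100000000000010000000000002e0c000000000000800000000000cf600000000000004000000000002f56000000000000200000000000176200000000000010000000000018d600000000000008000000000024cc0000000000000400000000002dfc000000000000020000000000ad64000000000000010000000000fb0800000000000000800000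000039660000000000000040000000007f3c00000000000000200000000079020000000000000010000000004f3600000000000000080000000087fc000000000000000400000000c3520000000000000002000000001d6e00000000000000010000000036100000000000000000800000001f36000000000000000040000000a908000000000000000020000000253a00000000000000001000000065e20000000000000000080000008c2e0000000000000000040000007b400000000000000000020000007c2c0000000000000000010000009e24000000000000000000800000757600000000000000000040000077cc0000000000000000002000006dd4000000000000000000100000bc020000000000000000000800001e000000000000000000000400001630000000000000000000020000cba8000000000000000000010000b7040000000000000000000080004b6e0000000000000000000040008df40000000000000000000020004af4000000000000000000001000c884000000000000000000000800ada0000000000000000000000400b2f0000000000000000000000200f2480000000000000000000001006bec0000000000000000000000806f30000000000000000000000040810c00000000000000000000002064a00000000000000000000000100cdc0000000000000000000000088b62000000000000000000000004c444000000000000000000000002ce9a000000000000000000000001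

/-- matrix -/
def w31S : ℕ := 0x80000000000000000000000000004000000000000000000000000000200000000000000000000000000010000000000000000000000000000800000000000000000000000000040000000000000000000000000002000000000000000000000000000100000000000000000000000000008000000000000000000000000000400000000000000000000000000020000000000000000000000000001000000000000000000000000000080000000000000000000000000004000000000000000000000000000200000000000000000000000071fd000000000000000000000000f1f08000000000000000000000006292400000000000000000000000ee5c200000000000000000000000305e1000000000000000000000008b240800000000000000000000000ac2040000000000000000000000221602000000000000000000000042940100000000000000000000009dc400800000000000000000000076c6004000000000000000000000ba540020000000000000000000000ccc0010000000000000000000009136000800000000000000000000835e0004000000000000000000000ac20002000000000000000000008d9800010000000000000000000034000000800000000000000000009f400000400000000000000000006af6000020000000000000000000f8ee0000100000000000000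00000d8e8000008000000000000000000e21e00000400000000000000000003ae0000020000000000000000004b100000010000000000000000009c00000000800000000000000000b12a000000400000000000000000d6b4000000200000000000000000677e0000001000000000000000003e82000000080000000000000000416e000000040000000000000000c7cc000000020000000000000000d782000000010000000000000000b298000000008000000000000000bd7c0000000040000000000000004d280000000020000000000000003c7a0000000010000000000000003e48000000000800000000000000b3fa000000000400000000000000de9400000000020000000000000020a60000000001000000000000001cac000000000080000000000000598c000000000040000000000000df1a000000000020000000000000c1f6000000000010000000000000180200000000000800000000000089b2000000000004000000000000047a000000000002000000000000b8100000000000010000000000002e0c000000000000800000000000cf600000000000004000000000002f56000000000000200000000000176200000000000010000000000018d600000000000008000000000024cc0000000000000400000000002dfc000000000000020000000000ad64000000000000010000000000fb0800000000000000800000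000039660000000000000040000000007f3c00000000000000200000000079020000000000000010000000004f3600000000000000080000000087fc000000000000000400000000c3520000000000000002000000001d6e00000000000000010000000036100000000000000000800000001f36000000000000000040000000a908000000000000000020000000253a00000000000000001000000065e20000000000000000080000008c2e0000000000000000040000007b400000000000000000020000007c2c0000000000000000010000009e24000000000000000000800000757600000000000000000040000077cc0000000000000000002000006dd4000000000000000000100000bc020000000000000000000800001e000000000000000000000400001630000000000000000000020000cba8000000000000000000010000b7040000000000000000000080004b6e0000000000000000000040008df40000000000000000000020004af4000000000000000000001000c884000000000000000000000800ada0000000000000000000000400b2f0000000000000000000000200f2480000000000000000000001006bec0000000000000000000000806f30000000000000000000000040810c00000000000000000000002064a00000000000000000000000100cdc0000000000000000000000088b62000000000000000000000004c444000000000000000000000002ce9a000000000000000000000001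

/-- matrix -/
def B29 : ℕ := 0x315789699ff8f6b87873169ca8d9503c384280caf657dcc1f2e14acd9c821b5238537a83c525387e89047cc9d3dd6c94457f6e5eed0dcb3ca58c26f41f61e250e84628da67ddd25c6457f558bd7d6ecebb7ddeea9b296fa9fc38fde0bdef76ebf1b6bb514c671e2a40d8875a891b6eb5f0ac408d4ec563a460ccf432db5e0eb626750b921f17dbf1563e15eb177f427b0d428af7a1c622a9cedfbf348342efa74f14d6a1a971bfaa2de4eccd27dc7e8ab508c939f8acad99a714dd9a183c127a3d35859ecbb139019b56caf69d26813d42424ac12c2011e98a5b2fed2e4406599005946b2b693a2d81fd0e1094e281e0a9a36be50d063ae2c0f33af19542d94aabc50a9fdd7e6514638e945d7a473dffa600fe4fff158257ff48735dfd4df3aa78ded555aa0fefba8cd025396bfd2f3ddf9a36997966a6cba7b5681974310b7ba99801dc7f6f21453cadaf3ba58ad5b15b9b4a24e710ce4041235c32d222b9787847b93641b8dc01cd121c3ddecf22332d2e52620a900ad54fac3b40112f7c600b7848a7bb445d0ff1c05db7620a57193340a8f45d22e06f256239110594d74416f50909e1fb356dac274f2e4d4115162e1e71e17f786a92e6d98bfecc0959cf1ee9cff6729a4d480292431bd6cb6d47e2682059e7a28bb997b592eaa8ce0a98abfd80ae1e1dcd0b35f568919d25df2ef05b5cd5f612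bf897a2bcfbd370cae50f0bb653fbba8838bfb616bc05a21926f26d17433e6a38b5c5931fe6727d5b240296969fbaf1624597c5d21bd3d5a458b4cd6713181c5cca0e3f4d4b256face0f456ef64b7c3eb31d33901f8d0ae8b4eda3ca323b2e26bef33e82cc5f6fba69e0b6f0d08cc5f093082c1e23f316f529103a60e57f9475c838ee2100429c7b0682d83d24ae6a18101f635e18421161ad6e16f8be472631c48d48007ee736f650285be5dfc616b60f2c809937a09085d2339ad0b6b40353d22c5b176ca7d58dc92cb3a15a119ec1c680c26a8424d8aabad22db1160d98954864c8ec9a723eb9487e5faddb5155a518c3587d18b549d232ff289ced6983278e2a5097259f466b3a53e043ec2c97e8fe8de3eb78bbf581451b6c8453aecd7c854bf675c848da480ed2dfc33fd86d1a3b4f3dd76a048283a2a340a74a07037cf4f47373bd5ff0dea8cfcda2186ec9c04918e3c359f57617f98c7aded319b379758d434c9df686c428138b3a33795f0995a410ecc953b899aab91e72c39ae73ab4d2d3f0663b3ab61922bd30165c9ffec1fd92029ee74a158828d8f63474871fa6808054bc2d5fd95b81f62b31b31d2be0cdec04207fdba1e8558fc6ae0e69dedf83ca7d4b62a91f94f30322b4a6bc56995a43adcb2058e7234f0837f74360cf59b908ebaae4e92307275d0962c727d44d4c9fdacdf89431af5d089fb51891c36d9bd5e000ec8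dddbc40bb1327f0d1400f92becb3ec848ce6ff80b2f625a739b50fc24f9029ee445f049c27389d31c3451eebd2fe6fcd80a08df1323a95b1e4652d1481094f74a07750a6b05fd3bd072a7aaabf8c97494b5a4d2eb1b23d242734a83aaf5d141268c2f22b064f0afbce19562e6d4b07ca50a7e8ef08c7f33675f11525234eafa46f50207e90bd6144fcfc263f5bd7ffbbaca7c86314c914d455552de533041593e7c6ad79a53cfeacb74d1f24f0eaf6ce460a01fd9d77dea48ac22ac65b87585586c55fc3e9aa79dfc93502f5c5dc0c2ce69cac9a3be7e2a6e538de93f14549e1a09f3d2563ff57fd26a607a4bf44e8640d27a729458d39b620e7e2edc3e11d01105d0127e23a309e65dd4d016c1ecc8fa9d9a6278f5ffff7efe304bfc26a224cf99f2a23fac378f71af2b83eece4b0570f4ad323e3696a9434a52d5204847e914a609c97d6450c7c76328567571b2312915440817a802f363a101f56c550af92b62b40f92dd5d33b7a84e565685fbabe9b402f2692f7bf4927fba24517c484d3a796182a90b8b761c48e7b26178b734dd5229c44f980cb6a2a5a7a90def41eee9f277c539698456cf31dde0318631e5c3e98fccc65cfdffc70771d88be5340df5bedb1e9280209dd7de119c8cb30730d04a0bd26a748739a3686d0c72c719991191a67d690140fd2ab20072a0e004760fefb6ee918c3a1778e0b18deba35acc53885fbda9406aef76c6a87dc4feb5e309326b21ee71ee57e0859fa27f3814663b35e52e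

/-- matrix -/
def f29P : ℕ := 0x9c8001d83c2bebdcea88f7d6c07c1eceeb9234062a27555688da356d07540054a928315cf85126b41cf728f571430a82784ceb8d7eae1133549621f69dcf87983a8404ec1fb58e18008a21d69f146adff465de8d171f2191837a99bb8249c0d7bea8eaa34fa07c7e09d494d85b028899a015f2461e0efb6b49b89424cee88a0d6aedce9bfdc937ca4289e54408d22ffbf09f7bd48971c62ce2282d9b0fc5970a46b882818166598d1f49db7dd8ab210c2f2b8f6f3d9fcc38f78cd842af1c118deb867e55ed284657c58abdef372b37c0e3e0974cf1aa1198f91432e9865db9fcad948e7fb9139b59d480fab9f72a03e59d42f1729dacd28e1d990bbc45dd5f647b5bff0b1f19af976b4ef3f4c6aa63727bf61e76e497756e4d40f5c18390e5c10ebc551cf63cd722b2c0b4122ba7673266ff762ad08b25fa339085e4a2744c94293eb1509c67358cfe372b343aa12745010a46f3881284b772c61e841753de147cd501becbe71202d4d6a09a5a073462d80fd50ac45bdde217f56b6895e3dc3b8e51cf40656c7a1f48e0b4f55ebea13d8ac410ed6dbaedd6c2bf22171a223a319b6011e1e8db1c6de00d3f9b0910ae2e9c3efd9421f2333c927b7017199eb42dedd49124c267daf465b9fb93b7ee3005c904103ca9f7a8dda211025ea2ab25f61172d84e25810967a840480f9602fe3d153f11775a5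16dd3a726bab6fd86c269accbd7988cb13d0a1a65ebc3f0a4ac48635b7568c48a21833ccc20161d4a008f7e866e22fb7415f7a407259df71e70f4995ebfaace54b465b42920db995b09cbfa2d591953e03404b4ef4fdc26594db019a865ab56878abed8c0894193ee5291f205ed018a9035824b1bfb25a4d2dab636a7e5d55d897a81aa2c6e4173f7eebeb58aea369e3a0a67b848215495849c9fcdb59091731569ab1d3d95f9f468ae11aa9a1f83b5d3db286b40cedc0c5283e23fb74c9e1a3bba7ecd1f930b8411d0b00b919454958469fea8502aeaf040310f096c1c60ac08ca2251385f4e9386aa4d1432c2925802cfd299e44ffcf441d4f8ec08048c39f53a0688016451588af6a1a8832362c80c4c884933a384caf447b64c2d1a61778f64457b7065cbc27efbd4c1c676e85470ca97fb362702db223364575e8d3c451e8566e45ec7d652db3b7834e5466e6671f4897fdc25a184e145fbb89c440a27a8fd6fd4236135b4763bc6066b4c91869873abcd37a5738f082a02db229bc5168e68e7a5bb19828f636081091c3b81daed34f8ce51866737b169e8abd80964ed2e59c6967f22c23331830b57110c73eee65866b58c9196df68a33e196e520e4402d442b7869388407705de7250bc7f3e4cf4b9f7d92a963a6e0fba819f06b5e7f5baf0488f2b56d53879eb54c6f990de293bebe637e7d5e0404b047769807988891d36378df49e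0c6999e7833796a8aeddaca55061656d33fd06d910db6192403189eee4cc999f0b61a7597aef3bf8f2fd763d2ef37b75578284bae2a90debc781886594b77d7e2d6022aacb501891c12c4e637f8abde20a79e221c42c409d0c1d2d2118575f231663d974ad1afc3281a2baf9008f5893936971134f1a26b31fe59163fa67bdb3256a4fa45c34f2faed63a8f4bd4e0458b8a014bb2b139903c421e49971647ba6d967b9fd2ff1f2a3a8f02e91e2bbc2f456c81556fb5cb25fb49b8ff05c2ff8f7cbad36379f89877be792df5a831b9087b9cf425d8ca70d72ba497706fbebf499ea14c639bc902bd11ab98bfd8054bc873f134d880d34b992d66e25cebd5d3627b32934eafbbcd882a906679c43ace2483b5b64ec899f0cf9655f677d835eafa618d3b5154b52128093bed69df1fe73b42b668c2de22ef94685d31fa2e6a87e9e94686215cfb4d193d7f1b6c45e3eada6eae873ee834ab7469729be6890a7989d87b78acfc9e5e03a3997de4af2ec810ff0e20a8eeef46890aa72405cb1877873a0bcf686180842c9ef53e08991d4658801fb77b466d7ae2197fb22c22cd9795a211fb141d90ec226c1046be028ed31f41eb3543748c1ea939883f91e0284cb4ac1bf572622b166b4df17aebc48735526587b9af2d29d5be45cb04dc90542a9356b68d03141c6b71d71f5fa254b424d5dfaab24282b8fd3f7c9c153a4b0912c29d286b5378777ec102bb8e7f0672d61adda3a27af22a6dd29afa4d960aa9246f09f588e43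

/-- matrix -/
def f29R : ℕ := 0xb15789699ff8f6b87873169ca8d9103c384280caf657dcc1f2e14acdbc821b5238537a83c525387e89046cc9d3dd6c94457f6e5eed0dcb3cad8c26f41f61e250e84628da67ddd65c6457f558bd7d6ecebb7ddeea99296fa9fc38fde0bdef76ebf1b6ba514c671e2a40d8875a891b6eb5f02c408d4ec563a460ccf432db5e0ef626750b921f17dbf1563e15eb175f427b0d428af7a1c622a9cedfbf248342efa74f14d6a1a971bfaa2dececcd27dc7e8ab508c939f8acad9da714dd9a183c127a3d35859ecbb339019b56caf69d26813d42424ac02c2011e98a5b2fed2e4406599005146b2b693a2d81fd0e1094e281e0e9a36be50d063ae2c0f33af19542f94aabc50a9fdd7e6514638e945d6a473dffa600fe4fff158257ff487b5dfd4df3aa78ded555aa0fefba88d025396bfd2f3ddf9a36997966a4cba7b5681974310b7ba99801dc7e6f21453cadaf3ba58ad5b15b9b4aa4e710ce4041235c32d222b9787807b93641b8dc01cd121c3ddecf22132d2e52620a900ad54fac3b40113f7c600b7848a7bb445d0ff1c05dbf620a57193340a8f45d22e06f256639110594d74416f50909e1fb356fac274f2e4d4115162e1e71e17f796a92e6d98bfecc0959cf1ee9cff6f29a4d480292431bd6cb6d47e2686059e7a28bb997b592eaa8ce0a988bfd80ae1e1dcd0b35f568919d25cf2ef05b5cd5f61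2bf897a2bcfbd3f0cae50f0bb653fbba8838bfb616fc05a21926f26d17433e6a38b5c5b31fe6727d5b240296969fbaf1625597c5d21bd3d5a458b4cd671318145cca0e3f4d4b256face0f456ef60b7c3eb31d33901f8d0ae8b4eda3ea323b2e26bef33e82cc5f6fba69f0b6f0d08cc5f093082c1e23f316fd29103a60e57f9475c838ee2100469c7b0682d83d24ae6a18101f635c18421161ad6e16f8be472631c48c48007ee736f650285be5dfc616b68f2c809937a09085d2339ad0b6b44353d22c5b176ca7d58dc92cb3a17a119ec1c680c26a8424d8aabad23db1160d98954864c8ec9a723eb9407e5faddb5155a518c3587d18b54dd232ff289ced6983278e2a5097279f466b3a53e043ec2c97e8fe8de2eb78bbf581451b6c8453aecd7c85cbf675c848da480ed2dfc33fd86d5a3b4f3dd76a048283a2a340a74a27037cf4f47373bd5ff0dea8cfcdb2186ec9c04918e3c359f57617f9847aded319b379758d434c9df686c028138b3a33795f0995a410ecc951b899aab91e72c39ae73ab4d2d3f1663b3ab61922bd30165c9ffec1fd12029ee74a158828d8f63474871fe6808054bc2d5fd95b81f62b31b33d2be0cdec04207fdba1e8558fc6be0e69dedf83ca7d4b62a91f94f30b22b4a6bc56995a43adcb2058e7274f0837f74360cf59b908ebaae4eb2307275d0962c727d44d4c9fdaccf89431af5d089fb51891c36d9bd56000ec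8dddbc40bb1327f0d1400fd2becb3ec848ce6ff80b2f625a73bb50fc24f9029ee445f049c27389c31c3451eebd2fe6fcd80a08df132ba95b1e4652d1481094f74a07750e6b05fd3bd072a7aaabf8c97494b7a4d2eb1b23d242734a83aaf5d140268c2f22b064f0afbce19562e6d4307ca50a7e8ef08c7f33675f11521234eafa46f50207e90bd6144fcfe263f5bd7ffbbaca7c86314c914d555552de533041593e7c6ad79a53c7eacb74d1f24f0eaf6ce460a01fddd77dea48ac22ac65b87585586c57fc3e9aa79dfc93502f5c5dc0c2cf69cac9a3be7e2a6e538de93f14541e1a09f3d2563ff57fd26a607a4bb44e8640d27a729458d39b620e7e0edc3e11d01105d0127e23a309e64dd4d016c1ecc8fa9d9a6278f5fff77efe304bfc26a224cf99f2a23fa8378f71af2b83eece4b0570f4ad303e3696a9434a52d5204847e914a709c97d6450c7c76328567571b231a915440817a802f363a101f56c554af92b62b40f92dd5d33b7a84e567685fbabe9b402f2692f7bf4927faa24517c484d3a796182a90b8b761448e7b26178b734dd5229c44f9808b6a2a5a7a90def41eee9f277c53b698456cf31dde0318631e5c3e98eccc65cfdffc70771d88be5340df53edb1e9280209dd7de119c8cb30770d04a0bd26a748739a3686d0c72e719991191a67d690140fd2ab20062a0e004760fefb6ee918c3a1778e8b18deba35acc53885fbda9406aeb76c6a87dc4feb5e309326b21ee73ee57e0859fa27f3814663b35e52f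

/-- matrix -/
def f29Q : ℕ := 0x8000000000000000000000000000400000000000000000000000000020000000000000000000000000001000000000000000000000000000080000000000000000000000000004000000000000000000000000000200000000000000000000000000010000000000000000000000000000800000000000000000000000000040000000000000000000000000002000000000000000000000000000100000000000000000000000000008000000000000000000000000000400000000000000000000000000020000000000000000000000000001000000000000000000000000000080000000000000000000000000004000000000000000000000000000200000000000000000000000000010000000000000000000000000000800000000000000000000000000040000000000000000000000000002000000000000000000000000000100000000000000000000000000008000000000000000000000000000400000000000000000000000000020000000000000000000000000001000000000000000000000000000080000000000000000000000000004000000000000000000000000000200000000000000000000000000010000000000000000000000000000800000000000000000000000000040000000000000000000000000002000000000000000000000000000100000000000000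00000000000000800000000000000000000000000040000000000000000000000000002000000000000000000000000000100000000000000000000000000008000000000000000000000000000400000000000000000000000000020000000000000000000000000001000000000000000000000000000080000000000000000000000000004000000000000000000000000000200000000000000000000000000010000000000000000000000000000800000000000000000000000000040000000000000000000000000002000000000000000000000000000100000000000000000000000000008000000000000000000000000000400000000000000000000000000020000000000000000000000000001000000000000000000000000000080000000000000000000000000004000000000000000000000000000200000000000000000000000000010000000000000000000000000000800000000000000000000000000040000000000000000000000000002000000000000000000000000000100000000000000000000000000008000000000000000000000000000400000000000000000000000000020000000000000000000000000001000000000000000000000000000080000000000000000000000000004000000000000000000000000000200000000000000000000000000010000000000000000000000000000800000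0000000000000000000000400000000000000000000000000020000000000000000000000000001000000000000000000000000000080000000000000000000000000004000000000000000000000000000200000000000000000000000000010000000000000000000000000000800000000000000000000000000040000000000000000000000000002000000000000000000000000000100000000000000000000000000008000000000000000000000000000400000000000000000000000000020000000000000000000000000001000000000000000000000000000080000000000000000000000000004000000000000000000000000000200000000000000000000000000010000000000000000000000000000800000000000000000000000000040000000000000000000000000002000000000000000000000000000100000000000000000000000000008000000000000000000000000000400000000000000000000000000020000000000000000000000000001000000000000000000000000000080000000000000000000000000004000000000000000000000000000200000000000000000000000000010000000000000000000000000000800000000000000000000000000040000000000000000000000000002000000000000000000000000000100000000000000000000000000008000000000000000000000000000400000000000000000000000000020000000000000000000000000001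

/-- matrix -/
def f29S : ℕ := 0x8000000000000000000000000000400000000000000000000000000020000000000000000000000000001000000000000000000000000000080000000000000000000000000004000000000000000000000000000200000000000000000000000000010000000000000000000000000000800000000000000000000000000040000000000000000000000000002000000000000000000000000000100000000000000000000000000008000000000000000000000000000400000000000000000000000000020000000000000000000000000001000000000000000000000000000080000000000000000000000000004000000000000000000000000000200000000000000000000000000010000000000000000000000000000800000000000000000000000000040000000000000000000000000002000000000000000000000000000100000000000000000000000000008000000000000000000000000000400000000000000000000000000020000000000000000000000000001000000000000000000000000000080000000000000000000000000004000000000000000000000000000200000000000000000000000000010000000000000000000000000000800000000000000000000000000040000000000000000000000000002000000000000000000000000000100000000000000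00000000000000800000000000000000000000000040000000000000000000000000002000000000000000000000000000100000000000000000000000000008000000000000000000000000000400000000000000000000000000020000000000000000000000000001000000000000000000000000000080000000000000000000000000004000000000000000000000000000200000000000000000000000000010000000000000000000000000000800000000000000000000000000040000000000000000000000000002000000000000000000000000000100000000000000000000000000008000000000000000000000000000400000000000000000000000000020000000000000000000000000001000000000000000000000000000080000000000000000000000000004000000000000000000000000000200000000000000000000000000010000000000000000000000000000800000000000000000000000000040000000000000000000000000002000000000000000000000000000100000000000000000000000000008000000000000000000000000000400000000000000000000000000020000000000000000000000000001000000000000000000000000000080000000000000000000000000004000000000000000000000000000200000000000000000000000000010000000000000000000000000000800000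0000000000000000000000400000000000000000000000000020000000000000000000000000001000000000000000000000000000080000000000000000000000000004000000000000000000000000000200000000000000000000000000010000000000000000000000000000800000000000000000000000000040000000000000000000000000002000000000000000000000000000100000000000000000000000000008000000000000000000000000000400000000000000000000000000020000000000000000000000000001000000000000000000000000000080000000000000000000000000004000000000000000000000000000200000000000000000000000000010000000000000000000000000000800000000000000000000000000040000000000000000000000000002000000000000000000000000000100000000000000000000000000008000000000000000000000000000400000000000000000000000000020000000000000000000000000001000000000000000000000000000080000000000000000000000000004000000000000000000000000000200000000000000000000000000010000000000000000000000000000800000000000000000000000000040000000000000000000000000002000000000000000000000000000100000000000000000000000000008000000000000000000000000000400000000000000000000000000020000000000000000000000000001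

/-- matrix -/
def B23 : ℕ := 0x344075618ebd96d723da16577d44172f4b7728412f3f79085c7840d843a18d942dbfc242e6d37fb8eb879ea70509b540ae3f1fa3b4a9b0ecaa6b9881420adfd4c612b21db5be2215efc6c104573921d7a26c2e83857fd6ad3be613b7a3b9fc512587e8eacfe14f28f3e285207a73bfb9530485e00a155f08080183c1e382eeed7a1f73b9e65686f8148038f9c9657ee6030a2d348128682bcb9784e9d12ec805cd68e59d7e746484b8874584573796a2ed5a1d6bf32d744eea41122f6369c964132a2bbc5a3bc5340b588bc6711f82c2ba769acdc65b441b70565983e1353252748ae056a519d958ebe406ec2d7d503fd1fdad5cb0e609bad9f66bde92aefe82c429d691031a8a446f699e5344f96fb8023ed5d2695ed8e8950ce0e76862df95d0dafb4dec5ac0a29cc28112fdd1a0c197ee1f3ffd90ece90f6330950195eff780367c79e7d1a83fa88da3427c2e5870a26bcb97d5c79056fd2db0348ef035f1ecb757be3f2d44ebaceee6ffd47cd626d2923787ba9acdef9d2f80d8b61f09acc70578e93188c691ee818f29dc5511f9f5fbacfe593aa80801911523aa40936e1b0d95e37fe47920fa6c3a8748f4ad1534f07bb4fd9da06e61eb5d4076dee18d75ed6e2b434d412f06bf57fc5d694ce735d1238864bee03188eea92618be8bff17b2f9ade2248f88ee33cf677affd20068cc41cf8489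15fad571f3effff403dd876be75fc9db4343800ffc7a853b4ca22a160d328dbcab7cda4be0a832f4e14fa5580af88d39d64e8d5556a6453ac1cd2d8bdb73ca1fbe13adaeeb322129916a4dbc9497c39581dc90cc9e79a0ad1148b86eaf74baea3808a1e733a1e0238800175fbb05ffd7dc40913971bb86ff9c6b948aaa637d804421e3e0b8d90891503808440864be14b8271c7540992b8ecad65856b9bfe98b22f13164de9b91969f656a6ddd833804f773c9357f63cd79ec446b64223735efc1a089cdd9552406ee0bb84ca611c4b9adfe0ddec68e6545ffd28f54af79caf5d8d2290996971219f77dbd4d43a055a1be8631e2ea5ac2666c89a9a13b569bbca0f42b11a24819020aef3b8603fd1551da31652aa6d3f71416800ee8b9a2ea719f910045bbb9edac3667ee7244596790ebc3d6b2672ff1214f60ae76377768316ba6547c5a02817d14ce7a31231189bc484aa6c1be1393b5b615273bf0d26162bb77bb263c5aed93c8a04d10a3a952d69c63a32a094b02b0f0f8d5c903f0f125327e6b0704d77640119e20cc959a9f2db0f4a0a16c269ba06ca6671f0e59ca1ce8f666eda5b0f501784441f0fbec0bddc3a8e3da65aaa6599624a51754c2dfa0eb2e4f04295110cbe8c6c999099545a99c974422ee669310edf6681fb3281ff00db7830142cd6fe5e09f87ca9c69c0c1d2bb9cf3fd1248e139097cd519d86b3bc2004b2d3a146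881b418d41d87b626e14e509e01d179acfcc3314845fc9a55c14a535051f8f2c8075d9cbb13b972dd843fbd78778d71880b7709b06f473d7e25eaefdfdb37c7a4f3d6b8d1db7bc7689731525bbabd2fdb7c8041fd7553ce1ee4b8b20a4607a80e2612f019e1ab93792f01a076069f1e15536a35530ccf71a3fce33ee3efe3723daefbc20e37ef74283538e1acc9c60dd2181ee4a99e9566570a7285c0614d8288a7606e86b36131abc3f03396c8827731cdf733801a1aaf3aacf69d28c4fa4e18f952bf375f395b4bbafa0b3f7a9acc9d99f6c1929ce54ae5b5788150eff80597246232970f834029600544950bc6777e83360a59f8d5b0a7efdab21db0cf0e84e71881f1a390e5a8b072da5c6c633635dac6255f452c95ebfedde8bb8edde3b9374d0359fc29f122174474883446c811253102d86b27124e71821c4cc81430610a4a5ed848b1db7dcbe31f4d174b566beb27142811823a2a08825c75275ce5aff993ca5fd998576a5f2e7bf38faaff55faffd7f4bf59273a72a1bb721482148212214822e8652a5a6a0506c630a00e6ce83378140952200005aa500017002805b40eac800ffffa55aa55ffffd75a4bfd537ffeddeb77beddeddfdfdb6ff1ffe9f488412211221284882490022c9600000000000000000005b4ae8016a3cffc3ff3cff1fe7fffe7fc9ef3f3fcfcf3f3fcf3f3ffece67f9efbdc30000c3c300001b003c00461021030c30c00308c3180231800000430000000000000000000000000007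

/-- matrix -/
def f23P : ℕ := 0xb5f550a6d62c6a83bf0624f67fba4a0aaf5929d3957c40f9db098045358115dec158b8712a4ce43951242d7af58dbf5f358008e3b906ef0018dd5c16e75fbda651504901c4911a88a2ac565284d3695e3d8765ea0ea6a47972c4511328722729fdff20984cd9b9db05815af30f7882081f338996907b3f819921717803f02c90e9c7148ad6f002212ebbec560031f75f039104d41c737b4c151a0100c39b839fe8c966e25e9d27933f5cab3a25e8609905df0e86f750066ec5e2020dc66c573b84e1d9e017706e238d624ff5e4d2b8a7fe533bd4e271bf0545d935f6820d4031125fc71ddd35cd191e4ee8c831fc14d8b5bca89d4577b98cb5d5dec82d6a3fba43319ec5b964187c7daf0bec08886de5fce6874a99a0cc592c94b155e49d74f4b23e0f6516232f635295f457cf2237dde477c9d5370d6867d9ebb2f8f3e98cd96dfc16032eedf93f2a71f47bdd5fa7bd3c521fe92681998d98f5e533f93a06c42ead838c7f80acc9fe2d664d14fb7dfa59b8b023228de569df85348904d07cdf3e7c1b22bc5325a43ac8fbe14ea2a754c1a35ad79e5b14008a782d5b0aa7eb1c6b43b96b2c0668556cc876738a02f805aa192ade2bdd4d5690b365823cb5ca010fc6d9a0fb49aae959dad8925070039ca74036f4ed78e03f17947a1a2a5465987787b6ebd344f53d54830f7ff041033ca22e99c085c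bc3dc034ef9e5689a87547f2d2fbef0b93969d8784412ccb763435ab92d0a3bcdf16acc4e977d343021d4ad4817676d5b0faf8c2b90c39bdfc49d28cae3e86496f9f2aeb800a0655b017b36a093cf683a5b7a788929a92cb9e8f506e3736287717d56404406f327e692fb4b69f3015feeb1b139addb76811fc69d9582e42b63ed155fc7bbf42a26d5a39f3630a5ad290cdde00d0249b104ae0f6714a91285ddb09d783fc6b785d3ab8aa80176644567d2def1bb5f057789c33be999ccb16c060eb252e7dbb05a36ab1d45ea922c2029ba488cf0e51cc33b12d27b43df18b8adabb976066d78c43e9954faf7ec7cb867dd02a70ca15516b311c2f5f00036a208b794a1e860f8d02491d6d35e5029064c16720be355e1ada0379f00353f17ea0f3ad22416719c91602814c1ba26a9fac117a176e5a367481452e31b530935cbfb2ebd00c433022ca8bd1afb92e1c9586ba78c82209f8180929ca366a3ca18559df00c4fd37c8be525f397ec3d3bdc780c15536da77b6df41dbf696595971d9fe3334fe9e5ba0af67c61ba711fa0f7679f814cf70195eb1e15b109c76382045b429a7a8e0535b89e338367a5af9dde3e3d549f062ddc0a8d2e3f7dafd9c44a54a87981982e01198feb2821eb84776ce0765808730b80f7e039217de779f4b4ba044adc565e4c618bea93fab4834804004bac04dd53b50dd1b0f8c9620da8f83c0204d384c21c0abb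b2733ffd91d1bd98c0a567a339b2916701c2ba714616511bc5e09ab808fc1d8b814a17eb83971175fe9fe2770c7001993cc1cb49da3c84d8f1732dc7768063aae26b953237d60e5b2699a3f8898d1321fb01f99591a33537fd720f249b9c523466851f09308827a3170e842d7660bcd86fb10c1564f7f65782653094f9e523f21a0ce141ba85b5eb17aba19ef260220c3541cf40a29cc112f6c7a5dc1528aa129d22929262c8607198f13365282cdd4a9a75200c5c363a5304be21e9e94f6fd3508c7338961214d6911595b0c41bd8470c796be321104062dec3068f06c406f1d2ed23a8317e3270a1dfe85da03bbc4503b9676bff61d6d58bc5dca1e1db01961731c14f1105949e57da020a2b491935213b0b9c8cc1559635190a6c36af395ff93d5a5e70c85c0a1a0fff5c4ae60cb9db95b61dbe6d056c6c050a999923e936a991c7e4300c9aa6a69fdfd9489aa656281a2a527990235c99e0f4ece7e766cd11d90d1ded99d757089bd884f27004d21e81f19cfdbe7e75e962aa3f23fa50c0b02faa921108d52f97322eb354eeeecc52283f995720017d3a3509066092a3bbc93583373f051a5113c92f9e336cc3dceb8c854921b874122eb5f12ee175e4d4e9aa0182b184043d8d08ee80a366e80e071d7b28a80ff4e9ac4bc1ce1c5338222271f1a8f4cbda1d5beb915a13ca6fff8f136cdc4936aececa98027a62740478d7438af8ff903c4c027a62740478d7438af8ff903c4d3bb84772f2c978c1497766c66d32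

/-- matrix -/
def f23R : ℕ := 0x8344075618ebd96d723da16577d44172f4b7728412f3f79085c7840d143a18d942dbfc242e6d37fb8eb831ea70509b540ae3f1fa3b4a9b0e22a6b9881420adfd4c612b21db5b36215efc6c104573921d7a26c2e81a57fd6ad3be613b7a3b9fc512583f8eacfe14f28f3e285207a73bfb0db0485e00a155f08080183c1e3816aed7a1f73b9e65686f8148038f0cb657ee6030a2d348128682bcb9385e9d12ec805cd68e59d7e74648238074584573796a2ed5a1d6bf322f40eea41122f6369c964132a2bb25a1bc5340b588bc6711f82c2ba731addc65b441b70565983e13532517482e056a519d958ebe406ec2d72d03bd1fdad5cb0e609bad9f66bd312acfe82c429d691031a8a446f609e5244f96fb8023ed5d2695ed8e0150c60e76862df95d0dafb4dec5140a2dcc28112fdd1a0c197ee1f33fd90cce90f6330950195eff780337c79f7d1a83fa88da3427c2e5870226bc397d5c79056fd2db0348ef035f1e8b757be3f2d44ebaceee6f3d47cd426d2923787ba9acdef9d2380d8b71f09acc70578e93188c690ee818fa9dc5511f9f5fbacfe5931280801d11523aa40936e1b0d95e1ffe47900fa6c3a8748f4ad1534f07bb4fd8da06e61eb5d4076dee182f5ed6e23434d412f06bf57fc5d60cce735d5238864bee03188eea92318be8bfd17b2f9ade2248f88ee31cf677afed20068cc41cf84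8915f15571f3ef7ff403dd876be75fc9d1c343800fbc7a853b4ca22a160d310dbcab7cfa4be0a832f4e14fa5500af88d39c64e8d5556a6453ac1c2ad8bdb73c21fbe13adaeeb322120916a4dbc9097c39581dc90cc9e70a0ad1148ba6eaf74baea3808a1e3b3a1e0238900175fbb05ffd7dc40113971bb867f9c6b948aaa637d804421e3e0b89908915038084408623e14b8271c5540992b8ecad6585339bfe98b22e13164de9b91969f62ea6ddd83380cf773c9357f63cd70ec446b64223335efc1a089cdd952a406ee0bb84ea611c4b9adfe0dd3468e6545ffd38f54af79caf5d8d1290996971219777dbd4d43a055a0be8631e2ea5a82666c89a9a13b531bbca0f42b11824819020aef3b8303fd1551da31752aa6d3f71416800ee8b9a2ea7197910045bbb9eda23667ee7244596390ebc3d6b26723f1214f60ae76357768316ba654725a02817d14ce7b31231189bc484126c1be1393b5b695273bf0d261613b77bb263c5aedd3c8a04d10a3a0d2d69c63a32a096b02b0f0f8d5c083f0f125327e6b1704d77640119320cc959a9f2db0fca0a16c269ba06ca6671f0e59ca18e8f666eda5b07501784441f0fbee0bddc3a8e3d165aaa6599624a51654c2dfa0eb234f04295110cbe8c64999099545a09c974422ee669310adf6681fb3201ff00db7830142cd4fe5e09f87c11c69c0c1d2bb9cf3ed1248e13900fcd519d86b3bc200432d3a1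46880b418d41d87b626e14a509e01d170acfcc3314845fc9a57c14a535050f8f2c8075d9cbb13b872dd843fb2f8778d71880b7709b0ef473d7e22eaefdfdb37c7a4f3d6f8d1db7bc3e89731525bbabd2fdb5c8041fd72d3ce1ee4b8b20a4607b80e2612f019e1ab93792f01a0760e9f1e1551ea35530ccf71a3fce33ae3efe3713daefbc20e37ef74283738e1acc0c60dd2181ee4a99e9567570a7282c0614d8288a7606e86b3e131abc1f03396c8827731cdf733c01a1aa3baacf69d28c4fa4e18f972bf3753b95b4bbafa0b3f7a9acc8d99f6c0929ce54ae5b5788150eff00597226232970f834029600544910bc673fe83360a59f8d5b0a7efd8b21db04f0e84e71881f1a390e5a9b072d15c6c633635dac6255f452c15ebf35de8bb8edde3b9374d0359bc29f0a2174474883446c811253122d861a7124e71821c4cc81430611a4a535848b1db7dcbe31f4d174b5e6be1a7142811823a2a08825c75235ce2aff993ca5fd998576a5f2e79f383aaff55faffd7f4bf59273a73a1b1f21482148212214822e8652ada610506c630a00e6ce83378140912200005aa500017002805b40eaca003fffa55aa55ffffd75a4bfd536ff35deb77beddeddfdfdb6ff1ffe1f208412211221284882490022c9200000000000000000005b4ae8014a1cffc3ff3cff1fe7fffe7fc9ef2f1fcfcf3f3fcf3f3ffece67f9efb5230000c3c300001b003c00461025030c30c00308c3180231800000410000000000000000000000000006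

/-- matrix -/
def f23Q : ℕ := 0x8000000000000000000000000000a00000000000000000000000000090000000000000000000000000008800000000000000000000000000400000000000000000000000000044000000000000000000000000004200000000000000000000000000810000000000000000000000000040800000000000000000000000008040000000000000000000000000402000000000000000000000000040100000000000000000000000008008000000000000000000000000400400000000000000000000000040020000000000000000000000004001000000000000000000000000800080000000000000000000000080004000000000000000000000008000200000000000000000000000400010000000000000000000000080000800000000000000000000008000040000000000000000000000800002000000000000000000000040000100000000000000000000004000008000000000000000000000800000400000000000000000000040000020000000000000000000004000001000000000000000000000400000080000000000000000000040000004000000000000000000004000000200000000000000000000800000010000000000000000000000000000800000000000000000000000000040000000000000000000000000002000000000000000000000000000100000000000000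000000000000008000000000000000000000000000400000000000000000000000000020000000000000000000000000001000000000000000000c00000000080000000000000000000000000004000000000000000000000000000200000000000000000c000000000100000000000000000c000000000080000000000000000c0000000000400000000000000000000000000020000000000000000c000000000010000000000000000c000000000008000000000000000000000000000400000000000000000000000000020000000000000000000000000001000000000000000c000000000000800000000000000c00000000000040000000000000000000000000002000000000000000000000000000100000000000000c0000000000000800000000000000000000000000040000000000000c000000000000020000000000000c000000000000010000000000000c0000000000000080000000000000000000000000004000000000000c000000000000002000000000000c00000000000000100000000000000000000000000008000000000000000000000000000400000000000c000000000000000200000000000000000000000000010000000000000000000000000000800000000000000000000000000040000000000c0000000000000000200000000000000000000000000010000000000c00000000000000000800000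0000c000000000000000004000000000c000000000000000002000000000c000000000000000001000000000c0000000000000000008000000000000000000000000000400000000c000000000000000000200000000c00000000000000000010000000000000000000000000000800000000000000000000000000040000000000000000000000000002000000000000000000000000000100000000000000000000000000008000000c000000000000000000004000000c00000000000000000000200000000000000000000000000010000000000000000000000000000800000c0000000000000000000004000000000000000000000000000200000c000000000000000000000100000c0000000000000000000000800000000000000000000000000040000000000000000000000000002000000000000000000000000000100000000000000000000000000008000c000000000000000000000004000c00000000000000000000000200000000000000000000000000010000000000000000000000000000800c0000000000000000000000004000000000000000000000000000200c00000000000000000000000010000000000000000000000000000800000000000000000000000000040000000000000000000000000002000000000000000000000000000100000000000000000000000000008c000000000000000000000000004c0000000000000000000000000020000000000000000000000000001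

/-- matrix -/
def f23S : ℕ := 0x80000000000000000000000000000800000000000000000000000000c000000000000000000000000000a00000000000000000000000000090000000000000000000000000000c000000000000000000000000000a00000000000000000000000000810000000000000000000000000008800000000000000000000000008040000000000000000000000000082000000000000000000000000008100000000000000000000000008008000000000000000000000000080400000000000000000000000008020000000000000000000000000801000000000000000000000000800080000000000000000000000080004000000000000000000000008000200000000000000000000000080010000000000000000000000080000800000000000000000000008000040000000000000000000000800002000000000000000000000008000100000000000000000000000800008000000000000000000000800000400000000000000000000008000020000000000000000000000800001000000000000000000000080000080000000000000000000008000004000000000000000000000800000200000000000000000000800000010000000000000000000000000000800000000000000000000000000040000000000000000000000000002000000000000000000000000000100000000000000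00000000000000800000000000000000000000000040000000000000000000000000002000000000000000000000000000100000000000000000088000000008000000000000000000000000000400000000000000000000000000020000000000000000088000000001000000000000000008800000000080000000000000000880000000004000000000000000000000000000200000000000000008800000000010000000000000000880000000000800000000000000000000000000040000000000000000000000000002000000000000000000000000000100000000000000088000000000008000000000000008800000000000400000000000000000000000000020000000000000000000000000001000000000000008800000000000080000000000000000000000000004000000000000088000000000000200000000000008800000000000010000000000000880000000000000800000000000000000000000000040000000000008800000000000002000000000000880000000000000100000000000000000000000000008000000000000000000000000000400000000000880000000000000020000000000000000000000000001000000000000000000000000000080000000000000000000000000004000000000088000000000000000200000000000000000000000000010000000000880000000000000000800000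0000880000000000000000400000000088000000000000000020000000008800000000000000001000000000880000000000000000080000000000000000000000000004000000008800000000000000000200000000880000000000000000010000000000000000000000000000800000000000000000000000000040000000000000000000000000002000000000000000000000000000100000000000000000000000000008000000880000000000000000000400000088000000000000000000020000000000000000000000000001000000000000000000000000000080000088000000000000000000004000000000000000000000000000200000880000000000000000000010000088000000000000000000000800000000000000000000000000040000000000000000000000000002000000000000000000000000000100000000000000000000000000008000880000000000000000000000400088000000000000000000000020000000000000000000000000001000000000000000000000000000080088000000000000000000000004000000000000000000000000000200880000000000000000000000010000000000000000000000000000800000000000000000000000000040000000000000000000000000002000000000000000000000000000100000000000000000000000000008880000000000000000000000000488000000000000000000000000020000000000000000000000000001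

/-- matrix -/
def w23P : ℕ := 0x80000001000000b0c44d3af163f9400000010000000beda771e03efa2000000100000082cd4220bc75c910000001000000a0f3a1e34d254d0800000100000120eef6c9055d9604000001000000052a9325cccecc0200000100000024f8dffcd581c401000001000001888dd411c84fb800800001000000a3dc88d0a94e6000400001000001279bce442a575c0020000100000195d75fefd7086800100001000001bcc9a5c11ab12f00080001000001a9ee6127e4e98a000400010000002435f94e8bb64e00020001000001b4a3e5540a931b00010001000000979a44531528ce000080010000003038617984c49f00004001000000b70f48a1c011970000200100000188396a80d9700f00001001000001a4796f29c29a060000080100000127286e794b3afb000004010000019ed246f1c3f6cb00000201000001b38fc87e8d1ed500000101000000b7c4a1000998a90000008100000127998e98bb933800000041000001abd1cefaf0300d000000210000019397eb8964e004000000110000011c8c5084ec4fb500000009000000a34ff3deb6c52e0000000500000115d0a05d0366f400000003000001a69a57aa22d437000000000000007348195c184967000000008000012e0f0214ef6ec3000000004000008fdc23ae1a2412000000002000000b664609c7afda00000000100001b99c56850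2cde10000000008000118497b795af32f000000000400010a728e082560830000000002000133d011fc563fb000000000010000a43bfa8cd08c8900000000008001af0751dcffe3a50000000000400130a355b94fd3f30000000000200196007eb377fe760000000000100032fc6602f9588c00000000000801be6d8a1c5b29f0000000000004001f3e00e988489c00000000000200894337fe9b92b700000000000100b657c2e918cfd60000000000008022baa9f1ec1a0a00000000000041ac25e72409d01f000000000000202d184661d381260000000000001013bef81b3141b8000000000000098ba2bd9c758bff000000000000052f71ff2f192da000000000000003bb0d4c932974b200000001000001912e40a31c143300000000000001a4295dad195a97000000000000008ce15b1af565ea000000010000003fdd6499ae06ec0000000100000108e473aea548140000000000000039575c61fb5a14000000000000012a32f78a0206410000000100000197562bc83706f10000000000000097df69e426322a00000000000001105c5066ac061f0000000100000117c5130a2937fb000000010000000d9911131742e30000000100000139ef938e83bcbf00000000000000b0672e9e6bba40000000010000018380a03e11b50d0000000100000037c1af83ab32fe000000000000019beb0dbd837c01000000000000018f1dd65bd9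48670000000100000093705b7591bca2000000010000002f1b6731ac50760000000100000121a1a6c2e6b60b000000010000018eeda6f69f650600000001000001045954efd5a1cd00000000000000a11ccf9798eea000000000000001a0138ea4c7578700000000000001360726a3e2a1e500000001000001ba8ad5a489ea0b00000000000001aa55821ad2ca9900000000000000bb812bfb17e8c1000000000000002853715eea527f000000000000011262e4b120f76900000001000001868e731e97a571000000000000011d4240cece04c80000000100000111e9b7388ee41a00000000000000a83397998dbea100000001000001a1f6225430432200000000000001362e16fcc9ac7f000000000000003af4992d43d5f000000001000000ade24767cc7fe0000000010000000ca57b90ce338000000000000001ac8a7a1b52c1dd000000000000013465ede32e2ca5000000010000002beff95f2b4c9a000000010000011703b682f6832d00000001000001a105f46f1bce29000000000000018f2f2629af132a00000001000001a1d3924a62d87300000000000000bae46da87e457500000001000000bcdd06d5c4d7f1000000010000008e1627c9bd0e930000000100000108fd06e438ab06000000010000008376ce7a3db71600000000000001012435d1f320f1000000010000011dfe1fb7e1c52c00000000000001a81b1a4da329230000000100000018ec84577e08f600000000000000a3206bb8741876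

/-- matrix -/
def w23R : ℕ := 0x800000000000002f1b3f545ba3e5400000000000000b625393bef64820000000000000c5496fed81b1c2100000000000008f03e62ef23e6608000000000001f7629b10ff78c904000000000001c523a14dbe3082020000000000010ef7ffac647ce0010000000000019fe5c93f23bcc80080000000000090ac10f4c33232004000000000012e5b88788cb970002000000000006d1eb4f451b364001000000000001f0b28e7bd9e50000800000000005d3a06d41d5ccc000400000000018366c0734cd01700020000000001af8d95fb6a10b100010000000000810d7ec2a5f15800008000000000f2e4174d0ea29a000040000000006c289b49173fbe00002000000001abbe56a5021d2100001000000001d03e3579f5655d00000800000001f2ce99fb059d2d0000040000000180a7026e3c488900000200000000cc9b6b75aeb68d00000100000001d52ec5fc457423000000800000004a5059b1c8e4f1000000400000013746a804f64ecf000000200000016fd2f4921bb6ca00000010000000f6187f04baad36000000080000009944b38986c882000000040000007e3df7220c211600000002000001abaf4fa9665ba000000000000000b4607cee40fc10000000008000019465617c10605c000000004000006808b2fb09c72d0000000020000048376d5c73431300000000100000fd18290ae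bc3d200000000080000a208195cc704850000000004000019e7c804a421f3000000000200006fc04fb7a5d1dd00000000010001e1dbbbac454f2d0000000000800025edb732c06f7300000000004001c575cfc68b966f00000000002000048fa581de481e00000000001001150e4489a7624c00000000000800573db989f56fad00000000000400261c7432a6b3b0000000000002005f867927d64b0b0000000000010120fd97a64486ff00000000000080e97db3c68ecb3d0000000000004050285ae06d13e9000000000000218b0fa61c8eff990000000000001036c0a6279161a90000000000000956636373a873ba000000000000040b51d0d5e9c1600000000000000271acc4aad09f5400000000000001d6fb540e4f165a000000000000000d15fc30c54a1500000001000001b5c0585ca4249400000000000000e5e4c5140a6d9a0000000000000100ea6af0addbe300000000000000d7f7117f50c7a900000000000001882c82c0a2f07500000000000000ad44a9cc68b89000000000000000e1dec6a8006578000000000000005fb71d4bf8b6ed000000000000002eb1981c65131500000000000001b1814c228e495600000000000001bcfe5dc45b9f7700000000000000324b3fe7360e8e000000000000000bb34b56a4e3ce00000000000001e5b064cdd3ae3d000000000000017ab6317d63b1be000000000000004091b57985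3ca0000000000000012565a700b5d52700000000000001ee1bc402eafe51000000000000014af2419cb7943f00000000000001030e93c79d18a000000000000000074d33331d44780000000000000134420526b558f6000000000000012a79201ecb97730000000000000078cea83ca74bc800000000000000acd331e54947d400000000000001cd63583d5479f20000000000000031b02995a75bbc000000000000019cfa8c7fc4e8a50000000000000172c10182ff7b390000000000000177965a419ff8dd000000000000019b7882f4cf55d400000000000001f20542cd7312f200000000000001132d55d22022920000000000000056dff9cfe9f6e6000000000000014de4727d2a29ed00000000000000f3b8c3e79679b800000000000001aa4354b0040623000000000000012c066e9b094d7a00000000000000128495a235770600000000000000a5abf471408b72000000000000013cd1f3f86b897400000000000001d45b2451fe2d4b00000000000001a40fa581f3749e000000000000005e361bee8c05d400000000000001956d66b7c0774f000000000000011e15ee0cc654810000000000000125be3ff585cce0000000000000017e656f218cdd2a00000000000001f04bba4982cf6a000000000000018ea737297b1a8400000000000001d3c36f584b1cbc00000000000001445623505ff7c10000000000000170d666f92e0e19000000000000005ed32a0a0183fb00000000000001b99fff05048e9f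

/-- matrix -/
def w23Q : ℕ := 0x8000000000000000000000000000400000000000000000000000000020000000000000000000000000001000000000000000000000000000080000000000000000000000000004000000000000000000000000000200000000000000000000000000010000000000000000000000000000800000000000000000000000000040000000000000000000000000002000000000000000000000000000100000000000000000000000000008000000000000000000000000000400000000000000000000000000020000000000000000000000000001000000000000000000000000000080000000000000000000000000004000000000000000000000000000200000000000000000000000000010000000000000000000000000000800000000000000000000000000040000000000000000000000000002000000000000000000000000000100000000000000000000000000008000000000000000000000000000400000000000000000000000000020000000000000000000000000001000000000000000000000000000080000000000000000000000000004000000000000000000000000000200000000000000000000000000010000000000000000000000000000800000000000000000000000000040000000000000000000000000002000000000000000000000000000100000000000000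0000000000000080000000000000000000000000004000000000000000000000000000200000000000000000000000000010000000000000000000000000000800000000000000000000000000040000000000000000000000000002000000000000000000000000000100000000000000000000000000008000000000000000000000000000400000000000000000000000000020000000000000000000000000001000000000000000000000000000080000000000000000000000000004000000000000000000000000000200000000000000000000000000010000000000000000000000000000800000000000000000000000000040000000000000000000000000002000000000000004addca7d4a08ab00000000000000703d548023f6ae800000000000005b3e40dace039240000000000000802d4169febd0c2000000000000009f7b632c3b5b2100000000000000840ce10a788ca08000000000000893dd53bba0d2a04000000000000137d967d34e7e0020000000000006d204c54f279d0010000000000002f9b047cd65e4600800000000000dd5ed040ac508e0040000000000010a6c0a6bfe1d200200000000000d28f6773358002001000000000004133661459234e000800000000007e8fefc1f020ac00040000000000978828d4f2525200020000000000b385bc1ce6b45c000100000000004d1ee2d748b23a0000800000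0000408e994b62d73800004000000000d4aecec106094200002000000000be687cb9ee8180000010000000002f8181ccf4dd10000008000000001194a7f2718dfe00000400000000923183b9751c1e00000200000000b4719ca6aca06e0000010000000034f7d085a4c9d4000000800000000c23a1fb78d57c0000004000000040c262ba6b7cb8000000200000005f633f6a478c7000000010000000c01b6f786c7e5c000000080000008778b8b799664600000004000000f575ea4566c69e0000000200000059bd50b4823a3600000001000000b11fb3ab8ec73000000000800000b1a09c1b82940e000000004000009f1ad310b747a400000000200000098809bb95282c00000000100000e6763d3ba2aec80000000008000086afc33a34a32800000000040000ce784b4b6162a400000000020000fd927f10f2adf200000000010000942c9b233e855a00000000008000a9ad13ae93482200000000004000456c059ab9eca20000000000200042b36219cc7314000000000010004c9d611a8ca54200000000000800c3867975f39bf2000000000004003d0d2f2ce0d3d8000000000002009a01b6f2e16852000000000001009b90746cbf311800000000000080f6d951aebb880000000000000040ca45bc1c050292000000000000204d05b135d2637c000000000000107577d86376526000000000000008e66b8f3e26c5000000000000000438b1b72dd9b89200000000000002e6a851455b4c8e00000000000001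

/-- matrix -/
def w23S : ℕ := 0x8000000000000000000000000000400000000000000000000000000020000000000000000000000000001000000000000000000000000000080000000000000000000000000004000000000000000000000000000200000000000000000000000000010000000000000000000000000000800000000000000000000000000040000000000000000000000000002000000000000000000000000000100000000000000000000000000008000000000000000000000000000400000000000000000000000000020000000000000000000000000001000000000000000000000000000080000000000000000000000000004000000000000000000000000000200000000000000000000000000010000000000000000000000000000800000000000000000000000000040000000000000000000000000002000000000000000000000000000100000000000000000000000000008000000000000000000000000000400000000000000000000000000020000000000000000000000000001000000000000000000000000000080000000000000000000000000004000000000000000000000000000200000000000000000000000000010000000000000000000000000000800000000000000000000000000040000000000000000000000000002000000000000000000000000000100000000000000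0000000000000080000000000000000000000000004000000000000000000000000000200000000000000000000000000010000000000000000000000000000800000000000000000000000000040000000000000000000000000002000000000000000000000000000100000000000000000000000000008000000000000000000000000000400000000000000000000000000020000000000000000000000000001000000000000000000000000000080000000000000000000000000004000000000000000000000000000200000000000000000000000000010000000000000000000000000000800000000000000000000000000040000000000000000000000000002000000000000004addca7d4a08ab00000000000000703d548023f6ae800000000000005b3e40dace039240000000000000802d4169febd0c2000000000000009f7b632c3b5b2100000000000000840ce10a788ca08000000000000893dd53bba0d2a04000000000000137d967d34e7e0020000000000006d204c54f279d0010000000000002f9b047cd65e4600800000000000dd5ed040ac508e0040000000000010a6c0a6bfe1d200200000000000d28f6773358002001000000000004133661459234e000800000000007e8fefc1f020ac00040000000000978828d4f2525200020000000000b385bc1ce6b45c000100000000004d1ee2d748b23a0000800000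0000408e994b62d73800004000000000d4aecec106094200002000000000be687cb9ee8180000010000000002f8181ccf4dd10000008000000001194a7f2718dfe00000400000000923183b9751c1e00000200000000b4719ca6aca06e0000010000000034f7d085a4c9d4000000800000000c23a1fb78d57c0000004000000040c262ba6b7cb8000000200000005f633f6a478c7000000010000000c01b6f786c7e5c000000080000008778b8b799664600000004000000f575ea4566c69e0000000200000059bd50b4823a3600000001000000b11fb3ab8ec73000000000800000b1a09c1b82940e000000004000009f1ad310b747a400000000200000098809bb95282c00000000100000e6763d3ba2aec80000000008000086afc33a34a32800000000040000ce784b4b6162a400000000020000fd927f10f2adf200000000010000942c9b233e855a00000000008000a9ad13ae93482200000000004000456c059ab9eca20000000000200042b36219cc7314000000000010004c9d611a8ca54200000000000800c3867975f39bf2000000000004003d0d2f2ce0d3d8000000000002009a01b6f2e16852000000000001009b90746cbf311800000000000080f6d951aebb880000000000000040ca45bc1c050292000000000000204d05b135d2637c000000000000107577d86376526000000000000008e66b8f3e26c5000000000000000438b1b72dd9b89200000000000002e6a851455b4c8e00000000000001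

/-- matrix -/
def B7 : ℕ := 0x2d9ccd1310c629962a18029e6e6544dff93fee24b25b725ca6ea916f28d188629bf0fd2123c3cc76bb1d8de77fa48c1335444785830566fe650e5f26a8ac8302b33d54db28e0c4d2f2a20b23b90135783540115617e9c76787daeaf5dced24ffefd59901df479e8161745fc5238af87116c6f6b135cbbc5fa4aa7bcefc00a5eb825b44c8ab5e55049a7e4b97d711eb3ebbdbe29c22eba55cf67573b9c7ab50f598bcdea661aaabab774d9403e079c6cc2cf84ab9c6b111896226a573f38810ffbbb41b696bac685ecc4b27b4f023a789442040da2f49680c9b175086b0b852f82920dfb85110bfdd84e411219c0f785770666f210f2702f805dfaab52377574e88935ba537e24651162a7a883dc5c88740787937dd3ed77dffe9fdd2e1b6b953a68b218a98eb2be8b5fed3c4e0a50db07708fe44534307082ae6a642f7801309d3d1e4f0b514e208bdd9d9665ddde09db97cc614923cd41adce6702da288b7e6013e1b585b4f44d55378c48d52b0a5ce01159d6b8778fc3c4eb108f727bbb5a039b0db1106d005975bb3ef0b6d0c7e3baefec7103df228091f35f087aaad3795d3e9accc612da5ea460be23fa0a2c4eb1c94945d24055ec76e3a523ad52aa3a869b68be33519d70847c96360a5db4fc05a62a0c2ad50ad41c964617b692db2e2ba0c151358037c69376c32684325c981d205c6f29ea72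d34d78e8770a7f445036774454859ad42961bb559d083cda4b6bc91b00c344f9fd1086230afb4955e62b387f828f23a2e5883024552767c6b7c7fb0707e2cd03f22f0492906456e49e9df6908c09ca5cffba8af0e4e89b011bbcc2840804d1e99b965b75f376ed6c8323ba299e6ce183615528e93dc09a6d7948c30d024027cbc593940f7a4eadb9a53127e8d83512f22d2ffe504aa429defe19ea85749bb6bec24545fd88274379ef594dbf41e09742aeb216592d47e3f65c0674f3c6587d153eaa4706ca416a607e0536368956d6f054ae14a97a33a9088fd657cd6e92cd4837cad079fed66d0ef5cc45d0c47cca2979a5e883529c8d2a6de5e8cce547e2d4dbc27a00065150fe199b6beeaad4c049f4acd512b231d2bf41f5c3f5bd87f6aa18b861bfec47f58178cc99e7b330da5dadd55419a2ebaefef9629c12c481cffb845578f13f328e43f0ddc76d54130761e10bb853ca15d542c3fb04d60b8fd5d6df4a08d1a1bad8eddd61074564542f9a92531914680aca4888fd417dc8620a0c3be00bd951a0a59e80ff776f02f8962c93d2471f637c62f655483bf2c93632c714bc37a55636b2a48f899bb445fe2dc7fd4db111405c55b1026fd55f93b278753bb7f4c9ba113becea479ddba0195839a88764ab152b78ebfa74c181a7a2dab4669e411c78316950d264d25f353c6d7668a3a897f44995bb44ff9cd5ad4bc84b32d85303e8445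669469a3014565a0f7fe92c207a2be34463749b93758cb6b3254429dc33e65b5327c9d5daae858ae8c8f1e804722ab47943046c055c8d7eca76a4fda96d654e70a2ee17156dbc82c2a7157a6dd9c7b917a0d8c2d4b54993aed9f686e9ae7a1a4caf860e613e1d5c8ce8659181b64cbe00797eea81dea6ffecd02338fb9d95b10d896472f90807a7deed7d714983f7b778b7dbcccc846a86c147b62eac87a43baa4f870d05877c21ee87bb5dee5b6bcea6068afb0c9b47b5a5b699d4d2aeca3d43af5b0bcd28d9096c804bd1677c28c2dea81d687af8b8d2f8f27d2ff94f6ad95ab011555ff6c93ccbf19b728eede292a93835fac18520bf68eec409f482f7e60867a93e86f7277a9b580d6221ed25b9b759d52cb33d6a9e1724de89ff90103886ef4778d167ebb53df981d2024310324e52096d391f5b1b260afb3429847a37007eb57487a8056a528e61ce8f43d5ba4a1864416f972ee3dc1ea9420ef6ef480241ffdfe69ca14ddb1b29340bc868ac21c0926f4a3929485a1f57dfa2f55893e5d2333045710cd6c8813dc3a89440448dc6beebf0b761a773509b282dc990a203418497a3cf651015a5e14c90a5e1ad8083b13991dd1966548f0a644a035fc47def29a1205f6ac777d53aa013b6e9615aa8f217b315c09085565642ec9a482a173ccdf6734a443adc4f890f013501e451653efeb6fb9acae13b54a57266762990b53d96b64fbd057c9bebe5617697189d2c5a28ce79a2a7112531d72f49f1b0b3da80c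

/-- matrix -/
def f7P : ℕ := 0x800146a2faaba7516286c0998a4a400516f3ae531b4bbd3f8860664920000aa26ab50a888a97bfbe292c10040272697b786518306b7214de080059ee12d036e1c0bf9bb5d7fb04000b27742031dfb883f1b9ff120204520cae3c9d3c6136d8babc6401051d50765dc179042274f6334100800e0de46bafc3d61e2115c39a00455e77ba76ace141d855db641800254eaac65fc99a1e72e02ae7e8001504af801d3657d231b5d5d4a7000903a899e853d42c70c17c1926000027981f2658f18d80743825f7000300f26d3f795827b414f2f1c00000d078ef5a5ca508eaa607173e000143f6f17eaaf6bdeaf73cbf00000543220157fe7717e5e52beb1a00014aafdfe83121e1317fcb46340004184421d7a458229880eeba8b00050c15163b0f242d91f442015b0000102e04291713325971b895260005123b4cd5bc4525183bccdf540005450a170ea78cd015dab2d545000455f54425dccd56a78967fc0800011af229dd7d3b5cc330fb6c5f0001511dfef16b01c1cc55f6d7f100004dd26c9a823d457f8b6ec896000516f3c95955a8459e8fd05f2c00015be1885705041e4a60db53ff00051533eb3bc454d6fd22d776e6000405adf3a2f940092c57fe1d48000102444a39ffa1d9cbf5317a9d00001ef631956e0576948722d83b0001180ec08376834b263eb322c200055d1464c66cb326438f22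4edf00001b0c4863158d675cae86257900051e6bcc9920adfbf96861c7790001488481daec13d4ce31e2db4400040c6788a955288a89044d8395000108e0c121c831b5074a09132700015d854961a6c00b827f65d81a000145ac1301451dbc1247e7e1230004015084a206a791359fd91bb300004609c12ab0e4f1a7c7b0e530000515f504f2dfd8c2c86b6ce1c7000056fea8fde150f78e030d4dd20004433d91772762afd6eae28cda00000b0dbb4bcef94ac10149be8400015b5b5ef5209cd0b6a11959ed00001ec0065e54a130cd5bfa6a1a000557e68fce0b2587a0a57274b800051002c47cad845e9fd7cc9385000047b12ec8b75221cb15fe59640004049b2693105e7a380de7a15c0001037c42f96846bf11077114ca000515ba16a96a0e50596ccdf533000416f5690245cc6c5d32e1cfe600045070b5c7d2c77ce800e4c2f000045267527c62ecd761681525c000000eb4b493f46953241b324cf000014a3e489fb249f60d1ac49723000406f8b2cd95af833b41dca140000407d7bd132cbc04527351c1a800040a050795b9aeb886506911c5000557d1e8500ccc02b7b2d56587000442e84a461b2696ebf6f898c7000448d0d142ec74d0cec1f0062e0000101a1b82cea8b2b847ec6a0900010a5ef7b195fb13e91152997c0000561ce8ebf2406906e57d958300041eee34249af3ce90c6ea28a1000555cd80064e9b0196ff923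cf5000047e0dfa88866270e983de473000041a30a4de4d11656b9525f4f0004167a9e2478c073899d2de240000446ec995dbf7cf37a0cf6391f00050e5e3524243d06bab93ce35500000f1a8c7df523a815a52847240001171812df0ff49f87b42930ea0000458fed09c28cbfee878cd62c000514aa8a0e54c5cd2319068aaf00051fc217238c9c7cc0b8e1773f00051f4c18a03be9d575dd8958ea00014518e48337788c1a91a137f8000045ee40d1e4b4046c5c5f96b600001aa61dcaa7fb1e4e097203f70005555a6ca99ccea6ee0af5220d00054bdcdd7349c16139ae5ec7e300054b50b806263cd0f7633ae147000115be711d1222b4e472ce5af800010130c40e1984fc86775234bd000108e42ddba3c7144db1889fb200041d1a236a3294f435a57a1400000414f924a7c4cb1339b528e0f80001011dcc8c75f5903931ed588f000141c65b118a0cfcc282f1c30f00054296e7ea53179fe37be11af60005151dd9ce6f6caf7a59776e4500011d6dbb79cdfc73b8c838131800011e2b45b32386af5734236a970005013b17bdddf3adfc65cba11e000041410b6ed91cd00ddaf7dbe400001473530a8f1c42527c8a81fe00054510cd5ba2c38d0400042c3200005ee9c5603e3b9dae8654a4410005416e16ea897155719efe534600004a6b2fe49db7e8abd2b590e0000100f648ce7696f8174d68012f0005009c84ee693ff8745b5469b400014e3b634df0a780ccfcca2b3300005fd654e15c2ac15fdc747cfe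

/-- matrix -/
def f7R : ℕ := 0x80004d1310c629962a18029e6e654000f93fee24b25b725ca6ea916f200088629bf0fd2123c3cc76bb1d1000ffa48c1335444785830566fe08005f26a8ac8302b33d54db28e0040072a20b23b9013578354011560200c76787daeaf5dced24ffefd50100df479e8161745fc5238af871008076b135cbbc5fa4aa7bcefc000040825b44c8ab5e55049a7e4b970020eb3ebbdbe29c22eba55cf6750010c7ab50f598bcdea661aaabab00089403e079c6cc2cf84ab9c6b10000e226a573f38810ffbbb41b690002685ecc4b27b4f023a78944200000af49680c9b175086b0b852f800015fb85110bfdd84e411219c0f0000b0666f210f2702f805dfaab50004f74e88935ba537e24651162a00002dc5c88740787937dd3ed77d0000f5d2e1b6b953a68b218a98eb000031fed3c4e0a50db07708fe44000085082ae6a642f7801309d3d100003414e208bdd9d9665ddde09d00004694923cd41adce6702da2880000017e1b585b4f44d55378c48d000025ee01159d6b8778fc3c4eb10000a7abb5a039b0db1106d005970000ef036d0c7e3baefec7103df200009f31f087aaad3795d3e9accc0000a5e8460be23fa0a2c4eb1c940000a4045ec76e3a523ad52aa3a800000be3b519d70847c96360a5db00005a62e0c2ad50ad41c964617b0000b2e29a0c151358037c69376c00004325d981d205c6f29ea7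2d3400000770aff445036774454859ad00001bb55dd083cda4b6bc91b00c00009fd10a6230afb4955e62b3870000723a2f5883024552767c6b7c0000707e2c503f22f0492906456e0000df6908809ca5cffba8af0e4e000011bbcc0840804d1e99b965b70000eed6c8223ba299e6ce183615000013dc09aed7948c30d024027c0000b940f7a0eadb9a53127e8d830000a2d2ffe704aa429defe19ea80000bb6bec25545fd88274379ef50000f41e0974aaeb216592d47e3f0000674f3c65c7d153eaa4706ca4000007e0536348956d6f054ae14a0000ba9088fd757cd6e92cd4837c00009fed66d0e75cc45d0c47cca200005e883529ccd2a6de5e8cce540000cdbc27a00265150fe199b6be0000cc049f4acc512b231d2bf41f0000dbd87f6aa10b861bfec47f580000499e7b330de5dadd55419a2e0000ef9629c12c681cffb845578f0000a8e43f0ddc66d54130761e100000bca15d542c37b04d60b8fd5d0000208d1a1bad8addd6107456450000a92531914682aca4888fd417000020a0c3be00bc951a0a59e80f0000702f8962c93da471f637c62f000003bf2c93632c314bc37a5563000048f899bb445fc2dc7fd4db110000c55b1026fd55e93b278753bb00001ba113becea471ddba0195830000764ab152b78ebba74c181a7a0000c669e411c78314950d264d250000c6d7668a3a897e44995bb44f0000dad4bc84b32d85b03e844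5660000a3014565a0f7fed2c207a2be00003749b93758cb6b1254429dc30000b5327c9d5daae848ae8c8f1e0000a2ab47943046c05dc8d7eca70000da96d654e70a2ee57156dbc800007157a6dd9c7b91780d8c2d4b0000baed9f686e9ae7a0a4caf8600000e1d5c8ce8659181be4cbe0070000281dea6ffecd0233cfb9d95b000016472f90807a7deef7d714980000f78b7dbcccc846a87c147b6200007a43baa4f870d0587fc21ee80000dee5b6bcea6068afb4c9b47b0000e99d4d2aeca3d43af7b0bcd2000016c804bd1677c28c2cea81d600008b8d2f8f27d2ff94f62d95ab0000d5ff6c93ccbf19b728aede290000835fac18520bf68eec609f48000060867a93e86f7277a9a580d60000525b9b759d52cb33d6a1e17200001ff90103886ef4778d127ebb0000981d2024310324e52094d3910000b260afb3429847a37006eb5700000056a528e61ce8f43d5b24a1000016f972ee3dc1ea9420ef2ef400001ffdfe69ca14ddb1b29360bc0000421c0926f4a3929485a1e57d0000d5893e5d2333045710cd648800003a89440448dc6beebf0b721a000089b282dc990a20341849783c0000815a5e14c90a5e1ad8083a130000d1966548f0a644a035fc475e00001205f6ac777d53aa013b6ed600000f217b315c09085565642ee900002173ccdf6734a443adc4f8800000d01e451653efeb6fb9acae1b000057266762990b53d96b64fbd40000bebe5617697189d2c5a28ce500007112531d72f49f1b0b3da80d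

/-- matrix -/
def f7Q : ℕ := 0x8000000000000000000000000000400000000000000000000000000020000000000000000000000000001000000000000000000000000000080000000000000000000000000004000000000000000000000000000200000000000000000000000000010000000000000000000000000000800000000000000000000000000040000000000000000000000000002000000000000000000000000000100000000000000000000000000008000000000000000000000000000400000000000000000000000000020000000000000000000000007e868000000000000000000000000001000000000000000000000000b8f84000000000000000000000001af8200000000000000000000000f3141000000000000000000000008a3808000000000000000000000088f9040000000000000000000000d94c0200000000000000000000000d11010000000000000000000000cf6a00800000000000000000000015570040000000000000000000000bf4002000000000000000000000d1e400100000000000000000000006df0008000000000000000000005d610004000000000000000000000a5900020000000000000000000096980001000000000000000000003f3100008000000000000000000003b0000040000000000000000000fa8a000020000000000000000000687300001000000000000000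00004118000008000000000000000000b283000004000000000000000000632f0000020000000000000000008de6000001000000000000000000a3790000008000000000000000000867000000400000000000000000a4b8000000200000000000000000e7f9000000100000000000000000967d000000080000000000000000d30200000004000000000000000061310000000200000000000000004a9a00000001000000000000000002400000000080000000000000005e6e000000004000000000000000303800000000200000000000000033fa000000001000000000000000225c0000000008000000000000004a47000000000400000000000000af99000000000200000000000000cca1000000000100000000000000ea32000000000080000000000000cf37000000000040000000000000fe0b000000000020000000000000a81000000000001000000000000027e2000000000008000000000000b3f7000000000004000000000000f423000000000002000000000000b3010000000000010000000000004c05000000000000800000000000382100000000000040000000000002160000000000002000000000005ba20000000000001000000000006856000000000000080000000000b9ab000000000000040000000000d96b0000000000000200000000005ecb0000000000000100000000003181000000000000008000000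0007c9e000000000000004000000000eb270000000000000020000000005ef40000000000000010000000001ddd0000000000000008000000001703000000000000000400000000fde0000000000000000200000000f0ec000000000000000100000000581200000000000000008000000034ea000000000000000040000000e054000000000000000020000000df1600000000000000001000000065a40000000000000000080000000eff000000000000000004000000c565000000000000000002000000a8b2000000000000000001000000a2c2000000000000000000800000b3c9000000000000000000400000c1ea000000000000000000200000f864000000000000000000100000c03100000000000000000008000071ce000000000000000000040000f32c000000000000000000020000e18900000000000000000001000020750000000000000000000080006fe0000000000000000000004000ef0f000000000000000000002000f6c6000000000000000000001000e36f000000000000000000000800dbca000000000000000000000400692e00000000000000000000020063090000000000000000000001008773000000000000000000000080ea9a0000000000000000000000409d75000000000000000000000020544b000000000000000000000010767d0000000000000000000000086ab8000000000000000000000004fbd40000000000000000000000021cdc000000000000000000000001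

/-- matrix -/
def f7S : ℕ := 0x80000000000000000000000000004000000000000000000000000000200000000000000000000000000010000000000000000000000000000800000000000000000000000000040000000000000000000000000002000000000000000000000000000100000000000000000000000000008000000000000000000000000000400000000000000000000000000020000000000000000000000000001000000000000000000000000000080000000000000000000000000004000000000000000000000000000200000000000000000000000000008000000000000000000000007e87000000000000000000000000b8f84000000000000000000000001af8200000000000000000000000f3141000000000000000000000008a3808000000000000000000000088f8840000000000000000000000d94c0200000000000000000000000d10810000000000000000000000cf6a00800000000000000000000015568040000000000000000000000bf4002000000000000000000000d1e400100000000000000000000006de8008000000000000000000005d608004000000000000000000000a5880020000000000000000000096980001000000000000000000003f3080008000000000000000000003b0000040000000000000000000fa8a000020000000000000000000687280001000000000000000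00004118000008000000000000000000b282800004000000000000000000632e8000020000000000000000008de6000001000000000000000000a3788000008000000000000000000866800000400000000000000000a4b8000000200000000000000000e7f8800000100000000000000000967c800000080000000000000000d30200000004000000000000000061308000000200000000000000004a9a00000001000000000000000002400000000080000000000000005e6e000000004000000000000000303800000000200000000000000033fa000000001000000000000000225c0000000008000000000000004a46800000000400000000000000af98800000000200000000000000cca0800000000100000000000000ea32000000000080000000000000cf36800000000040000000000000fe0a800000000020000000000000a81000000000001000000000000027e2000000000008000000000000b3f6800000000004000000000000f422800000000002000000000000b3008000000000010000000000004c04800000000000800000000000382080000000000040000000000002160000000000002000000000005ba20000000000001000000000006856000000000000080000000000b9aa800000000000040000000000d96a8000000000000200000000005eca8000000000000100000000003180800000000000008000000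0007c9e000000000000004000000000eb268000000000000020000000005ef40000000000000010000000001ddc8000000000000008000000001702800000000000000400000000fde0000000000000000200000000f0ec000000000000000100000000581200000000000000008000000034ea000000000000000040000000e054000000000000000020000000df1600000000000000001000000065a40000000000000000080000000efe800000000000000004000000c564800000000000000002000000a8b2000000000000000001000000a2c2000000000000000000800000b3c8800000000000000000400000c1ea000000000000000000200000f864000000000000000000100000c03080000000000000000008000071ce000000000000000000040000f32c000000000000000000020000e18880000000000000000001000020748000000000000000000080006fe0000000000000000000004000ef0e800000000000000000002000f6c6000000000000000000001000e36e800000000000000000000800dbca000000000000000000000400692e00000000000000000000020063088000000000000000000001008772800000000000000000000080ea9a0000000000000000000000409d74800000000000000000000020544a800000000000000000000010767c8000000000000000000000086ab8000000000000000000000004fbd40000000000000000000000021cdc000000000000000000000001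

/-- matrix -/
def B5 : ℕ := 0xdf3a2c0dd184371bab223f6b963e252de8fc99c547a6c4c94e3bdeb2d18b8834c713c845c40fca2ab5cc779c4d791be989751ee32511fcf323b8eec2e4e80112ba747409bb518feb6ac1b9569a78278f60ce00ebc1e223b71d10f7d308eb32a1e765be4efabd321742e316b84f3204f4273bb38d7a43027d31761cc31fa3db7565c4ec9648c43ad72df41758a5eb1e15a00639c2532ee8f8b4400e16dc3fad9353dc69f797eb0e9b89518ccc8a1a3946274e6e827a03ee38a7e68173a1180c339d8c69f28f5f0df6f4cecab474b55ba3dd5cb59480e23c782448208db8fb3940d65225b7a39f6856eb4ac03c6db440790b3afa3649e21f70704f0419d469d9707d9150699e1892e6c05710a673973d18aa03a49575b39bb7c2aa8e87aa648a3b333f32630c2b5f38a6e29f2612cbe512c80db8d7e1a7b58917e73098d3f3e02a6688ce0dcdcace6a8dd354bb4544b5107e4ceee54228a67255cded9f8196c6f5b76502c15d40c131c6c7634b21bc7c56b7ed53a4d82da80849ac558c1a0cbbbf59f42d0781837aae032eea901d3359b596fb407fe683368113f31ceb6232d49bf54a8f12a8f3e1820bb6e31a04645239be2fcdad9b0485a065a3c8b28da2be180ab32e1c378d0886943dc6a4027bf3a55a672b763267f2c7a172a86411b5fcaee8cbe276acd5ea606c2f130711f8b0c5968a322911e8a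e4cddb344acfa974db628fc389f41ffb90ebd6e0f0a9ebc9bff9765bdbafa118622f3e05aaf17e539cfd94fa33a7e8a64aadab5f315ebda1d0d90a5fe87ab459e5c698d7c8840da750fcbba5ecc5d2f6786d02b7c6c294e85cd699b072fbdd75bf32176ed554f1db32999d55b361a9152f5025ae090a4f4be62da851ab686f8675e0b7e964e11793f1320edb2fe68b5f43b508bf70fc46dc2f900a73793592732e55afcfff85b5346a931dd15939385b108527c7fdd88736a66da02480f32225f258aca40ad432532d636868c452bfc063e759be974b8e42c2e78375165b5d2d2af76a409e6d06318a2506750c59bfcf46028ba5313fb6e786763701eba5940982efcdbfc2554eeef5f64b448b034bdbd2cc5efdebbe7819b526a4113897d52ba63faa21bd1e8c024c713b6e1b543f7c3785b86655eec3fd726aa08d96d0d97e08e68dd97fc5a7f0273f1ee580345583984bc0879f2f8157ef4f050596695ada89e81ceb4623334c09855b3e54d2943fc22ae384c7591e18cc7d0cdd2cadbde14004bd55b3257b9009c320d3e90b91e0d3bb44699ee24d164e5752d6781569517359722e02207b1280ba02da271e24c31c9ca7bcba4a2684d98f6d19513054a3c1f668ba3f39646671662bfcba55ed36f06eb60c59608efd2adf03e135bb85a4f25caa7dbdd159cf88ea9a1e0af3b0f56937e21d7753c4c87265183be1036d47df96aa9a2a5be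630064cfa3a93fbddc379615b43aee235a981d2e130ce6b067f9669ee0c03a21de3028083b78b6a27d703f83c8f9ff901173c1d0758645821fc014ca7e925501a54649f9a1cf66a7182f8e34942e8a866add21a9c019caa1bfc29792c62b4e438bb53f8ab3f3d481d5bb1032b9f706855b04f7cca36c9c91a729385598e2434637230bc4d6a1e7e63a14eb0cfa0b13de5fac1ff03a83f20e54a9c0a2e55d45e0496e54f93020309e963fc9bd9c4ee67a43018bf0ba0ad5a0a4dc416d5dd597ae2e8b9be189b2275b2f1949dd76ff321848eddca314229aa681785dab0cd45099aea1cfeafd8a554670edd4ede54ab6c4dcec1a78228b2ed6b49de27822a65026a1bff0ec3c5cd98c7202821635ab9c5ab9ced2f7a1ed67e78b86e695c1197658c5a2f777c7f0de3b7be45181afa19ce275652a0a80573becfd995122b4c0c814256c0c1c19b58a5b3bfb1bcbdde7a40b603d8cacf1751eb394973a0c816e8f192be95e78459cfa7f8d7ce0cadce51be7f733e68bb6f6d150e33389f5177843f492b21aa588f20dc5261a2b49d1871450f99e37fcef77d2529ca022b78dad932d5cc98dcbbc7ca83c7faf60c9aaf34caec7ada9c5af95fb1fb279f573e5ee2d2d236949bdb8915ec99dcae161a8ad73b3197ed7da9bb32447e5eff60a240ecd2b191bb10dbdd57783843347e763dcc9c6c2858d7ceb11e3f45661467316ebd87cc67bb8c3099fcf4a112c964bd13bbf50bad748eb74242f271630aa1939a2d960b14452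

/-- matrix -/
def f5P : ℕ := 0x8000080026c9fba53874ea7178eb4000000d61a19f70de16a169de5b20000843311e89193e3175bd507310000813d390ac507a1c29ceb89e080008910424388610ee5938813104000850039eec4e2d7c8e88346002000047c9ac32391fb921b95d9a0100001c21b65539999c69984912008008050821945b7b772eae7e800040088594b5ecdc0f4d6d774a730020004f4fcb23bdbb6d4b398ae200100003b3c620d8ba0dd817971100080013639987ac68c1cd05f162000400d84f25f508450a6d2b34fa0002009422dfc1aa86062d816b8300010891473a62fbaf0aa5fb88e900008898c0508207304b0676ef820000484eec6378af13865098df2c000028154f32f8606c51676038cb0000108292d58e219c9aaddd639a000000bbe7c54e3209f19642a0af00000481fed73f4496e94f97bd23000002114c2e5204f65d71cc33ad00000104a051766ad2f76fa795df0000000402e2071a30058351dc7b0000009fae61a115b7f5317d226000000856260c4d5a0c570b4b350f0000088b860e821973fa8cc2162b0000000bbd9b31ec27e88579ba62000000c85aa64c9dace0cb250d67000008cfd33bb0f8a73d24f5d9190000088dbbe25d14c0023d6d71ec000008d68be35e85828a636e680500000097c049a39162c8eeaa275100000090e291b9604254e2cc1639000000ca652ea064a05a91ca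a8430000009e8c06b2bdf4d7edf4286d00000816c52886027c5c4b2e0094000008085d151478e4b715aa82d200000097ac5920f3d53025ff04d0000008515268f4113c17f85e0e5a0000081bcac89e1d7d22dc3971ec000000191d46384aebb450f85310000000d15a40c026b911a6f990df000000031a4081f40f08eae43ad9000008d96a50b8029c51f87a977500000844060301b626bade4b87de00000813b30e109f653ce8a7f6da000008118718e5766813a1ec7dc2000000d4ed7f98cd3eaccccea61500000855600c0fdbc7b010744f580000085f9ae02419484ee1b5f299000000cd5e66842fae96652cc6650000080ec11dafd84009a53ae88c00000049a6bb9074d91a8ba9a8fb00000056fe1b378009bad6dc16940000081f1a6f67c34c556d1705e1000000c68a64ac1aead02a9b3c5d000008c8b382695c857ad3e361ff000000035f9dfbaee44ceb2c06de00000857e8cd6978b20ccc1fb010000008088fa9a6b5376233c6ebba00000054c1281743f2617663cd5b000008921dd2be7c69377a8ae73000000815fc6ad22f856af923c1a00000085b45e4e57b3ee2bd3ade190000080329e8bfc0e7f6633cd20e00000853ab228f3581e43ed2b7c7000000961d03a80582b1afc0dbc100000011a8392d191d26906a2855000000dc380b284732fc71ed7e9e00000814af996b98308138e4e13d0000080dd396e6b4a28a7013f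5f50000089d7d45638cf5bc45d99bea00000000d789ab52a2b707f1a3020000080c30974aa12383f3d9b37a00000090b60cfa2a5791dbeed241000000d43a30c34bb7985d194ed5000008d919bd85aceff9be1763320000089d18669bca82b1ca2917b60000080cf99fc1140f5eeb9be5ce0000089467d878d7c5324a9406b4000008d7e5bdcb1568b3ad7e0a40000000d747ffd5e452c1bd810568000008874ac4ebf837ddb82eb540000008877d6597113d2a06cb02c50000085ee2aceac8d84e9b77eee00000001b3d01145e3b5a667ff2b50000088b827d47a2ac863153970400000041946cd91a5b755580ce3a000008d4b41ec4f3bedb97e5d8710000004785d213a0decce98ea9c100000844eb345bc71c55212ff0410000080234bdc6bc4c7ec050d51d000008deacc2873e99e6a3fa92d50000009eaa515c30dc21437452c00000001d9607889fff44cccb3d40000000dc2381eb164dbdbc5381920000081b01fc8aadc655d3dc2daf0000089978802136faf1670b335a0000080998b352b28237406b8f980000005d9d83a1f166b260e78e310000008c0cecdecdb528ae1f98f7000000d94022f3a87a8149d19d5d00000050b2e892997913caa754680000080c92619d7209ab873d94ea000000d83d540118c05741127570000008df71cffcdb30f9b850210f00000099fe36c875a0f664266ca6000008c2c2d5f262cc3bfd283a720000001fd1244a731eae1253bc01000000c430940bd44165f5599914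

/-- matrix -/
def f5R : ℕ := 0x8000000dd184371bab223f6b963e4000007c99c547a6c4c94e3bdeb220000034c713c845c40fca2ab5cc100000b91be989751ee32511fcf308000042e4e80112ba747409bb5104000041b9569a78278f60ce00eb020000f71d10f7d308eb32a1e7650100007d321742e316b84f3204f4008000cd7a43027d31761cc31fa3004000c4ec9648c43ad72df4175800200015a00639c2532ee8f8b4400010003fad9353dc69f797eb0e9b0008004c8a1a3946274e6e827a03000400e68173a1180c339d8c69f2000200f6f4cecab474b55ba3dd5c000100623c782448208db8fb3940000080f7a39f6856eb4ac03c6db4000040bafa3649e21f70704f0419000020b07d9150699e1892e6c057000010d73d18aa03a49575b39bb700000047aa648a3b333f32630c2b000004629f2612cbe512c80db8d7000002c917e73098d3f3e02a66880000014ace6a8dd354bb4544b510000000254228a67255cded9f8196000000a502c15d40c131c6c7634b00000836b7ed53a4d82da80849ac0000001cbbbf59f42d0781837aae000000581d3359b596fb407fe683000000f71ceb6232d49bf54a8f12000000c00bb6e31a04645239be2f0000008585a065a3c8b28da2be180000001cb78d0886943dc6a4027b000000276b763267f2c7a172a8640000006ec8cbe276acd5ea606c2f000000f8a0c5968a322911e8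ae4c0000006cf2974db628fc389f41ff000000ae0b0a9ebc9bff9765bdba00000022f1e05aaf17e539cfd94f0000004a65aadab5f315ebda1d0d00000047abc59e5c698d7c8840da000000fa5e8c5d2f6786d02b7c6c000000cd69bb072fbdd75bf321760000009db33999d55b361a9152f500000050a4fcbe62da851ab686f8000000be964a11793f1320edb2fe0000003b5089f70fc46dc2f900a7000000a732e45afcfff85b5346a9000000d393853108527c7fdd887300000002480f72225f258aca40ad000000563686ac452bfc063e759b000000642c2e68375165b5d2d2af000000e6d06310a2506750c59bfc0000007a5313ff6e786763701eba0000002efcdbfe2554eeef5f64b40000007dbd2cc4efdebbe7819b52000000c97d52bae3faa21bd1e8c0000000f6e1b543b7c3785b86655e000000a6aa08d94d0d97e08e68dd0000003f0273f1fe580345583984000000f2f8157efcf050596695ad000000ceb4623330c09855b3e54d00000022ae384c7791e18cc7d0cd000000de14004bd45b3257b9009c00000050b91e0d3b344699ee24d1000000ad6781569557359722e0220000000ba02da271c24c31c9ca7b000000284d98f6d18513054a3c1f000000f3964667166abfcba55ed3000000a0c59608efd6adf03e135b000000a5caa7dbdd179cf88ea9a10000008f56937e21d6753c4c87260000001036d47df96a29a2a5b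e63000000e3a93fbddc37d615b43aee0000001d2e130ce6b047f9669ee0000000de3028083b78a6a27d703f000000ff901173c1d07d8645821f0000003e925501a5464df9a1cf66000000ce34942e8a8668dd21a9c0000000ffc29792c62b4f438bb53f000000d481d5bb1032b97706855b000000636c9c91a729381598e2430000008bc4d6a1e7e63a34eb0cfa0000001fac1ff03a83f21e54a9c000000085e0496e54f93028309e96000000dc4ee67a43018bf4ba0ad5000000016d5dd597ae2e899be189000000af1949dd76ff321948eddc0000005aa681785dab0cd4d099ae0000007d8a554670edd4eda54ab60000001a78228b2ed6b49dc2782200000061bff0ec3c5cd98c620282000000dc5ab9ced2f7a1ed6fe78b000000c1197658c5a2f777c3f0de0000001181afa19ce27565280a800000007d995122b4c0c814246c0c000000ca5b3bfb1bcbdde7a48b6000000071751eb394973a0c812e8f0000009e78459cfa7f8d7ce0eadc000000f733e68bb6f6d150e3238900000003f492b21aa588f20dcd26000000d1871450f99e37fcef73d200000022b78dad932d5cc98dc9bc0000003faf60c9aaf34caec7aca9000000fb1fb279f573e5ee2d2da3000000f8915ec99dcae161a8ad3300000057da9bb32447e5eff60a04000000991bb10dbdd5778384335700000049c6c2858d7ceb11e3f45e00000096ebd87cc67bb8c3099fcb000000564bd13bbf50bad748eb760000009630aa1939a2d960b14453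

/-- matrix -/
def f5Q : ℕ := 0x8000000000000000000000000000400000000000000000000000000020000000000000000000000000001000000000000000000000000000080000000000000000000000000004000000000000000000000000000200000000000000000000000000010000000000000000000000000000800000000000000000000000000040000000000000000000000000002000000000000000000000000000100000000000000000000000000008000000000000000000000000000400000000000000000000000000020000000000000000000000000001000000000000000000000000000080000000000000000000000000004000000000000000000000000000200000000000000000000000000010000000000000000000000000000800000000000000000000000000040000000000000000000000000002000000000000000000000024cbce80000000000000000000008a548840000000000000000000000000010000000000000000000000d00c582000000000000000000000d0ad8b10000000000000000000004e70e108000000000000000000003ac75f0400000000000000000000e1830102000000000000000000000fc20c010000000000000000000011a2ef00800000000000000000005573340040000000000000000000eb6ffd0020000000000000000000e75383001000000000000000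00004d24aa000800000000000000000027e26300040000000000000000003d9f830002000000000000000000394629000100000000000000000059eae700008000000000000000004038d30000400000000000000000c42ae30000200000000000000000c480520000100000000000000000a2fd880000080000000000000000824e6e000004000000000000000095aa4a000002000000000000000064c7f40000010000000000000000c21aaa0000008000000000000000a98c010000004000000000000000c109950000002000000000000000b663260000001000000000000000b4665c000000080000000000000040cacd0000000400000000000000fd454c0000000200000000000000c4577d0000000100000000000000e44bdc000000008000000000000031de2100000000400000000000008638c40000000020000000000000cd4d1b0000000010000000000000d6abad000000000800000000000067385800000000040000000000009c0caa0000000002000000000000f2a25f0000000001000000000000c7ed48000000000080000000000072d57c00000000004000000000000b53e80000000000200000000000b169d20000000000100000000000b7f6f40000000000080000000000bed52000000000000400000000001cf37c0000000000020000000000b018bc00000000000100000000006320000000000000008000000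0005c05a000000000000040000000001a7e73000000000000200000000092886f0000000000001000000000318b16000000000000080000000068f7750000000000000400000000f645cb000000000000020000000042c716000000000000010000000055ba8a0000000000000080000000a22236000000000000004000000015f1880000000000000020000000aaf4e900000000000000100000009a85ca0000000000000008000000d347e500000000000000040000005a835d00000000000000020000001413ba0000000000000001000000db451700000000000000008000001aa3780000000000000000400000b0f122000000000000000020000071f43400000000000000001000008342f70000000000000000080000c9fa25000000000000000004000067c299000000000000000002000084894a0000000000000000010000fc58a30000000000000000008000eb4dc500000000000000000040006768730000000000000000002000880f3e0000000000000000001000dc5512000000000000000000080050dcb100000000000000000004000f9c8f00000000000000000002003d71c8000000000000000000010013995e00000000000000000000808136af00000000000000000000400747d1000000000000000000002014fb69000000000000000000001031f1600000000000000000000008ba6ee00000000000000000000004e4750a0000000000000000000002e917f10000000000000000000001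

/-- matrix -/
def f5S : ℕ := 0x80000000000000000000000000004000000000000000000000000000200000000000000000000000000010000000000000000000000000000800000000000000000000000000040000000000000000000000000002000000000000000000000000000100000000000000000000000000008000000000000000000000000000400000000000000000000000000020000000000000000000000000001000000000000000000000000000080000000000000000000000000004000000000000000000000000000200000000000000000000000000010000000000000000000000000000800000000000000000000000000040000000000000000000000000002000000000000000000000000000100000000000000000000000000008000000000000000000000000000400000000000000000000000000020000000000000000000000000000400000000000000000000024cbcf00000000000000000000008a54888000000000000000000000d00c582000000000000000000000d0ad8a50000000000000000000004e70e048000000000000000000003ac75e4400000000000000000000e1830042000000000000000000000fc20c010000000000000000000011a2ee40800000000000000000005573340040000000000000000000eb6ffc4020000000000000000000e75382401000000000000000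00004d24aa000800000000000000000027e26240040000000000000000003d9f824002000000000000000000394628400100000000000000000059eae640008000000000000000004038d24000400000000000000000c42ae24000200000000000000000c480520000100000000000000000a2fd880000080000000000000000824e6e000004000000000000000095aa4a000002000000000000000064c7f40000010000000000000000c21aaa0000008000000000000000a98c004000004000000000000000c109944000002000000000000000b663260000001000000000000000b4665c000000080000000000000040cacc4000000400000000000000fd454c0000000200000000000000c4577c4000000100000000000000e44bdc000000008000000000000031de2040000000400000000000008638c40000000020000000000000cd4d1a4000000010000000000000d6abac400000000800000000000067385800000000040000000000009c0caa0000000002000000000000f2a25e4000000001000000000000c7ed48000000000080000000000072d57c00000000004000000000000b53e80000000000200000000000b169d20000000000100000000000b7f6f40000000000080000000000bed52000000000000400000000001cf37c0000000000020000000000b018bc00000000000100000000006320000000000000008000000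0005c05a000000000000040000000001a7e72400000000000200000000092886e4000000000001000000000318b16000000000000080000000068f7744000000000000400000000f645ca400000000000020000000042c716000000000000010000000055ba8a0000000000000080000000a22236000000000000004000000015f1880000000000000020000000aaf4e840000000000000100000009a85ca0000000000000008000000d347e440000000000000040000005a835c40000000000000020000001413ba0000000000000001000000db451640000000000000008000001aa3780000000000000000400000b0f122000000000000000020000071f43400000000000000001000008342f64000000000000000080000c9fa24400000000000000004000067c298400000000000000002000084894a0000000000000000010000fc58a24000000000000000008000eb4dc440000000000000000040006768724000000000000000002000880f3e0000000000000000001000dc5512000000000000000000080050dcb040000000000000000004000f9c8e40000000000000000002003d71c8000000000000000000010013995e00000000000000000000808136ae40000000000000000000400747d0400000000000000000002014fb68400000000000000000001031f1600000000000000000000008ba6ee00000000000000000000004e4750a0000000000000000000002e917f04000000000000000000001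

end Cfsg.Agent.H516.J4Data
end

-- part: H516/LinFix
section
/-!
# Fixed points of commuting elements in a representation over `GF(2)`

* `card_ker` : a kernel certificate `P A Q = diag(1, .., 1, 0, .., 0)`;
* `mpoly`, `poly` : polynomials in a matrix, packed;
* `card_modEq` : `|W| ≡ |C_W(c)|` modulo the order of `c`;
* `Rep` tools: pairs of commuting elements of prime orders.
-/

set_option autoImplicit false

namespace Cfsg.Agent.H516.LinFix

open Subgroup Cfsg Cfsg.Agent.Lib.F2Mat Cfsg.Agent.Lib.F2MatGroup Matrix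

variable {n : ℕ}

/-- the kernel of a matrix (on row vectors) -/
def Ker (A : Matrix (Fin n) (Fin n) (ZMod 2)) : AddSubgroup (Fin n → ZMod 2) where
  carrier := {v | v ᵥ* A = 0}
  zero_mem' := Matrix.zero_vecMul A
  add_mem' := fun {v w} hv hw => by
    show (v + w) ᵥ* A = 0
    rw [Matrix.add_vecMul, (show v ᵥ* A = 0 from hv), (show w ᵥ* A = 0 from hw), add_zero]
  neg_mem' := fun {v} hv => by
    show (-v) ᵥ* A = 0
    rw [Matrix.neg_vecMul, (show v ᵥ* A = 0 from hv), neg_zero]

theorem mem_Ker {A : Matrix (Fin n) (Fin n) (ZMod 2)} {v : Fin n → ZMod 2} : v ∈ Ker A ↔ v ᵥ* A = 0 := Iff.rfl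

/-! ### certificates -/

theorem toMat_xor (A B : ℕ) : toMat n (A ^^^ B) = toMat n A + toMat n B := by
  ext i j
  rw [toMat_apply, Nat.testBit_xor, bz_xor]
  rfl

theorem toMat_zero : toMat n 0 = 0 := by
  ext i j
  rw [toMat_apply, Nat.zero_testBit]
  rfl

/-- the matrix `diag(1, .., 1, 0, .., 0)` with `r` ones -/
def dg (n r : ℕ) : ℕ := Nat.mod (Cfsg.Agent.Lib.F2Mat.one n) (Nat.pow 2 (Nat.mul n r))

theorem toMat_dg (r : ℕ) (i j : Fin n) : toMat n (dg n r) i j = if i = j ∧ (i : ℕ) < r then 1 else 0 := by
  have h1 : dg n r = Cfsg.Agent.Lib.F2Mat.one n % 2 ^ (n * r) := rfl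
  rw [toMat_apply, h1, Nat.testBit_mod_two_pow, testBit_one i.2 j.2]
  have h2 : (n * (i : ℕ) + j < n * r) ↔ (i : ℕ) < r := by
    constructor
    · intro h
      by_contra hc
      have h3 : n * r ≤ n * i := Nat.mul_le_mul_left _ (by omega)
      omega
    · intro h
      have h3 : n * (i + 1) ≤ n * r := Nat.mul_le_mul_left _ h
      have h4 := j.2
      have h5 : n * ((i : ℕ) + 1) = n * i + n := by ring
      omega
  by_cases hij : i = j
  · subst hij
    by_cases hr : (i : ℕ) < r
    · simp [h2.2 hr, hr, bz]
    · have h6 : ¬ (n * (i : ℕ) + i < n * r) := fun h => hr (h2.1 h)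
      simp [h6, hr, bz]
  · have h7 : (i : ℕ) ≠ j := fun h => hij (Fin.ext h)
    simp [hij, h7, bz]

theorem vecMul_dg (r : ℕ) (w : Fin n → ZMod 2) (j : Fin n) :
    (w ᵥ* toMat n (dg n r)) j = if (j : ℕ) < r then w j else 0 := by
  show ∑ i, w i * toMat n (dg n r) i j = _
  rw [Finset.sum_eq_single j]
  · rw [toMat_dg]
    by_cases h : (j : ℕ) < r
    · simp [h]
    · simp [h]
  · intro i _ hi
    rw [toMat_dg, if_neg (fun h => hi h.1), mul_zero]
  · intro h
    exact absurd (Finset.mem_univ j) h

theorem card_zero_coords {r k : ℕ} (hn : r + k = n) :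
    Nat.card {w : Fin n → ZMod 2 // ∀ j : Fin n, (j : ℕ) < r → w j = 0} = 2 ^ k := by
  classical
  rw [Nat.card_congr (Equiv.subtypePiEquivPi (p := fun (j : Fin n) (x : ZMod 2) => (j : ℕ) < r → x = 0)), Nat.card_pi]
  have h1 : ∀ j : Fin n, Nat.card {x : ZMod 2 // (j : ℕ) < r → x = 0} = if (j : ℕ) < r then 1 else 2 := by
    intro j
    by_cases h : (j : ℕ) < r
    · rw [if_pos h]
      have h2 : ∀ x : ZMod 2, ((j : ℕ) < r → x = 0) ↔ x = 0 := fun x => ⟨fun hx => hx h, fun hx _ => hx⟩
      rw [Nat.card_congr (Equiv.subtypeEquivRight h2)]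
      exact Nat.card_unique
    · rw [if_neg h]
      have h2 : ∀ x : ZMod 2, ((j : ℕ) < r → x = 0) ↔ True := fun x => ⟨fun _ => trivial, fun _ h3 => absurd h3 h⟩
      rw [Nat.card_congr ((Equiv.subtypeEquivRight h2).trans (Equiv.Set.univ (ZMod 2)))]
      rw [Nat.card_eq_fintype_card, ZMod.card]
  rw [Finset.prod_congr rfl (fun j _ => h1 j), Finset.prod_ite, Finset.prod_const, Finset.prod_const, one_pow, one_mul]
  congr 1
  have h3 : (Finset.univ.filter fun j : Fin n => ¬ (j : ℕ) < r) = Finset.univ.filter fun j : Fin n => ¬ (j : ℕ) < r := rfl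
  have h4 : (Finset.univ.filter fun j : Fin n => (j : ℕ) < r).card = r := by
    rw [Fin.card_filter_val_lt]
    omega
  have h5 := Finset.card_filter_add_card_filter_not (s := (Finset.univ : Finset (Fin n))) (fun j : Fin n => (j : ℕ) < r)
  rw [h4, Finset.card_univ, Fintype.card_fin] at h5
  omega

/-- the certificate -/
def kc (n r A P PI Q QI : ℕ) : Bool :=
  Nat.beq (Cfsg.Agent.Lib.F2Mat.mul n (Cfsg.Agent.Lib.F2Mat.mul n P A) Q) (dg n r) &&
    (Nat.beq (Cfsg.Agent.Lib.F2Mat.mul n P PI) (Cfsg.Agent.Lib.F2Mat.one n) &&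
      Nat.beq (Cfsg.Agent.Lib.F2Mat.mul n Q QI) (Cfsg.Agent.Lib.F2Mat.one n))

/-- **The dimension of a kernel.** -/
theorem card_ker {r k A P PI Q QI : ℕ} (hn : r + k = n) (h : kc n r A P PI Q QI = true) :
    Nat.card ↥(Ker (toMat n A)) = 2 ^ k := by
  unfold kc at h
  rw [Bool.and_eq_true, Bool.and_eq_true] at h
  obtain ⟨h1, h2, h3⟩ := h
  have e1 : toMat n P * toMat n A * toMat n Q = toMat n (dg n r) := by
    rw [← toMat_mul, ← toMat_mul, Nat.eq_of_beq_eq_true h1]
  have e2 : toMat n P * toMat n PI = 1 := by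
    rw [← toMat_mul, Nat.eq_of_beq_eq_true h2, toMat_one]
  have e3 : toMat n Q * toMat n QI = 1 := by
    rw [← toMat_mul, Nat.eq_of_beq_eq_true h3, toMat_one]
  have e2' : toMat n PI * toMat n P = 1 := mul_eq_one_comm.1 e2
  rw [← card_zero_coords (n := n) hn]
  have key : ∀ w : Fin n → ZMod 2, (w ᵥ* toMat n P) ᵥ* toMat n A = 0 ↔ ∀ j : Fin n, (j : ℕ) < r → w j = 0 := by
    intro w
    have h4 : (w ᵥ* toMat n P) ᵥ* toMat n A = 0 ↔ w ᵥ* toMat n (dg n r) = 0 := by
      rw [← e1, ← Matrix.vecMul_vecMul, ← Matrix.vecMul_vecMul]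
      constructor
      · intro h5
        rw [h5, Matrix.zero_vecMul]
      · intro h5
        have h6 := congrArg (fun v => v ᵥ* toMat n QI) h5
        simp only [Matrix.vecMul_vecMul, Matrix.zero_vecMul, mul_assoc] at h6
        rw [e3, mul_one] at h6
        rw [Matrix.vecMul_vecMul]
        exact h6
    rw [h4]
    constructor
    · intro h5 j hj
      have h6 := congrFun h5 j
      rw [vecMul_dg, if_pos hj] at h6
      exact h6
    · intro h5
      ext j
      rw [vecMul_dg]
      by_cases hj : (j : ℕ) < r
      · rw [if_pos hj, h5 j hj]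
        rfl
      · rw [if_neg hj]
        rfl
  refine Nat.card_congr ⟨fun v => ⟨v.1 ᵥ* toMat n PI, ?_⟩, fun w => ⟨w.1 ᵥ* toMat n P, ?_⟩, fun v => ?_, fun w => ?_⟩
  · rw [← key, Matrix.vecMul_vecMul (v := v.1), e2', Matrix.vecMul_one]
    exact v.2
  · exact (key w.1).2 w.2
  · apply Subtype.ext
    show (v.1 ᵥ* toMat n PI) ᵥ* toMat n P = v.1
    rw [Matrix.vecMul_vecMul, e2', Matrix.vecMul_one]
  · apply Subtype.ext
    show (w.1 ᵥ* toMat n P) ᵥ* toMat n PI = w.1
    rw [Matrix.vecMul_vecMul, e2, Matrix.vecMul_one]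

/-! ### polynomials in a matrix -/

/-- the polynomial with coefficient list `cs` (constant term first) -/
def mpoly (B : Matrix (Fin n) (Fin n) (ZMod 2)) : List Bool → Matrix (Fin n) (Fin n) (ZMod 2)
  | [] => 0
  | c :: cs => mpoly B cs * B + bz c • (1 : Matrix (Fin n) (Fin n) (ZMod 2))

/-- the packed polynomial -/
def poly (n N : ℕ) : List Bool → ℕ :=
  fun cs => List.rec 0 (fun c _ ih => Nat.xor (Cfsg.Agent.Lib.F2Mat.mul n ih N) (cond c (Cfsg.Agent.Lib.F2Mat.one n) 0)) cs

theorem toMat_poly (N : ℕ) (cs : List Bool) : toMat n (poly n N cs) = mpoly (toMat n N) cs := by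
  induction cs with
  | nil => exact toMat_zero
  | cons c cs ih =>
    have h1 : poly n N (c :: cs) = (Cfsg.Agent.Lib.F2Mat.mul n (poly n N cs) N) ^^^ (cond c (Cfsg.Agent.Lib.F2Mat.one n) 0) := rfl
    rw [h1, toMat_xor, toMat_mul, ih]
    show _ = mpoly (toMat n N) cs * toMat n N + bz c • (1 : Matrix (Fin n) (Fin n) (ZMod 2))
    congr 1
    cases c
    · show toMat n 0 = bz false • (1 : Matrix (Fin n) (Fin n) (ZMod 2))
      rw [toMat_zero, bz_false, zero_smul]
    · show toMat n (Cfsg.Agent.Lib.F2Mat.one n) = bz true • (1 : Matrix (Fin n) (Fin n) (ZMod 2))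
      rw [toMat_one, bz_true, one_smul]

theorem commute_mpoly {B C : Matrix (Fin n) (Fin n) (ZMod 2)} (h : B * C = C * B) (cs : List Bool) :
    mpoly B cs * C = C * mpoly B cs := by
  induction cs with
  | nil =>
    show 0 * C = C * 0
    rw [zero_mul, mul_zero]
  | cons c cs ih =>
    show (mpoly B cs * B + bz c • 1) * C = C * (mpoly B cs * B + bz c • 1)
    rw [add_mul, mul_add, mul_assoc, h, ← mul_assoc, ih, mul_assoc]
    congr 1
    rw [Matrix.smul_mul, Matrix.mul_smul, one_mul, mul_one]

/-- on a fixed vector, a polynomial acts by its value at 1 -/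
theorem vecMul_mpoly {B : Matrix (Fin n) (Fin n) (ZMod 2)} {v : Fin n → ZMod 2} (h : v ᵥ* B = v) (cs : List Bool) :
    v ᵥ* mpoly B cs = (cs.map bz).sum • v := by
  induction cs with
  | nil =>
    show v ᵥ* (0 : Matrix (Fin n) (Fin n) (ZMod 2)) = _
    rw [Matrix.vecMul_zero, List.map_nil, List.sum_nil, zero_smul]
  | cons c cs ih =>
    show v ᵥ* (mpoly B cs * B + bz c • 1) = _
    rw [Matrix.vecMul_add, ← Matrix.vecMul_vecMul, ih, Matrix.smul_vecMul, h, Matrix.vecMul_smul, Matrix.vecMul_one,
      List.map_cons, List.sum_cons, add_smul, add_comm]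

end Cfsg.Agent.H516.LinFix
end

-- part: H516/RepFix
section
/-!
# Fixed points of commuting elements in a representation over `GF(2)`: counting
-/

set_option autoImplicit false

namespace Cfsg.Agent.H516.LinFix

open Subgroup Cfsg Cfsg.Agent.Lib.F2Mat Cfsg.Agent.Lib.F2MatGroup Matrix

universe u

variable {n : ℕ} {G : Type u} [Group G] (ρ : G →* GL (Fin n) (ZMod 2))

/-- the fixed vectors of `g` -/
def Fix (g : G) : AddSubgroup (Fin n → ZMod 2) where
  carrier := {v | v ᵥ* (ρ g : Matrix (Fin n) (Fin n) (ZMod 2)) = v}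
  zero_mem' := Matrix.zero_vecMul _
  add_mem' := fun {v w} hv hw => by
    show (v + w) ᵥ* (ρ g : Matrix (Fin n) (Fin n) (ZMod 2)) = v + w
    rw [Matrix.add_vecMul, (show v ᵥ* (ρ g : Matrix (Fin n) (Fin n) (ZMod 2)) = v from hv),
      (show w ᵥ* (ρ g : Matrix (Fin n) (Fin n) (ZMod 2)) = w from hw)]
  neg_mem' := fun {v} hv => by
    show (-v) ᵥ* (ρ g : Matrix (Fin n) (Fin n) (ZMod 2)) = -v
    rw [Matrix.neg_vecMul, (show v ᵥ* (ρ g : Matrix (Fin n) (Fin n) (ZMod 2)) = v from hv)]

theorem mem_Fix {g : G} {v : Fin n → ZMod 2} : v ∈ Fix ρ g ↔ v ᵥ* (ρ g : Matrix (Fin n) (Fin n) (ZMod 2)) = v := Iff.rfl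

theorem two_zero (v : Fin n → ZMod 2) : v + v = 0 := by
  ext i
  show v i + v i = 0
  rw [← two_mul, show (2 : ZMod 2) = 0 from rfl, zero_mul]

theorem Fix_eq_Ker (g : G) : Fix ρ g = Ker ((ρ g : Matrix (Fin n) (Fin n) (ZMod 2)) + 1) := by
  ext v
  rw [mem_Fix, mem_Ker, Matrix.vecMul_add, Matrix.vecMul_one]
  constructor
  · intro h
    rw [h, two_zero]
  · intro h
    have h1 : v ᵥ* (ρ g : Matrix (Fin n) (Fin n) (ZMod 2)) + v + v = v := by rw [h, zero_add]
    rwa [add_assoc, two_zero, add_zero] at h1

theorem Fix_mul {g h : G} {v : Fin n → ZMod 2} (hg : v ∈ Fix ρ g) (hh : v ∈ Fix ρ h) : v ∈ Fix ρ (g * h) := by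
  rw [mem_Fix] at *
  rw [map_mul, Units.val_mul, ← Matrix.vecMul_vecMul, hg, hh]

theorem Fix_pow {g : G} {v : Fin n → ZMod 2} (hg : v ∈ Fix ρ g) (k : ℕ) : v ∈ Fix ρ (g ^ k) := by
  induction k with
  | zero =>
    rw [pow_zero, mem_Fix, map_one, Units.val_one, Matrix.vecMul_one]
  | succ k ih =>
    rw [pow_succ]
    exact Fix_mul ρ ih hg

theorem card_V : Nat.card (Fin n → ZMod 2) = 2 ^ n := by
  rw [Nat.card_pi, Finset.prod_const, Finset.card_univ, Fintype.card_fin, Nat.card_eq_fintype_card, ZMod.card]

theorem card_sub (W : AddSubgroup (Fin n → ZMod 2)) : ∃ j ≤ n, Nat.card ↥W = 2 ^ j := by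
  have h1 : Nat.card ↥W ∣ 2 ^ n := by
    rw [← card_V]
    exact AddSubgroup.card_addSubgroup_dvd_card W
  exact (Nat.dvd_prime_pow Nat.prime_two).1 h1

theorem card_le_of_le {U W : AddSubgroup (Fin n → ZMod 2)} (h : U ≤ W) : Nat.card ↥U ≤ Nat.card ↥W :=
  Nat.card_le_card_of_injective _ (AddSubgroup.inclusion_injective h)

/-- **counting fixed vectors** -/
theorem card_modEq {c : G} {q : ℕ} (hq : q.Prime) (hc : c ^ q = 1) (W : AddSubgroup (Fin n → ZMod 2))
    (hW : ∀ v ∈ W, v ᵥ* (ρ c : Matrix (Fin n) (Fin n) (ZMod 2)) ∈ W) :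
    Nat.card ↥W ≡ Nat.card ↥(W ⊓ Fix ρ c) [MOD q] := by
  classical
  have : Fact q.Prime := ⟨hq⟩
  have := Fintype.ofFinite ↥W
  let f : Function.End ↥W := fun a => ⟨a.1 ᵥ* (ρ c : Matrix (Fin n) (Fin n) (ZMod 2)), hW a a.2⟩
  have hf : ∀ (k : ℕ) (a : ↥W), ((f ^ k) a : Fin n → ZMod 2) = a.1 ᵥ* (ρ (c ^ k) : Matrix (Fin n) (Fin n) (ZMod 2)) := by
    intro k
    induction k with
    | zero =>
      intro a
      rw [pow_zero, pow_zero, map_one, Units.val_one, Matrix.vecMul_one]
      rfl
    | succ k ih =>
      intro a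
      have h1 : (f ^ (k + 1)) a = (f ^ k) (f a) := by
        rw [pow_succ]
        rfl
      rw [h1, ih]
      change (a.1 ᵥ* (ρ c : Matrix (Fin n) (Fin n) (ZMod 2))) ᵥ* (ρ (c ^ k) : Matrix (Fin n) (Fin n) (ZMod 2)) = _
      rw [Matrix.vecMul_vecMul, ← Units.val_mul, ← map_mul, ← pow_succ']
  have hfp : f ^ q ^ 1 = 1 := by
    funext a
    apply Subtype.ext
    rw [hf, pow_one, hc, map_one, Units.val_one, Matrix.vecMul_one]
    rfl
  have h2 := Equiv.Perm.card_fixedPoints_modEq hfp
  rw [Nat.card_eq_fintype_card]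
  have h3 : Nat.card ↥(W ⊓ Fix ρ c) = Fintype.card ↥(Function.fixedPoints f) := by
    rw [← Nat.card_eq_fintype_card]
    refine Nat.card_congr ⟨fun a => ⟨⟨a.1, a.2.1⟩, ?_⟩, fun a => ⟨((a : ↥W) : Fin n → ZMod 2), (a : ↥W).2, ?_⟩, fun a => rfl, fun a => rfl⟩
    · apply Subtype.ext
      exact a.2.2
    · have h4 : f (a : ↥W) = a := a.2
      exact congrArg Subtype.val h4
  rw [h3]
  exact h2

theorem Ker_invariant {A : Matrix (Fin n) (Fin n) (ZMod 2)} {c : G}
    (h : A * (ρ c : Matrix (Fin n) (Fin n) (ZMod 2)) = (ρ c : Matrix (Fin n) (Fin n) (ZMod 2)) * A)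
    {v : Fin n → ZMod 2} (hv : v ∈ Ker A) : v ᵥ* (ρ c : Matrix (Fin n) (Fin n) (ZMod 2)) ∈ Ker A := by
  rw [mem_Ker] at *
  rw [Matrix.vecMul_vecMul, ← h, ← Matrix.vecMul_vecMul, hv, Matrix.zero_vecMul]

theorem Fix_invariant {b c : G} (h : b * c = c * b) {v : Fin n → ZMod 2} (hv : v ∈ Fix ρ b) :
    v ᵥ* (ρ c : Matrix (Fin n) (Fin n) (ZMod 2)) ∈ Fix ρ b := by
  rw [mem_Fix] at *
  rw [Matrix.vecMul_vecMul, ← Units.val_mul, ← map_mul, ← h, map_mul, Units.val_mul, ← Matrix.vecMul_vecMul, hv]

/-! ### the exponent -/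

/-- the dimension of the space of fixed vectors -/
noncomputable def fx (g : G) : ℕ := (card_sub (Fix ρ g)).choose

theorem card_Fix (g : G) : Nat.card ↥(Fix ρ g) = 2 ^ fx ρ g := (card_sub (Fix ρ g)).choose_spec.2

theorem fx_le (g : G) : fx ρ g ≤ n := (card_sub (Fix ρ g)).choose_spec.1

theorem fx_eq {g : G} {k : ℕ} (h : Nat.card ↥(Fix ρ g) = 2 ^ k) : fx ρ g = k :=
  Nat.pow_right_injective (le_refl 2) (by
    show 2 ^ fx ρ g = 2 ^ k
    rw [← card_Fix ρ g, h])

theorem fx_lt (hρ : Function.Injective ρ) {g : G} (hg : g ≠ 1) : fx ρ g < n := by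
  refine lt_of_le_of_ne (fx_le ρ g) fun h => hg ?_
  apply hρ
  rw [map_one]
  have h1 : Fix ρ g = ⊤ := by
    apply AddSubgroup.eq_top_of_card_eq
    rw [card_Fix, h, card_V]
  apply Units.ext
  rw [Units.val_one]
  ext i j
  have h2 : (Pi.single i 1 : Fin n → ZMod 2) ∈ Fix ρ g := by rw [h1]; trivial
  have h3 := congrFun h2 j
  rw [Matrix.single_one_vecMul] at h3
  rw [show (ρ g : Matrix (Fin n) (Fin n) (ZMod 2)) i j = (ρ g : Matrix (Fin n) (Fin n) (ZMod 2)).row i j from rfl, h3,
    Matrix.one_apply, Pi.single_apply]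
  by_cases hij : i = j
  · rw [if_pos hij, if_pos hij.symm]
  · rw [if_neg hij, if_neg (fun h => hij h.symm)]

theorem fx_of_mem_zpowers [Finite G] {g h : G} (h1 : g ∈ zpowers h) (h2 : h ∈ zpowers g) : fx ρ g = fx ρ h := by
  apply fx_eq
  rw [← card_Fix]
  congr 1
  have key : ∀ {x y : G}, x ∈ zpowers y → Fix ρ y ≤ Fix ρ x := by
    intro x y hxy v hv
    obtain ⟨k, hk⟩ := mem_powers_iff_mem_zpowers.2 hxy
    have hk' : y ^ k = x := hk
    rw [← hk']
    exact Fix_pow ρ hv k
  rw [le_antisymm (key h2) (key h1)]

theorem fx_conj (g x : G) : fx ρ (g * x * g⁻¹) = fx ρ x := by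
  apply fx_eq
  rw [← card_Fix]
  have hgg : ∀ v : Fin n → ZMod 2, (v ᵥ* (ρ g : Matrix (Fin n) (Fin n) (ZMod 2))) ᵥ* (ρ g⁻¹ : Matrix (Fin n) (Fin n) (ZMod 2)) = v := by
    intro v
    rw [Matrix.vecMul_vecMul, ← Units.val_mul, ← map_mul, mul_inv_cancel, map_one, Units.val_one, Matrix.vecMul_one]
  have hgg' : ∀ v : Fin n → ZMod 2, (v ᵥ* (ρ g⁻¹ : Matrix (Fin n) (Fin n) (ZMod 2))) ᵥ* (ρ g : Matrix (Fin n) (Fin n) (ZMod 2)) = v := by
    intro v
    rw [Matrix.vecMul_vecMul, ← Units.val_mul, ← map_mul, inv_mul_cancel, map_one, Units.val_one, Matrix.vecMul_one]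
  refine Nat.card_congr ⟨fun v => ⟨v.1 ᵥ* (ρ g : Matrix (Fin n) (Fin n) (ZMod 2)), ?_⟩,
    fun v => ⟨v.1 ᵥ* (ρ g⁻¹ : Matrix (Fin n) (Fin n) (ZMod 2)), ?_⟩, fun v => Subtype.ext (hgg v.1), fun v => Subtype.ext (hgg' v.1)⟩
  · have h1 := v.2
    rw [mem_Fix, map_mul, map_mul, Units.val_mul, Units.val_mul, ← Matrix.vecMul_vecMul, ← Matrix.vecMul_vecMul] at h1
    rw [mem_Fix]
    have h2 := congrArg (fun w => w ᵥ* (ρ g : Matrix (Fin n) (Fin n) (ZMod 2))) h1
    simp only [hgg'] at h2
    exact h2
  · have h1 := v.2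
    rw [mem_Fix] at h1
    rw [mem_Fix, map_mul, map_mul, Units.val_mul, Units.val_mul, ← Matrix.vecMul_vecMul, ← Matrix.vecMul_vecMul, hgg', h1]

/-- **two commuting elements of prime orders** -/
theorem pair (hρ : Function.Injective ρ) {b c : G} {s q : ℕ} (hs : s.Prime) (hq : q.Prime) (hb : orderOf b = s)
    (hc : orderOf c = q) (hbc : b * c = c * b) :
    fx ρ b < n ∧ fx ρ c < n ∧ 2 ^ n % s = 2 ^ fx ρ b % s ∧ 2 ^ n % q = 2 ^ fx ρ c % q ∧
      ∃ j, j ≤ fx ρ b ∧ j ≤ fx ρ c ∧ 2 ^ fx ρ c % s = 2 ^ j % s ∧ 2 ^ fx ρ b % q = 2 ^ j % q := by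
  have hb1 : b ≠ 1 := by
    rintro rfl
    rw [orderOf_one] at hb
    exact hs.one_lt.ne hb
  have hc1 : c ≠ 1 := by
    rintro rfl
    rw [orderOf_one] at hc
    exact hq.one_lt.ne hc
  have hbp : b ^ s = 1 := by rw [← hb, pow_orderOf_eq_one]
  have hcp : c ^ q = 1 := by rw [← hc, pow_orderOf_eq_one]
  refine ⟨fx_lt ρ hρ hb1, fx_lt ρ hρ hc1, ?_, ?_, ?_⟩
  · have h1 := card_modEq ρ hs hbp ⊤ (fun _ _ => trivial)
    rw [top_inf_eq, card_Fix, AddSubgroup.card_top, card_V] at h1
    exact h1
  · have h1 := card_modEq ρ hq hcp ⊤ (fun _ _ => trivial)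
    rw [top_inf_eq, card_Fix, AddSubgroup.card_top, card_V] at h1
    exact h1
  · obtain ⟨j, -, hj⟩ := card_sub (Fix ρ b ⊓ Fix ρ c)
    have h1 := card_le_of_le (inf_le_left : Fix ρ b ⊓ Fix ρ c ≤ Fix ρ b)
    have h2 := card_le_of_le (inf_le_right : Fix ρ b ⊓ Fix ρ c ≤ Fix ρ c)
    rw [hj, card_Fix] at h1 h2
    refine ⟨j, (Nat.pow_le_pow_iff_right (by norm_num)).1 h1, (Nat.pow_le_pow_iff_right (by norm_num)).1 h2, ?_, ?_⟩
    · have h3 := card_modEq ρ hs hbp (Fix ρ c) (fun v hv => Fix_invariant ρ hbc.symm hv)
      rw [inf_comm, hj, card_Fix] at h3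
      exact h3
    · have h3 := card_modEq ρ hq hcp (Fix ρ b) (fun v hv => Fix_invariant ρ hbc hv)
      rw [hj, card_Fix] at h3
      exact h3

/-- **an invariant subspace of dimension `w` without fixed vectors of `b`** -/
theorem sub {b c : G} {s q : ℕ} (hs : s.Prime) (hq : q.Prime) (hb : orderOf b = s)
    (hc : orderOf c = q) (hbc : b * c = c * b) (A : Matrix (Fin n) (Fin n) (ZMod 2))
    (hAb : A * (ρ b : Matrix (Fin n) (Fin n) (ZMod 2)) = (ρ b : Matrix (Fin n) (Fin n) (ZMod 2)) * A)
    (hAc : A * (ρ c : Matrix (Fin n) (Fin n) (ZMod 2)) = (ρ c : Matrix (Fin n) (Fin n) (ZMod 2)) * A)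
    (h0 : ∀ v ∈ Fix ρ b, v ∈ Ker A → v = 0) {w : ℕ} (hw : Nat.card ↥(Ker A) = 2 ^ w) :
    ∃ j, Nat.card ↥(Ker A ⊓ Fix ρ c) = 2 ^ j ∧ j ≤ w ∧ j ≤ fx ρ c ∧ 2 ^ j % s = 1 ∧ 2 ^ w % q = 2 ^ j % q := by
  have hbp : b ^ s = 1 := by rw [← hb, pow_orderOf_eq_one]
  have hcp : c ^ q = 1 := by rw [← hc, pow_orderOf_eq_one]
  obtain ⟨j, -, hj⟩ := card_sub (Ker A ⊓ Fix ρ c)
  have h1 := card_le_of_le (inf_le_left : Ker A ⊓ Fix ρ c ≤ Ker A)
  have h2 := card_le_of_le (inf_le_right : Ker A ⊓ Fix ρ c ≤ Fix ρ c)
  rw [hj] at h1 h2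
  rw [hw] at h1
  rw [card_Fix] at h2
  refine ⟨j, hj, (Nat.pow_le_pow_iff_right (by norm_num)).1 h1, (Nat.pow_le_pow_iff_right (by norm_num)).1 h2, ?_, ?_⟩
  · have h3 := card_modEq ρ hs hbp (Ker A ⊓ Fix ρ c) (fun v hv => ⟨Ker_invariant ρ hAb hv.1, Fix_invariant ρ hbc.symm hv.2⟩)
    have h4 : Ker A ⊓ Fix ρ c ⊓ Fix ρ b = ⊥ := by
      rw [eq_bot_iff]
      intro v hv
      exact h0 v hv.2 hv.1.1
    rw [h4, hj, AddSubgroup.card_bot] at h3
    have h5 : 2 ^ j % s = 1 % s := h3
    rw [h5, Nat.mod_eq_of_lt hs.one_lt]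
  · have h3 := card_modEq ρ hq hcp (Ker A) (fun v hv => Ker_invariant ρ hAc hv)
    rw [hj, hw] at h3
    exact h3

end Cfsg.Agent.H516.LinFix
end

-- part: H516/SylOne
section
/-!
# Sylow subgroups of prime order
-/

set_option autoImplicit false

namespace Cfsg.Agent.H516.SylOne

open Subgroup Cfsg

universe u

variable {G : Type u} [Group G] [Finite G]

theorem exists_conj {s : ℕ} (hs : s.Prime) {m : ℕ} (hG : Nat.card G = s * m) (hm : ¬ s ∣ m) {b b0 : G}
    (hb : orderOf b = s) (hb0 : orderOf b0 = s) : ∃ g : G, zpowers (g * b * g⁻¹) = zpowers b0 := by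
  classical
  have : Fact s.Prime := ⟨hs⟩
  have hfac : s ^ (Nat.card G).factorization s = s := by
    have h1 : (Nat.card G).factorization s = 1 := by
      rw [hG, Nat.factorization_mul hs.ne_zero (by rintro rfl; exact hm (dvd_zero s))]
      show s.factorization s + m.factorization s = 1
      rw [Nat.factorization_eq_zero_of_not_dvd hm, hs.factorization_self]
    rw [h1, pow_one]
  have hc : ∀ x : G, orderOf x = s → Nat.card ↥(zpowers x) = s ^ (Nat.card G).factorization s := by
    intro x hx
    rw [Nat.card_zpowers, hx, hfac]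
  let P : Sylow s G := Sylow.ofCard (zpowers b) (hc b hb)
  let Q : Sylow s G := Sylow.ofCard (zpowers b0) (hc b0 hb0)
  obtain ⟨g, hg⟩ := MulAction.exists_smul_eq G P Q
  refine ⟨g, ?_⟩
  have h2 : ((g • P : Sylow s G) : Subgroup G) = (zpowers b).map (MulAut.conj g).toMonoidHom := rfl
  have h3 : ((Q : Sylow s G) : Subgroup G) = zpowers b0 := rfl
  rw [hg, h3, MonoidHom.map_zpowers] at h2
  exact h2.symm

/-- non-adjacency from one subgroup of order `s` -/
theorem nadj_of_base {s q : ℕ} (hs : s.Prime) {m : ℕ} (hG : Nat.card G = s * m) (hm : ¬ s ∣ m) {b0 : G}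
    (hb0 : orderOf b0 = s) (h : ∀ c : G, orderOf c = q → b0 * c = c * b0 → False) : NAdj G s q := by
  intro b c hb hc hbc
  obtain ⟨g, hg⟩ := exists_conj hs hG hm hb hb0
  have h1 : b0 ∈ zpowers (g * b * g⁻¹) := by rw [hg]; exact mem_zpowers b0
  obtain ⟨k, hk⟩ := mem_zpowers_iff.1 h1
  refine h (g * c * g⁻¹) ?_ ?_
  · rw [← hc]
    exact orderOf_injective (MulAut.conj g).toMonoidHom (MulAut.conj g).injective c
  · rw [← hk]
    have h2 : Commute (g * b * g⁻¹) (g * c * g⁻¹) := by
      show g * b * g⁻¹ * (g * c * g⁻¹) = g * c * g⁻¹ * (g * b * g⁻¹)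
      have h3 : g * b * g⁻¹ * (g * c * g⁻¹) = g * (b * c) * g⁻¹ := by group
      have h4 : g * c * g⁻¹ * (g * b * g⁻¹) = g * (c * b) * g⁻¹ := by group
      rw [h3, h4, hbc]
    exact (h2.zpow_left k).eq

/-- the fixed space of an element of order `s` -/
theorem fx_of_base {n : ℕ} (ρ : G →* GL (Fin n) (ZMod 2)) {s : ℕ} (hs : s.Prime) {m : ℕ} (hG : Nat.card G = s * m) (hm : ¬ s ∣ m) {b b0 : G}
    (hb : orderOf b = s) (hb0 : orderOf b0 = s) : LinFix.fx ρ b = LinFix.fx ρ b0 := by
  obtain ⟨g, hg⟩ := exists_conj hs hG hm hb hb0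
  rw [← LinFix.fx_conj ρ g b]
  refine LinFix.fx_of_mem_zpowers ρ ?_ ?_
  · rw [← hg]
    exact mem_zpowers _
  · rw [hg]
    exact mem_zpowers _

/-! ### a normal Sylow subgroup of prime order -/

/-- an element of prime order `s` centralizes a normal `q`-subgroup of small order -/
theorem le_centralizer {s q k : ℕ} (hs : s.Prime) (hq : q.Prime) {M : Subgroup G} [M.Normal] (hM : Nat.card ↥M = q ^ k)
    (h : ∀ i, 1 ≤ i → i ≤ k → ¬ q ^ i ≡ 1 [MOD s]) (hqs : q ≠ s) {g : G} (hg : orderOf g = s) :
    M ≤ centralizer ({g} : Set G) := by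
  classical
  have : Fact s.Prime := ⟨hs⟩
  have := Fintype.ofFinite ↥M
  let f : Function.End ↥M := fun a => ⟨g * a * g⁻¹, (inferInstance : M.Normal).conj_mem a a.2 g⟩
  have hf : ∀ (n : ℕ) (a : ↥M), ((f ^ n) a : G) = g ^ n * a * (g ^ n)⁻¹ := by
    intro n
    induction n with
    | zero =>
      intro a
      rw [pow_zero, pow_zero, one_mul, inv_one, mul_one]
      rfl
    | succ n ih =>
      intro a
      have h1 : (f ^ (n + 1)) a = (f ^ n) (f a) := by
        rw [pow_succ]
        rfl
      rw [h1, ih]
      change g ^ n * (g * a * g⁻¹) * (g ^ n)⁻¹ = _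
      rw [pow_succ, mul_inv_rev]
      group
  have hfp : f ^ s ^ 1 = 1 := by
    funext a
    apply Subtype.ext
    rw [hf, pow_one, ← hg, pow_orderOf_eq_one, one_mul, inv_one, mul_one]
    rfl
  have h2 := Equiv.Perm.card_fixedPoints_modEq hfp
  rw [← Nat.card_eq_fintype_card, hM] at h2
  have h3 : Nat.card ↥(M ⊓ centralizer ({g} : Set G)) = Fintype.card ↥(Function.fixedPoints f) := by
    rw [← Nat.card_eq_fintype_card]
    refine Nat.card_congr ⟨fun a => ⟨⟨a.1, a.2.1⟩, ?_⟩, fun a => ⟨((a : ↥M) : G), (a : ↥M).2, ?_⟩, fun a => rfl, fun a => rfl⟩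
    · apply Subtype.ext
      change g * a.1 * g⁻¹ = a.1
      rw [← mem_centralizer_singleton_iff.1 a.2.2, mul_inv_cancel_right]
    · have h4 : f (a : ↥M) = a := a.2
      have h5 : g * (a : ↥M).1 * g⁻¹ = (a : ↥M).1 := congrArg Subtype.val h4
      apply mem_centralizer_singleton_iff.2
      rw [mul_inv_eq_iff_eq_mul] at h5
      exact h5.symm
  have h5 : Nat.card ↥(M ⊓ centralizer ({g} : Set G)) ∣ q ^ k := by
    rw [← hM]
    exact Subgroup.card_dvd_of_le inf_le_left
  obtain ⟨j, hj, hj2⟩ := (Nat.dvd_prime_pow hq).1 h5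
  rw [← h3, hj2] at h2
  have h6 : j = k := by
    by_contra hne
    have h7 : q ^ k = q ^ j * q ^ (k - j) := by rw [← pow_add]; congr 1; omega
    apply h (k - j) (by omega) (by omega)
    have h8 : Nat.Coprime s (q ^ j) := Nat.Coprime.pow_right _ ((Nat.coprime_primes hs hq).2 (Ne.symm hqs))
    apply Nat.ModEq.cancel_left_of_coprime (c := q ^ j) h8
    rw [← h7, mul_one]
    exact h2
  have h9 : M ⊓ centralizer ({g} : Set G) = M := by
    apply Subgroup.eq_of_le_of_card_ge inf_le_left
    rw [hj2, h6, hM]
  rw [← h9]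
  exact inf_le_right

theorem zpowers_normal {b : G} (h : ∀ x : G, x * b * x⁻¹ ∈ zpowers b) : (zpowers b).Normal := by
  refine ⟨fun y hy x => ?_⟩
  obtain ⟨k, rfl⟩ := mem_zpowers_iff.1 hy
  rw [← conj_zpow]
  exact (zpowers b).zpow_mem (h x) k

/-- **A solvable group with a Sylow `s`-subgroup `⟨b⟩` of order `s` such that `s` divides no `q ^ i - 1`, `q ^ i ∣ |F|`.** -/
theorem normal_of_solvable {s : ℕ} (hs : s.Prime) : ∀ (N : ℕ) (F : Type u) [Group F] [Finite F], Nat.card F = N →
    Group.IsSolvable F → (∃ m : ℕ, Nat.card F = s * m ∧ ¬ s ∣ m) →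
    (∀ q i : ℕ, q.Prime → q ≠ s → 1 ≤ i → q ^ i ∣ Nat.card F → ¬ q ^ i ≡ 1 [MOD s]) →
    ∀ b : F, orderOf b = s → (zpowers b).Normal := by
  intro N
  induction N using Nat.strong_induction_on with
  | _ N ih =>
    intro F _ _ hN hF hm hq b hb
    have hsf : Fact s.Prime := ⟨hs⟩
    have hnt : Nontrivial F := by
      refine ⟨b, 1, ?_⟩
      rintro rfl
      rw [orderOf_one] at hb
      exact hs.one_lt.ne hb
    obtain ⟨q, M, hqp, hMn, hM, -, hM1⟩ := Cfsg.Agent.Lib.SolvableNormalP.exists_normal_pSubgroup F
    have hqf : Fact q.Prime := ⟨hqp⟩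
    obtain ⟨k, hk⟩ := IsPGroup.iff_card.1 hM
    have hk1 : k ≠ 0 := by
      rintro rfl
      rw [pow_zero] at hk
      exact hM1 (Subgroup.card_eq_one.1 hk)
    obtain ⟨m, hm1, hm2⟩ := hm
    by_cases hqs : q = s
    · -- `M` is the Sylow subgroup
      subst hqs
      obtain ⟨b', hb'⟩ := exists_prime_orderOf_dvd_card' (G := ↥M) q (by rw [hk]; exact dvd_pow_self q hk1)
      have hb'' : orderOf (b' : F) = q := by rw [Subgroup.orderOf_coe, hb']
      have h1 : Nat.card ↥M = q := by
        have h2 : q ^ k ∣ q * m := by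
          rw [← hm1, ← hk]
          exact Subgroup.card_subgroup_dvd_card M
        have h3 : k ≤ 1 := by
          by_contra hk2
          apply hm2
          have h4 : q ^ 2 ∣ q * m := (pow_dvd_pow q (by omega)).trans h2
          rw [pow_two] at h4
          exact Nat.dvd_of_mul_dvd_mul_left hqp.pos h4
        rw [hk, show k = 1 by omega, pow_one]
      have h2 : zpowers (b' : F) = M := by
        apply Subgroup.eq_of_le_of_card_ge
        · rw [zpowers_le]
          exact b'.2
        · rw [h1, Nat.card_zpowers, hb'']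
      obtain ⟨g, hg⟩ := exists_conj hqp hm1 hm2 hb hb''
      rw [h2] at hg
      have h3 : b ∈ M := by
        have h4 : g * b * g⁻¹ ∈ M := by rw [← hg]; exact mem_zpowers _
        have h5 := hMn.conj_mem _ h4 g⁻¹
        have h6 : g⁻¹ * (g * b * g⁻¹) * g⁻¹⁻¹ = b := by group
        rwa [h6] at h5
      have h7 : zpowers b = M := by
        apply Subgroup.eq_of_le_of_card_ge
        · rw [zpowers_le]
          exact h3
        · rw [h1, Nat.card_zpowers, hb]
      rw [h7]
      exact hMn
    · -- the quotient
      have hMF : q ^ k ∣ Nat.card F := by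
        rw [← hk]
        exact Subgroup.card_subgroup_dvd_card M
      have hc : M ≤ centralizer ({b} : Set F) := by
        refine le_centralizer hs hqp hk (fun i h1 h2 => hq q i hqp hqs h1 ((pow_dvd_pow q h2).trans hMF)) hqs hb
      have hcardQ : Nat.card F = Nat.card (F ⧸ M) * Nat.card ↥M := Subgroup.card_eq_card_quotient_mul_card_subgroup M
      have hdQ : Nat.card (F ⧸ M) ∣ Nat.card F := ⟨_, hcardQ⟩
      have hbM : (b : F ⧸ M) ≠ 1 := by
        intro h
        have h1 : b ∈ M := (QuotientGroup.eq_one_iff b).1 h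
        have h2 : s ∣ q ^ k := by
          rw [← hb, ← hk]
          have h3 := _root_.orderOf_dvd_natCard (⟨b, h1⟩ : ↥M)
          rwa [Subgroup.orderOf_mk] at h3
        exact hqs ((Nat.prime_dvd_prime_iff_eq hs hqp).1 (hs.dvd_of_dvd_pow h2)).symm
      have hbo : orderOf (b : F ⧸ M) = s := by
        apply orderOf_eq_prime _ hbM
        rw [← QuotientGroup.mk_pow, ← hb, pow_orderOf_eq_one]
        rfl
      have hQsol : Group.IsSolvable (F ⧸ M) := by
        have := hF
        infer_instance
      have hN2 : Nat.card (F ⧸ M) < N := by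
        rw [← hN, hcardQ, hk]
        have h1 : 1 < q ^ k := Nat.one_lt_pow hk1 hqp.one_lt
        have h2 : 0 < Nat.card (F ⧸ M) := Nat.card_pos
        nlinarith only [h1, h2]
      have hmQ : ∃ m' : ℕ, Nat.card (F ⧸ M) = s * m' ∧ ¬ s ∣ m' := by
        have h1 : s ∣ Nat.card (F ⧸ M) := by
          rw [← hbo]
          exact _root_.orderOf_dvd_natCard _
        obtain ⟨m', hm'⟩ := h1
        refine ⟨m', hm', fun h2 => hm2 ?_⟩
        have h3 : s * m = s * (m' * Nat.card ↥M) := by rw [← hm1, hcardQ, hm']; ring
        rw [Nat.eq_of_mul_eq_mul_left hs.pos h3]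
        exact h2.mul_right _
      have hnQ := ih _ hN2 (F ⧸ M) rfl hQsol hmQ (fun q' i h1 h2 h3 h4 => hq q' i h1 h2 h3 (h4.trans hdQ)) b hbo
      apply zpowers_normal
      intro x
      have h1 : ((x * b * x⁻¹ : F) : F ⧸ M) ∈ zpowers (b : F ⧸ M) := by
        have h2 := hnQ.conj_mem (b : F ⧸ M) (mem_zpowers _) (x : F ⧸ M)
        exact h2
      obtain ⟨i, hi⟩ := mem_zpowers_iff.1 h1
      have h3 : b ^ (-i) * (x * b * x⁻¹) ∈ M := by
        rw [← QuotientGroup.eq_one_iff]
        have h4 : ((b ^ (-i) * (x * b * x⁻¹) : F) : F ⧸ M) = (b : F ⧸ M) ^ (-i) * ((x * b * x⁻¹ : F) : F ⧸ M) := by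
          rw [QuotientGroup.mk_mul, QuotientGroup.mk_zpow]
        rw [h4, ← hi, ← zpow_add, neg_add_cancel, zpow_zero]
      set w : F := b ^ (-i) * (x * b * x⁻¹) with hw
      have h5 : x * b * x⁻¹ = b ^ i * w := by
        rw [hw, ← mul_assoc, ← zpow_add, add_neg_cancel, zpow_zero, one_mul]
      have h6 : Commute (b ^ i) w := by
        have h7 : Commute b w := by
          have h8 := mem_centralizer_singleton_iff.1 (hc h3)
          exact h8.symm
        exact h7.zpow_left i
      have h8 : (x * b * x⁻¹) ^ s = 1 := by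
        rw [conj_pow, ← hb, pow_orderOf_eq_one, mul_one, mul_inv_cancel]
      have h9 : (b ^ i) ^ s = 1 := by
        rw [← zpow_natCast, ← zpow_mul, mul_comm, zpow_mul, zpow_natCast, ← hb, pow_orderOf_eq_one, one_zpow]
      have h10 : w ^ s = 1 := by
        rw [h5, h6.mul_pow, h9, one_mul] at h8
        exact h8
      have h11 : w = 1 := by
        have h12 : orderOf w ∣ s := orderOf_dvd_of_pow_eq_one h10
        have h13 : orderOf w ∣ q ^ k := by
          rw [← hk]
          have h14 := _root_.orderOf_dvd_natCard (⟨w, h3⟩ : ↥M)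
          rwa [Subgroup.orderOf_mk] at h14
        have h15 : Nat.Coprime s (q ^ k) := Nat.Coprime.pow_right _ ((Nat.coprime_primes hs hqp).2 (Ne.symm hqs))
        exact orderOf_eq_one_iff.1 (Nat.eq_one_of_dvd_coprimes h15 h12 h13)
      rw [h5, h11, mul_one]
      exact (zpowers b).zpow_mem (mem_zpowers b) i

/-- the order of a subgroup normalizing `⟨b⟩`, `b` of prime order `s` -/
theorem card_dvd_of_normal {s : ℕ} (hs : s.Prime) {b : G} (hb : orderOf b = s) [hn : (zpowers b).Normal] :
    Nat.card G ∣ (s - 1) * Nat.card ↥(centralizer ({b} : Set G)) := by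
  have h1 := Cfsg.Agent.PermutationGroups.RegularCount.index_centralizer_dvd (zpowers b)
  have h2 : Nat.card (MulAut ↥(zpowers b)) = s - 1 := by
    have h3 : IsCyclic ↥(zpowers b) := inferInstance
    rw [IsCyclic.card_mulAut, Nat.card_zpowers, hb, Nat.totient_prime hs]
  rw [h2] at h1
  have h3 : centralizer ((zpowers b : Subgroup G) : Set G) = centralizer ({b} : Set G) := by
    apply le_antisymm
    · apply Subgroup.centralizer_le
      intro x hx
      rw [Set.mem_singleton_iff.1 hx]
      exact mem_zpowers b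
    · intro x hx
      rw [mem_centralizer_iff]
      intro y hy
      obtain ⟨k, rfl⟩ := mem_zpowers_iff.1 hy
      have h4 : Commute b x := (mem_centralizer_singleton_iff.1 hx).symm
      exact (h4.zpow_left k).eq
  rw [h3] at h1
  have h4 := Subgroup.index_mul_card (centralizer ({b} : Set G))
  rw [← h4]
  exact Nat.mul_dvd_mul_right h1 _

/-- **Subgroups of odd order with a Sylow subgroup of prime order.** -/
theorem exists_of_odd {F : Subgroup G} (hodd : Odd (Nat.card ↥F)) {s : ℕ} (hs : s.Prime)
    (hm : ∃ m : ℕ, Nat.card ↥F = s * m ∧ ¬ s ∣ m)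
    (hq : ∀ q i : ℕ, q.Prime → q ≠ s → 1 ≤ i → q ^ i ∣ Nat.card ↥F → ¬ q ^ i ≡ 1 [MOD s]) :
    ∃ b ∈ F, orderOf b = s ∧ F ≤ normalizer ((zpowers b : Subgroup G) : Set G) ∧
      Nat.card ↥F ∣ (s - 1) * Nat.card ↥(centralizer ({b} : Set G)) := by
  have : Fact s.Prime := ⟨hs⟩
  obtain ⟨m, hm1, hm2⟩ := hm
  obtain ⟨b, hb⟩ := exists_prime_orderOf_dvd_card' (G := ↥F) s (by rw [hm1]; exact dvd_mul_right s m)
  have hn := normal_of_solvable hs _ ↥F rfl (Cfsg.Agent.S0205.result hodd) ⟨m, hm1, hm2⟩ hq b hb
  refine ⟨b, b.2, by rw [Subgroup.orderOf_coe, hb], ?_, ?_⟩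
  · have hconj : ∀ x ∈ F, ∀ y ∈ zpowers (b : G), x * y * x⁻¹ ∈ zpowers (b : G) := by
      intro x hx y hy
      obtain ⟨k, rfl⟩ := mem_zpowers_iff.1 hy
      have h2 := hn.conj_mem (b ^ k) (Subgroup.zpow_mem _ (mem_zpowers b) k) ⟨x, hx⟩
      obtain ⟨l, hl⟩ := mem_zpowers_iff.1 h2
      rw [mem_zpowers_iff]
      refine ⟨l, ?_⟩
      have h3 := congrArg Subtype.val hl
      simpa only [_root_.SubgroupClass.coe_zpow, _root_.Subgroup.coe_mul, _root_.InvMemClass.coe_inv] using h3
    intro x hx
    rw [mem_normalizer_iff]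
    intro y
    refine ⟨hconj x hx y, fun hy => ?_⟩
    have h1 := hconj x⁻¹ (F.inv_mem hx) _ hy
    have h2 : x⁻¹ * (x * y * x⁻¹) * x⁻¹⁻¹ = y := by group
    rwa [h2] at h1
  · have h1 := card_dvd_of_normal hs hb
    refine h1.trans (Nat.mul_dvd_mul_left _ ?_)
    have h2 : (centralizer ({b} : Set ↥F)).map F.subtype ≤ centralizer ({(b : G)} : Set G) := by
      rintro _ ⟨y, hy, rfl⟩
      apply mem_centralizer_singleton_iff.2
      exact congrArg Subtype.val (mem_centralizer_singleton_iff.1 hy)
    have h3 := Subgroup.card_dvd_of_le h2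
    rwa [Subgroup.card_map_of_injective F.subtype_injective] at h3

/-! ### prime powers dividing a product -/

/-- the value of a factorization -/
def pval (l : List (ℕ × ℕ)) : ℕ := (l.map fun x => x.1 ^ x.2).prod

theorem mem_of_pow_dvd {q i : ℕ} (hq : q.Prime) (hi : 1 ≤ i) : ∀ (l : List (ℕ × ℕ)), (∀ x ∈ l, x.1.Prime) →
    (l.map Prod.fst).Nodup → q ^ i ∣ pval l → ∃ x ∈ l, x.1 = q ∧ i ≤ x.2 := by
  intro l
  induction l with
  | nil =>
    intro _ _ h
    exfalso
    have h1 : q ^ i ∣ 1 := h
    have h2 : 1 < q ^ i := Nat.one_lt_pow (by omega) hq.one_lt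
    exact absurd (Nat.le_of_dvd (by norm_num) h1) (by omega)
  | cons x l ih =>
    intro hp hn h
    rw [List.map_cons, List.nodup_cons] at hn
    have h1 : pval (x :: l) = x.1 ^ x.2 * pval l := by
      unfold pval
      rw [List.map_cons, List.prod_cons]
    rw [h1] at h
    have hxp : x.1.Prime := hp x (List.mem_cons_self)
    by_cases hxq : x.1 = q
    · refine ⟨x, List.mem_cons_self, hxq, ?_⟩
      have h2 : Nat.Coprime (q ^ i) (pval l) := by
        apply Nat.Coprime.pow_left
        rw [hq.coprime_iff_not_dvd]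
        intro h3
        have h4 : ∃ y ∈ l, q ∣ y.1 ^ y.2 := by
          unfold pval at h3
          rw [Prime.dvd_prod_iff hq.prime] at h3
          obtain ⟨a, ha, hqa⟩ := h3
          obtain ⟨y, hy, rfl⟩ := List.mem_map.1 ha
          exact ⟨y, hy, hqa⟩
        obtain ⟨y, hy, hqy⟩ := h4
        have h5 : q ∣ y.1 := hq.dvd_of_dvd_pow hqy
        have h6 : q = y.1 := (Nat.prime_dvd_prime_iff_eq hq (hp y (List.mem_cons_of_mem _ hy))).1 h5
        apply hn.1
        rw [hxq, h6]
        exact List.mem_map.2 ⟨y, hy, rfl⟩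
      have h3 : q ^ i ∣ x.1 ^ x.2 := h2.dvd_of_dvd_mul_right h
      rw [hxq] at h3
      exact (Nat.pow_dvd_pow_iff_le_right hq.one_lt).1 h3
    · have h2 : Nat.Coprime (q ^ i) (x.1 ^ x.2) := by
        apply Nat.Coprime.pow
        exact (Nat.coprime_primes hq hxp).2 (Ne.symm hxq)
      obtain ⟨y, hy, h3⟩ := ih (fun y hy => hp y (List.mem_cons_of_mem _ hy)) hn.2 (h2.dvd_of_dvd_mul_left h)
      exact ⟨y, List.mem_cons_of_mem _ hy, h3⟩

end Cfsg.Agent.H516.SylOne
end

-- part: H516/J4Elem
section
/-!
# Elements of prime order of `J4` in the 112-dimensional representation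
-/

set_option autoImplicit false
set_option linter.unusedSimpArgs false

namespace Cfsg.Agent.H516.J4El

open Subgroup Cfsg Cfsg.Agent.Lib.F2Mat Cfsg.Agent.Lib.F2MatGroup Matrix Cfsg.Agent.J4.Rep112 LinFix J4Data

universe u

theorem codes_of {g : GL (Fin 112) (ZMod 2)} {N B : ℕ} (h : Codes 112 g N) (hb : Nat.beq N B = true) : Codes 112 g B := by
  rw [← Nat.eq_of_beq_eq_true hb]
  exact h

/-- the elements -/
def b43 : Spor.J4 := x * y * t * y * t * y * x * t * y⁻¹
/-- the elements -/
def b37 : Spor.J4 := y * t * x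
/-- the elements -/
def b31 : Spor.J4 := x * y⁻¹ * t * x * y⁻¹ * x * y⁻¹
/-- the elements -/
def b29 : Spor.J4 := x * y⁻¹ * t * y * x * y * t * x * y⁻¹ * t * x
/-- the elements -/
def b23 : Spor.J4 := y⁻¹ * x
/-- the elements -/
def b7 : Spor.J4 := (y * t * y * x) ^ 5
/-- the elements -/
def b5 : Spor.J4 := (y * t * y * x) ^ 7

theorem c43 : Codes 112 (rho b43) B43 := by
  simp only [b43, map_mul, map_pow, map_inv, rho_x, rho_y, rho_t]
  apply codes_of
  · codes_tac
  · decide +kernel
theorem c37 : Codes 112 (rho b37) B37 := by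
  simp only [b37, map_mul, map_pow, map_inv, rho_x, rho_y, rho_t]
  apply codes_of
  · codes_tac
  · decide +kernel
theorem c31 : Codes 112 (rho b31) B31 := by
  simp only [b31, map_mul, map_pow, map_inv, rho_x, rho_y, rho_t]
  apply codes_of
  · codes_tac
  · decide +kernel
theorem c29 : Codes 112 (rho b29) B29 := by
  simp only [b29, map_mul, map_pow, map_inv, rho_x, rho_y, rho_t]
  apply codes_of
  · codes_tac
  · decide +kernel
theorem c23 : Codes 112 (rho b23) B23 := by
  simp only [b23, map_mul, map_pow, map_inv, rho_x, rho_y, rho_t]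
  apply codes_of
  · codes_tac
  · decide +kernel
theorem c7 : Codes 112 (rho b7) B7 := by
  simp only [b7, map_mul, map_pow, map_inv, rho_x, rho_y, rho_t]
  apply codes_of
  · codes_tac
  · decide +kernel
theorem c5 : Codes 112 (rho b5) B5 := by
  simp only [b5, map_mul, map_pow, map_inv, rho_x, rho_y, rho_t]
  apply codes_of
  · codes_tac
  · decide +kernel

theorem o43 : rho b43 ^ 43 = 1 := (Codes.pow c43 43).eq_one (by decide +kernel)
theorem o37 : rho b37 ^ 37 = 1 := (Codes.pow c37 37).eq_one (by decide +kernel)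
theorem o31 : rho b31 ^ 31 = 1 := (Codes.pow c31 31).eq_one (by decide +kernel)
theorem o29 : rho b29 ^ 29 = 1 := (Codes.pow c29 29).eq_one (by decide +kernel)
theorem o23 : rho b23 ^ 23 = 1 := (Codes.pow c23 23).eq_one (by decide +kernel)
theorem o7 : rho b7 ^ 7 = 1 := (Codes.pow c7 7).eq_one (by decide +kernel)
theorem o5 : rho b5 ^ 5 = 1 := (Codes.pow c5 5).eq_one (by decide +kernel)

theorem k43 : kc 112 112 (Nat.xor B43 (_root_.Cfsg.Agent.Lib.F2Mat.one 112)) f43P f43R f43Q f43S = true := by decide +kernel
theorem k37 : kc 112 108 (Nat.xor B37 (_root_.Cfsg.Agent.Lib.F2Mat.one 112)) f37P f37R f37Q f37S = true := by decide +kernel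
theorem k31 : kc 112 110 (Nat.xor B31 (_root_.Cfsg.Agent.Lib.F2Mat.one 112)) f31P f31R f31Q f31S = true := by decide +kernel
theorem k29 : kc 112 112 (Nat.xor B29 (_root_.Cfsg.Agent.Lib.F2Mat.one 112)) f29P f29R f29Q f29S = true := by decide +kernel
theorem k23 : kc 112 110 (Nat.xor B23 (_root_.Cfsg.Agent.Lib.F2Mat.one 112)) f23P f23R f23Q f23S = true := by decide +kernel
theorem k7 : kc 112 96 (Nat.xor B7 (_root_.Cfsg.Agent.Lib.F2Mat.one 112)) f7P f7R f7Q f7S = true := by decide +kernel
theorem k5 : kc 112 88 (Nat.xor B5 (_root_.Cfsg.Agent.Lib.F2Mat.one 112)) f5P f5R f5Q f5S = true := by decide +kernel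

/-- an irreducible polynomial of degree 14 -/
def p1 : List Bool := [true, false, false, true, true, true, true, true, true, true, true, true, false, false, true]
/-- an irreducible polynomial of degree 14 -/
def p2 : List Bool := [true, true, false, true, false, false, false, true, false, false, false, true, false, true, true]
/-- an irreducible polynomial of degree 5 -/
def p3 : List Bool := [true, false, true, false, false, true]
/-- an irreducible polynomial of degree 11 -/
def p4 : List Bool := [true, true, false, false, false, true, true, true, false, true, false, true]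

theorem kw43 : kc 112 70 (poly 112 B43 p1) w43P w43R w43Q w43S = true := by decide +kernel
theorem kv43 : kc 112 42 (Cfsg.Agent.Lib.F2Mat.mul 112 (poly 112 B43 p1) (poly 112 B43 p2)) v43P v43R v43Q v43S = true := by
  decide +kernel
theorem kw31 : kc 112 97 (poly 112 B31 p3) w31P w31R w31Q w31S = true := by decide +kernel
theorem kw23 : kc 112 57 (poly 112 B23 p4) w23P w23R w23Q w23S = true := by decide +kernel

end Cfsg.Agent.H516.J4El
end

private theorem dce_47dd010a924f : _root_.True := by
  try have : _root_.True := by simp only [_root_.Cfsg.Agent.H516.J4El.b31.eq_1]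
  try have : _root_.True := by simp only [_root_.Cfsg.Agent.H516.J4El.b29.eq_1]
  try have : _root_.True := by simp only [_root_.Cfsg.Agent.H516.J4El.b5.eq_1]
  try have : _root_.True := by simp only [_root_.Cfsg.Agent.H516.J4El.b23.eq_1]
  try have : _root_.True := by simp only [_root_.Cfsg.Agent.H516.J4El.b7.eq_1]
  try have : _root_.True := by simp only [_root_.Cfsg.Agent.H516.J4El.b37.eq_1]
  try have : _root_.True := by simp only [_root_.Cfsg.Agent.H516.J4El.b43.eq_1]
  exact _root_.True.intro
end

section
prune_inst 0xf4fcfb8ff8b5dfffff7e7ffeb5dffe19d4dfffffdffb4bfffdfbffafdf236f3be5fbaf1de450ff8ed6e29630b87853fb7eeeffae6bdc7ffffd5ff45ffbec1f976fbd88119798340f7c6ffffbf17f8e7f000008000000000000000000000041004210000000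

-- part: H472/ComSixTwo
section
prune_inst 0x90200300008000000018001400001a4292000002000b0000000005020c800c0120010e21a8b00702111288e400380048110004190210000020000a0041200689002276840250ad0830000000a807180c00000000000000000000000000000000000400000
set_option linter.all false
open scoped Cfsg.Agent.FastGrp

-- part: H472/ComRedSix
section
/-!
# Reduction of S4096 (helper472)

`MinSix r s K x` : a minimal counterexample to S4096 (`G = K⟨x⟩`, `K` quasisimple).
`redSix` : S4096 holds for all finite groups if there is no `MinSix`.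
-/

set_option autoImplicit false

namespace Cfsg.Agent.H472.ComRed

open Subgroup Cfsg
open Cfsg.Agent.SignalizersComponents.Components
open Cfsg.Agent.H472.ComAut
open Cfsg.Agent.TwoFusion.FStarControl
open Cfsg.Agent.Lib.Cores

universe u

variable {G : Type u} [Group G]

/-- A minimal counterexample to S4096. -/
structure MinSix (r s : ℕ) (K : Subgroup G) (x : G) : Prop where
  normal : K.Normal
  qs : IsQuasisimple K
  gen : K ⊔ zpowers x = ⊤
  ne : x ∉ centralizer (K : Set G)
  pow : ∀ g, cm x g = 1 ∨ r * s ∣ orderOf (cm x g)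
  fit : ∀ f ∈ fittingSubgroup G, f * x = x * f
  ind : ∀ D : Subgroup G, x ∈ D → D ≠ ⊤ → x ∈ (fittingSubgroup D).map D.subtype

theorem not_dvd_pow {r s t m : ℕ} (hr : r.Prime) (hs : s.Prime) (hrs : r ≠ s) (ht : t.Prime) : ¬ r * s ∣ t ^ m := by
  intro h
  have h1 := (Nat.prime_dvd_prime_iff_eq hr ht).1 (hr.dvd_of_dvd_pow (dvd_of_mul_right_dvd h))
  have h2 := (Nat.prime_dvd_prime_iff_eq hs ht).1 (hs.dvd_of_dvd_pow (dvd_of_mul_left_dvd h))
  exact hrs (h1.trans h2.symm)

/-- **Reduction of S4096**. -/
theorem redSix {r s : ℕ} (hr : r.Prime) (hs : s.Prime) (hrs : r ≠ s)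
    (hno : ∀ (H : Type u) [Group H] [Finite H] (K : Subgroup H) (y : H), MinSix r s K y → False)
    (H : Type u) [Group H] [Finite H] (x : H) (hx : ∀ g, cm x g = 1 ∨ r * s ∣ orderOf (cm x g)) :
    x ∈ fittingSubgroup H := by
  suffices h : ∀ n, ∀ (H : Type u) [Group H] [Finite H], Nat.card H < n → ∀ x : H,
      (∀ g, cm x g = 1 ∨ r * s ∣ orderOf (cm x g)) → x ∈ fittingSubgroup H from
    h (Nat.card H + 1) H (Nat.lt_succ_self _) x hx
  intro n
  induction n with
  | zero => intro H _ _ h; exact absurd h (Nat.not_lt_zero _)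
  | succ n ihn =>
    intro G _ _ hn x hx
    have ih : ∀ (L : Type u) [Group L] [Finite L], Nat.card L < Nat.card G → ∀ x : L,
      (∀ g, cm x g = 1 ∨ r * s ∣ orderOf (cm x g)) → x ∈ fittingSubgroup L :=
      fun L _ _ hL => ihn L (lt_of_lt_of_le hL (Nat.lt_succ_iff.1 hn))
    have hF : ∀ f ∈ fittingSubgroup G, f * x = x * f := by
      suffices h : fittingSubgroup G ≤ centralizer ({x} : Set G) from
        fun f hf => mem_centralizer_singleton_iff.1 (h hf)
      rw [fittingSubgroup_eq_iSup_pCore]
      refine iSup_le fun t => ?_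
      intro f hf
      rw [mem_centralizer_singleton_iff]
      have h1 : cm x f ∈ pCore t G := cm_mem (pCore_normal_inst _) x hf
      obtain ⟨m, hm⟩ := pCore_isPGroup (t : ℕ) ⟨_, h1⟩
      have hm' : (cm x f) ^ (t : ℕ) ^ m = 1 := congrArg Subtype.val hm
      rcases hx f with h2 | h2
      · exact (cm_eq_one.1 h2).symm
      · exact absurd (h2.trans (orderOf_dvd_of_pow_eq_one hm')) (not_dvd_pow hr hs hrs t.2)
    have hE : layer G ≤ centralizer ({x} : Set G) := by
      rw [layer_le_iff]
      intro K hK k hk
      rw [mem_centralizer_singleton_iff]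
      suffices h : x ∈ centralizer (K : Set G) from mem_centralizer_iff.1 h k hk
      have hQ := hK.2
      have hxn : x ∈ normalizer (K : Set G) := by
        by_contra hxn
        obtain ⟨t, ht, htd, -⟩ := exists_prime_ne hK.2.2 (quot_not_comm hK.2) hr
        have h1 : K.map (MulAut.conj x⁻¹).toMonoidHom ≠ K := fun h => hxn (by
          have := map_conj_eq_iff.1 h
          simpa using this)
        obtain ⟨k, -, h2, m, hm⟩ := exists_of_move hK h1 ht htd
        rcases hx k with h3 | h3
        · exact h2 h3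
        · rw [hm] at h3
          exact not_dvd_pow hr hs hrs ht h3
      by_contra hxc
      by_cases hD : K ⊔ zpowers x = ⊤
      · have hKn : K.Normal := by
          rw [← normalizer_eq_top_iff, ← top_le_iff, ← hD]
          exact sup_le le_normalizer (zpowers_le.2 hxn)
        refine hno G K x ⟨hKn, hQ, hD, hxc, hx, hF, ?_⟩
        intro D hxD hDt
        have h1 := ih D (card_lt hDt) ⟨x, hxD⟩ (fun g => by
          rcases hx g with h | h
          · left
            exact Subtype.ext h
          · right
            rw [← Subgroup.orderOf_coe]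
            exact h)
        exact ⟨_, h1, rfl⟩
      · set D := K ⊔ zpowers x with hDdef
        have hKD : K ≤ D := le_sup_left
        have hxD : x ∈ D := (le_sup_right : zpowers x ≤ D) (mem_zpowers x)
        have h1 := ih D (card_lt hD) ⟨x, hxD⟩ (fun g => by
          rcases hx g with h | h
          · left
            exact Subtype.ext h
          · right
            rw [← Subgroup.orderOf_coe]
            exact h)
        have hKc : IsComponent (K.subgroupOf D) := isComponent_subgroupOf hKD hK
        have h2 : ⁅K.subgroupOf D, fittingSubgroup D⁆ = ⊥ :=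
          component_commutator_solvable hKc (by rw [normalizer_eq_top_iff.2 inferInstance]; exact le_top) (by
            have := fittingSubgroup_isNilpotent (G := D)
            infer_instance)
        rw [commutator_eq_bot_iff_le_centralizer, le_centralizer_iff] at h2
        apply hxc
        rw [mem_centralizer_iff]
        intro k hk
        have h3 := mem_centralizer_iff.1 (h2 h1) ⟨k, hKD hk⟩ (mem_subgroupOf.2 hk)
        exact congrArg Subtype.val h3
    apply centralizer_genFitting_le_fitting
    rw [mem_centralizer_iff]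
    intro k hk
    have h1 : generalizedFittingSubgroup G ≤ centralizer ({x} : Set G) :=
      sup_le hE fun f hf => mem_centralizer_singleton_iff.2 (hF f hf)
    exact mem_centralizer_singleton_iff.1 (h1 hk)

end Cfsg.Agent.H472.ComRed
end

-- part: H472/ComSixOne
section
/-!
# S4096: both primes divide the order of the induced automorphism (helper472)

`MinSix.dvd_orderOf` : in a minimal counterexample `MinSix r s K x` the prime `r` divides the order of the automorphism
of `K` induced by `x`.  (Otherwise `C_G(x) / Z(G)` is a Frobenius complement in `G / Z(G)`.)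
-/

set_option autoImplicit false
set_option linter.unusedSectionVars false

namespace Cfsg.Agent.H472.ComRed

open Subgroup Cfsg
open scoped Pointwise
open Cfsg.Agent.SignalizersComponents.Components
open Cfsg.Agent.H472.ComAut
open Cfsg.Agent.Lib.Cores

universe u

section nilp

variable {N : Type*} [Group N] [Finite N]

/-- In a finite nilpotent group the elements of order prime to `r` are closed under multiplication. -/
theorem nilp_mul_coprime [hN : Group.IsNilpotent N] {r : ℕ} (hr : r.Prime) {a b : N} (ha : (orderOf a).Coprime r)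
    (hb : (orderOf b).Coprime r) : (orderOf (a * b)).Coprime r := by
  classical
  have := Fact.mk hr
  obtain ⟨P⟩ : Nonempty (Sylow r N) := inferInstance
  have hPn : (P : Subgroup N).Normal := by
    have h2 := (Group.isNilpotent_of_finite_tfae (G := N)).out 0 3
    exact (h2.mp hN) r ⟨hr⟩ P
  obtain ⟨Q, hQ⟩ := Subgroup.exists_right_complement'_of_coprime P.card_coprime_index
  have hQcard : Nat.card Q = (P : Subgroup N).index := by
    rw [← hQ.symm.index_eq_card]
  have hQp : ¬ r ∣ Nat.card Q := by
    rw [hQcard]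
    exact P.not_dvd_index
  have hQcop : ∀ z ∈ Q, (orderOf z).Coprime r := by
    intro z hz
    have h3 : orderOf z ∣ Nat.card Q := by
      have := orderOf_dvd_natCard (⟨z, hz⟩ : Q)
      rwa [Subgroup.orderOf_mk] at this
    exact ((Nat.Prime.coprime_iff_not_dvd hr).mpr (fun h => hQp (h.trans h3))).symm
  have hchar : ∀ x : N, (orderOf x).Coprime r → x ∈ Q := by
    intro x hx
    obtain ⟨⟨y, z⟩, hyz⟩ := hQ.2 x
    have hyz' : (y : N) * z = x := hyz
    obtain ⟨k, hk⟩ := P.isPGroup' y
    have hk' : (y : N) ^ r ^ k = 1 := congrArg Subtype.val hk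
    obtain ⟨j, -, hj⟩ := (Nat.dvd_prime_pow hr).1 (orderOf_dvd_of_pow_eq_one hk')
    have hcom : Commute (y : N) (z : N) := by
      apply Cfsg.Agent.Lib.NilpotentCoprime.commute_of_coprime_orderOf
      rw [hj]
      exact Nat.Coprime.pow_left _ (hQcop z z.2).symm
    have h4 : ((y : N) * z) ^ (orderOf x * orderOf (z : N)) = 1 := by
      rw [hyz', pow_mul, pow_orderOf_eq_one, one_pow]
    rw [hcom.mul_pow, mul_comm (orderOf x), pow_mul (z : N), pow_orderOf_eq_one, one_pow, mul_one] at h4
    have h5 : orderOf (y : N) ∣ orderOf (z : N) * orderOf x := orderOf_dvd_of_pow_eq_one h4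
    have h6 : Nat.Coprime (orderOf (y : N)) (orderOf (z : N) * orderOf x) := by
      rw [hj]
      exact Nat.Coprime.pow_left _ ((Nat.Coprime.mul_left (hQcop z z.2) hx).symm)
    have h7 : orderOf (y : N) = 1 := Nat.Coprime.eq_one_of_dvd h6 h5
    rw [orderOf_eq_one_iff] at h7
    rw [← hyz', h7, one_mul]
    exact z.2
  exact hQcop _ (mul_mem (hchar a ha) (hchar b hb))

end nilp

variable {G : Type u} [Group G] [Finite G]

/-- `G / Z(G)` is not a Frobenius group with complement `C_G(x) / Z(G)` if `x` centralizes `F(G)`. -/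
theorem false_of_frob {x : G} (hfit : ∀ f ∈ fittingSubgroup G, f * x = x * f)
    (hc : ∀ D : Subgroup G, x ∈ D → D ≠ ⊤ → ∀ d ∈ D, x * d = d * x)
    (hcomm : ∀ g : G, x * (g * x * g⁻¹) = (g * x * g⁻¹) * x → x * g = g * x) (hxZ : x ∉ center G) : False := by
  set C : Subgroup G := centralizer ({x} : Set G) with hC
  have hmemC : ∀ {c : G}, c ∈ C ↔ c * x = x * c := fun {c} => mem_centralizer_singleton_iff
  have hxC : x ∈ C := hmemC.2 rfl
  have hZC : center G ≤ C := fun z hz => hmemC.2 (mem_center_iff.1 hz x).symm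
  -- `C` meets its conjugates in `Z(G)`
  have hTI : ∀ g : G, g ∉ C → ∀ u ∈ C, g⁻¹ * u * g ∈ C → u ∈ center G := by
    intro g hg u hu hu'
    by_contra hun
    apply hg
    have hD : centralizer ({u} : Set G) ≠ ⊤ := by
      intro h
      apply hun
      rw [mem_center_iff]
      intro v
      exact mem_centralizer_singleton_iff.1 (show v ∈ centralizer ({u} : Set G) by rw [h]; trivial)
    have h1 : x ∈ centralizer ({u} : Set G) := mem_centralizer_singleton_iff.2 (hmemC.1 hu).symm
    have h2 : g * x * g⁻¹ ∈ centralizer ({u} : Set G) := by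
      rw [mem_centralizer_singleton_iff]
      have h3 : (g⁻¹ * u * g) * x = x * (g⁻¹ * u * g) := hmemC.1 hu'
      calc g * x * g⁻¹ * u = g * (x * (g⁻¹ * u * g)) * g⁻¹ := by group
        _ = g * ((g⁻¹ * u * g) * x) * g⁻¹ := by rw [h3]
        _ = u * (g * x * g⁻¹) := by group
    exact hmemC.2 (hcomm g (hc _ h1 hD _ h2)).symm
  -- the quotient
  let π : G →* G ⧸ center G := QuotientGroup.mk' (center G)
  have hπs : Function.Surjective π := QuotientGroup.mk'_surjective _
  set H : Subgroup (G ⧸ center G) := C.map π with hH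
  have hker : ∀ {v : G}, π v = 1 ↔ v ∈ center G := fun {v} => QuotientGroup.eq_one_iff v
  have hmemH : ∀ {v : G}, π v ∈ H ↔ v ∈ C := by
    intro v
    constructor
    · rintro ⟨c, hc', hcv⟩
      have h1 : c⁻¹ * v ∈ center G := by
        rw [← hker, map_mul, map_inv, hcv, inv_mul_cancel]
      have h2 := mul_mem hc' (hZC h1)
      simpa using h2
    · exact fun h => ⟨v, h, rfl⟩
  have hF : IsFrobeniusComplement H := by
    refine ⟨?_, ?_, ?_⟩
    · intro h
      apply hxZ
      rw [← hker, ← mem_bot, ← h]
      exact hmemH.2 hxC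
    · intro h
      apply hxZ
      rw [mem_center_iff]
      intro g
      exact hmemC.1 (hmemH.1 (show π g ∈ H by rw [h]; trivial))
    · intro g hg
      obtain ⟨g, rfl⟩ := hπs g
      rw [eq_bot_iff]
      rintro v ⟨hv1, hv2⟩
      obtain ⟨u, rfl⟩ := hπs v
      rw [mem_bot, hker]
      have h1 : g ∉ C := fun h => hg (hmemH.2 h)
      refine hTI g h1 u (hmemH.1 hv1) ?_
      replace hv2 : π u ∈ MulAut.conj (π g) • H := hv2
      rw [Subgroup.mem_pointwise_smul_iff_inv_smul_mem] at hv2
      have h2 : (MulAut.conj (π g))⁻¹ • π u = π (g⁻¹ * u * g) := by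
        rw [← map_inv, MulAut.smul_def, MulAut.conj_apply, inv_inv, map_mul, map_mul, map_inv]
      rw [h2] at hv2
      exact hmemH.1 hv2
  obtain ⟨N, hN, hNn, hNnil⟩ := Cfsg.Agent.S0042.result H hF
  -- the preimage of `N` is nilpotent
  have hNc : N.comap π ≤ fittingSubgroup G := by
    refine le_fittingSubgroup inferInstance ?_
    let f : N.comap π →* N := (π.comp (N.comap π).subtype).codRestrict N fun y => y.2
    have hk : f.ker ≤ center (N.comap π) := by
      intro z hz
      rw [MonoidHom.mem_ker] at hz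
      have h1 : π (z : G) = 1 := congrArg Subtype.val hz
      rw [hker, mem_center_iff] at h1
      rw [mem_center_iff]
      intro g
      exact Subtype.ext (h1 g)
    exact Subgroup.isNilpotent_of_ker_le_center f hk
  have hNb : N = ⊥ := by
    rw [eq_bot_iff]
    intro v hv
    obtain ⟨u, rfl⟩ := hπs v
    have h1 : u ∈ C := hmemC.2 (hfit u (hNc hv))
    have h2 : π u ∈ frobeniusKernel H := hN ▸ hv
    rcases h2 with h2 | h2
    · rw [h2]; exact one_mem _
    · exfalso
      apply h2 1
      rw [map_one, one_smul]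
      exact hmemH.2 h1
  have h1 := (Cfsg.Agent.S0034.result H hF).1
  rw [← hN, hNb] at h1
  have h2 : H.index = 1 := by
    rw [← h1]
    show Nat.card (⊥ : Subgroup (G ⧸ center G)) = 1
    exact Subgroup.card_bot
  exact hF.2.1 (Subgroup.index_eq_one.1 h2)

/-- A power of `x` centralizing `K` is central. -/
theorem MinSix.pow_central {r s : ℕ} {K : Subgroup G} {x : G} (h : MinSix r s K x) {i : ℤ}
    (hi : x ^ i ∈ centralizer (K : Set G)) : x ^ i ∈ center G := by
  have h1 : K ⊔ zpowers x ≤ centralizer ({x ^ i} : Set G) := by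
    refine sup_le ?_ (zpowers_le.2 ?_)
    · intro k hk
      rw [mem_centralizer_singleton_iff]
      exact mem_centralizer_iff.1 hi k hk
    · rw [mem_centralizer_singleton_iff]
      exact (Commute.refl x).zpow_right i
  rw [h.gen] at h1
  rw [mem_center_iff]
  intro g
  exact mem_centralizer_singleton_iff.1 (h1 (mem_top g))

theorem MinSix.mem_normalizer {r s : ℕ} {K : Subgroup G} {x : G} (h : MinSix r s K x) :
    x ∈ normalizer (K : Set G) := by
  have := h.normal
  rw [normalizer_eq_top_iff.2 this]
  trivial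

theorem nAut_zpow {K : Subgroup G} {x : G} (hx : x ∈ normalizer (K : Set G)) (i : ℤ) (k : K) :
    (((nAut hx) ^ i) k : G) = x ^ (-i) * k * x ^ i := by
  have h1 : (nAut hx) ^ i = K.normalizerMonoidHom ((⟨x⁻¹, inv_mem hx⟩ : normalizer (K : Set G)) ^ i) := by
    rw [map_zpow]
    rfl
  have h2 : ((⟨x⁻¹, inv_mem hx⟩ : normalizer (K : Set G)) ^ i : normalizer (K : Set G)) =
      ⟨(x ^ (-i)), zpow_mem hx _⟩ := by
    apply Subtype.ext
    rw [SubgroupClass.coe_zpow]
    show x⁻¹ ^ i = x ^ (-i)
    rw [inv_zpow, zpow_neg]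
  rw [h1, h2]
  show x ^ (-i) * k * (x ^ (-i))⁻¹ = _
  rw [zpow_neg, inv_inv]

/-- Powers `x ^ i` with `nAut ^ i = 1` centralize `K`. -/
theorem zpow_mem_centralizer {K : Subgroup G} {x : G} (hx : x ∈ normalizer (K : Set G)) {i : ℤ}
    (hi : (nAut hx) ^ i = 1) : x ^ i ∈ centralizer (K : Set G) := by
  rw [mem_centralizer_iff]
  intro k hk
  have h1 := nAut_zpow hx i ⟨k, hk⟩
  rw [hi] at h1
  have h2 : k = x ^ (-i) * k * x ^ i := h1
  rw [zpow_neg] at h2
  calc k * x ^ i = (x ^ i) * ((x ^ i)⁻¹ * k * x ^ i) := by group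
    _ = x ^ i * k := by rw [← h2]

/-- **`r` divides the order of the automorphism induced by `x`.** -/
theorem MinSix.dvd_orderOf {r s : ℕ} (hr : r.Prime) {K : Subgroup G} {x : G} (h : MinSix r s K x) :
    r ∣ orderOf (nAut h.mem_normalizer) := by
  by_contra hrn
  set n := orderOf (nAut h.mem_normalizer) with hn
  have hn0 : 0 < n := orderOf_pos _
  -- `x = y w`
  set e := (orderOf x).factorization r with he
  have hcop : Nat.Coprime (r ^ e) n := Nat.Coprime.pow_left _ ((Nat.Prime.coprime_iff_not_dvd hr).2 hrn)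
  obtain ⟨b, c, hbc⟩ : ∃ b c : ℤ, (r ^ e : ℕ) * b + n * c = 1 := by
    have := Nat.gcd_eq_gcd_ab (r ^ e) n
    rw [hcop.gcd_eq_one] at this
    exact ⟨_, _, this.symm⟩
  set w := x ^ ((r ^ e : ℕ) * b : ℤ) with hw
  set y := x ^ (n * c : ℤ) with hy
  have hxyw : x = y * w := by
    rw [hy, hw, ← zpow_add, add_comm, hbc, zpow_one]
  have hyZ : y ∈ center G := by
    apply h.pow_central
    apply zpow_mem_centralizer h.mem_normalizer
    rw [zpow_mul, zpow_natCast, hn, pow_orderOf_eq_one, one_zpow]
  have hwo : (orderOf w).Coprime r := by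
    have hox : orderOf x ≠ 0 := (orderOf_pos x).ne'
    have h1 : w ^ (orderOf x / r ^ e) = 1 := by
      rw [hw, ← zpow_natCast, ← zpow_mul]
      have h2 : ((r ^ e : ℕ) * b : ℤ) * ((orderOf x / r ^ e : ℕ) : ℤ) = (orderOf x : ℤ) * b := by
        have h3 : (r ^ e) * (orderOf x / r ^ e) = orderOf x := Nat.mul_div_cancel' (Nat.ordProj_dvd _ _)
        calc ((r ^ e : ℕ) * b : ℤ) * ((orderOf x / r ^ e : ℕ) : ℤ) =
            (((r ^ e) * (orderOf x / r ^ e) : ℕ) : ℤ) * b := by push_cast; ring
          _ = _ := by rw [h3]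
      rw [h2, zpow_mul, zpow_natCast, pow_orderOf_eq_one, one_zpow]
    refine Nat.Coprime.coprime_dvd_left (orderOf_dvd_of_pow_eq_one h1) ?_
    exact ((Nat.coprime_ordCompl hr hox)).symm
  have hwx : w ∈ zpowers x := ⟨_, rfl⟩
  have hcmw : ∀ g : G, cm x g = w⁻¹ * (g⁻¹ * w * g) := by
    intro g
    have h1 : g⁻¹ * y = y * g⁻¹ := mem_center_iff.1 hyZ g⁻¹
    have h2 : w * y = y * w := mem_center_iff.1 hyZ w
    rw [cm_eq', hxyw]
    calc (y * w)⁻¹ * (g⁻¹ * (y * w) * g) = w⁻¹ * y⁻¹ * ((g⁻¹ * y) * w * g) := by group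
      _ = w⁻¹ * (g⁻¹ * w * g) := by rw [h1]; group
  -- commutators of order prime to `r` are trivial
  have hone : ∀ g : G, (orderOf (cm x g)).Coprime r → cm x g = 1 := by
    intro g hg
    rcases h.pow g with h1 | h1
    · exact h1
    · exfalso
      have h2 : r ∣ orderOf (cm x g) := dvd_of_mul_right_dvd h1
      have h3 := Nat.dvd_gcd h2 dvd_rfl
      rw [hg.gcd_eq_one] at h3
      exact hr.one_lt.ne' (Nat.dvd_one.1 h3)
  have hwg : ∀ g : G, (orderOf (g⁻¹ * w * g)).Coprime r := by
    intro g
    have h1 : orderOf (g⁻¹ * w * g) = orderOf w := by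
      have := orderOf_injective (MulAut.conj g⁻¹).toMonoidHom (MulAut.conj g⁻¹).injective w
      simpa using this
    rw [h1]
    exact hwo
  have hwi : (orderOf w⁻¹).Coprime r := by rw [orderOf_inv]; exact hwo
  refine false_of_frob (x := x) h.fit ?_ ?_ ?_
  · -- `x` is central in every proper subgroup containing it
    intro D hxD hDt d hd
    obtain ⟨f, hf, hfx⟩ := h.ind D hxD hDt
    have hfx' : (f : G) = x := hfx
    have hnil : Group.IsNilpotent (fittingSubgroup D) := fittingSubgroup_isNilpotent
    have hFn : (fittingSubgroup D).Normal := fittingSubgroup_normal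
    -- `w` and its conjugate in `F(D)`
    obtain ⟨i, hi⟩ := hwx
    have hi' : x ^ i = w := hi
    set w' : D := f ^ i with hw'
    have hw'c : (w' : G) = w := by
      rw [hw', SubgroupClass.coe_zpow, hfx', hi']
    have hw'F : w' ∈ fittingSubgroup D := zpow_mem hf i
    have hw'F2 : (⟨d, hd⟩ : D)⁻¹ * w' * ⟨d, hd⟩ ∈ fittingSubgroup D := by
      simpa using hFn.conj_mem w' hw'F (⟨d, hd⟩ : D)⁻¹
    have h1 := nilp_mul_coprime (N := fittingSubgroup D) hr (a := (⟨w', hw'F⟩ : fittingSubgroup D)⁻¹)
      (b := ⟨_, hw'F2⟩) (by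
        rw [orderOf_inv, ← Subgroup.orderOf_coe, ← Subgroup.orderOf_coe]
        show (orderOf (w' : G)).Coprime r
        rw [hw'c]
        exact hwo) (by
        rw [← Subgroup.orderOf_coe, ← Subgroup.orderOf_coe]
        show (orderOf (d⁻¹ * (w' : G) * d)).Coprime r
        rw [hw'c]
        exact hwg d)
    rw [← Subgroup.orderOf_coe, ← Subgroup.orderOf_coe] at h1
    have h2 : (orderOf ((w' : G)⁻¹ * (d⁻¹ * (w' : G) * d))).Coprime r := h1
    rw [hw'c, ← hcmw] at h2
    exact cm_eq_one.1 (hone d h2)
  · -- commuting conjugates are equal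
    intro g hg
    have hwx : w ∈ zpowers x := ⟨_, rfl⟩
    obtain ⟨i, hi⟩ := hwx
    have hi' : x ^ i = w := hi
    have h1 : Commute x (g * x * g⁻¹) := hg
    have h2 : Commute w⁻¹ (g⁻¹⁻¹ * w * g⁻¹) := by
      have h3 : g⁻¹⁻¹ * w * g⁻¹ = (g * x * g⁻¹) ^ i := by
        rw [inv_inv, conj_zpow, hi']
      rw [h3, ← hi']
      exact ((h1.zpow_left i).inv_left).zpow_right i
    have h3 : (orderOf (cm x g⁻¹)).Coprime r := by
      rw [hcmw]
      have h4 : orderOf (w⁻¹ * (g⁻¹⁻¹ * w * g⁻¹)) ∣ orderOf w⁻¹ * orderOf (g⁻¹⁻¹ * w * g⁻¹) :=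
        (h2.orderOf_mul_dvd_lcm).trans (Nat.lcm_dvd_mul _ _)
      exact Nat.Coprime.coprime_dvd_left h4 (Nat.Coprime.mul_left hwi (hwg g⁻¹))
    have h5 := cm_eq_one.1 (hone _ h3)
    have h6 : x * g⁻¹ = g⁻¹ * x := h5
    calc x * g = g * (g⁻¹ * x) * g := by group
      _ = g * (x * g⁻¹) * g := by rw [h6]
      _ = g * x := by group
  · intro hZ
    apply h.ne
    rw [mem_centralizer_iff]
    intro k _
    exact mem_center_iff.1 hZ k

end Cfsg.Agent.H472.ComRed
end

-- part: H472/ComSixTwo
section
/-!
# S4096: the automorphism of the simple quotient (helper472)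

* `MinSix.bad` : it is `Bad p` for `p ∈ {r, s}` prime to `#Z(K)`;
* `MinSix.rfix` : it is `RFix ℓ` for every prime `ℓ`.
-/

set_option autoImplicit false
set_option linter.unusedSectionVars false

namespace Cfsg.Agent.H472.ComRed

open Subgroup Cfsg
open scoped Pointwise
open Cfsg.Agent.SignalizersComponents.Components
open Cfsg.Agent.H472.ComAut
open Cfsg.Agent.Lib.Cores
open Cfsg.Agent.H705

universe u

variable {G : Type u} [Group G] [Finite G]

theorem MinSix.symm {r s : ℕ} {K : Subgroup G} {x : G} (h : MinSix r s K x) : MinSix s r K x :=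
  ⟨h.normal, h.qs, h.gen, h.ne, fun g => by rw [mul_comm]; exact h.pow g, h.fit, h.ind⟩

/-- The automorphism of the simple quotient. -/
def MinSix.aut {r s : ℕ} {K : Subgroup G} {x : G} (h : MinSix r s K x) : MulAut (K ⧸ center K) :=
  quotAut (nAut h.mem_normalizer)

theorem MinSix.aut_mk {r s : ℕ} {K : Subgroup G} {x : G} (h : MinSix r s K x) (k : K) :
    h.aut (QuotientGroup.mk k) = QuotientGroup.mk (nAut h.mem_normalizer k) := rfl

theorem MinSix.aut_ne_one {r s : ℕ} {K : Subgroup G} {x : G} (h : MinSix r s K x) : h.aut ≠ 1 := fun h1 =>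
  h.ne (nAut_eq_one h.mem_normalizer (eq_one_of_quotAut h.qs.1 h1))

theorem MinSix.bad {r s : ℕ} {K : Subgroup G} {x : G} (h : MinSix r s K x) {p : ℕ} (hp : p.Prime)
    (hprs : p ∣ r * s) (hZ : ¬ p ∣ Nat.card (center K)) : Bad p h.aut := by
  intro v
  induction v using QuotientGroup.induction_on with
  | _ k =>
  set c : K := (nAut h.mem_normalizer k)⁻¹ * k with hc
  have h1 : (h.aut (QuotientGroup.mk k))⁻¹ * QuotientGroup.mk k = (QuotientGroup.mk c : K ⧸ center K) := by
    rw [h.aut_mk, hc, QuotientGroup.mk_mul, QuotientGroup.mk_inv]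
  rw [h1]
  rcases h.pow k with h2 | h2
  · left
    have h3 : c = 1 := by
      apply Subtype.ext
      rw [hc, nAut_cm]
      exact h2
    rw [h3]
    rfl
  · right
    have h3 : p ∣ orderOf c := by
      rw [← Subgroup.orderOf_coe, hc, nAut_cm]
      exact hprs.trans h2
    have h4 : c ^ (orderOf (QuotientGroup.mk c : K ⧸ center K)) ∈ center K := by
      rw [← QuotientGroup.eq_one_iff, QuotientGroup.mk_pow, pow_orderOf_eq_one]
    have h5 : c ^ (orderOf (QuotientGroup.mk c : K ⧸ center K) * Nat.card (center K)) = 1 := by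
      rw [pow_mul]
      have := pow_card_eq_one' (x := (⟨_, h4⟩ : center K))
      exact congrArg Subtype.val this
    rcases hp.dvd_mul.1 (h3.trans (orderOf_dvd_of_pow_eq_one h5)) with h6 | h6
    · exact h6
    · exact absurd h6 hZ

/-- The preimage in `K` of an `ℓ`-subgroup of `K / Z(K)` is nilpotent. -/
theorem nilp_comap {K : Type*} [Group K] [Finite K] {l : ℕ} [Fact l.Prime] {V : Subgroup (K ⧸ center K)}
    (hV : IsPGroup l V) : Group.IsNilpotent (V.comap (QuotientGroup.mk' (center K))) := by
  set M := V.comap (QuotientGroup.mk' (center K)) with hM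
  let f : M →* V := ((QuotientGroup.mk' (center K)).comp M.subtype).codRestrict V fun y => y.2
  have hk : f.ker ≤ center M := by
    intro z hz
    rw [MonoidHom.mem_ker] at hz
    have h1 : (QuotientGroup.mk' (center K)) (z : K) = 1 := congrArg Subtype.val hz
    rw [← MonoidHom.mem_ker, QuotientGroup.ker_mk', mem_center_iff] at h1
    rw [mem_center_iff]
    intro g
    exact Subtype.ext (h1 g)
  have := hV.isNilpotent
  exact Subgroup.isNilpotent_of_ker_le_center f hk

/-- Every `ℓ`-element of `K / Z(K)` lifts to an `ℓ`-element. -/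
theorem exists_lift {K : Type*} [Group K] [Finite K] {N : Subgroup K} [N.Normal] {l : ℕ} (hl : l.Prime) (k : K)
    {i : ℕ} (hi : (QuotientGroup.mk k : K ⧸ N) ^ l ^ i = 1) :
    ∃ k' : K, (QuotientGroup.mk k' : K ⧸ N) = QuotientGroup.mk k ∧ ∃ e, k' ^ l ^ e = 1 := by
  have ho : orderOf k ≠ 0 := (orderOf_pos k).ne'
  set e := (orderOf k).factorization l with he
  set m := orderOf k / l ^ e with hm
  have hmul : l ^ e * m = orderOf k := Nat.mul_div_cancel' (Nat.ordProj_dvd _ _)
  have hcop : Nat.Coprime m (l ^ e) := Nat.Coprime.pow_right _ (Nat.coprime_ordCompl hl ho).symm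
  obtain ⟨b, c, hbc⟩ : ∃ b c : ℤ, (m : ℤ) * b + ((l ^ e : ℕ) : ℤ) * c = 1 := by
    have := Nat.gcd_eq_gcd_ab m (l ^ e)
    rw [hcop.gcd_eq_one] at this
    exact ⟨_, _, this.symm⟩
  refine ⟨k ^ ((m : ℤ) * b), ?_, e, ?_⟩
  · have h1 : orderOf (QuotientGroup.mk k : K ⧸ N) ∣ l ^ e := by
      obtain ⟨j, -, hj⟩ := (Nat.dvd_prime_pow hl).1 (orderOf_dvd_of_pow_eq_one hi)
      rw [hj]
      have h2 : l ^ j ∣ orderOf k := by
        rw [← hj]
        exact orderOf_map_dvd (QuotientGroup.mk' N) k
      exact pow_dvd_pow _ ((hl.pow_dvd_iff_le_factorization ho).1 h2)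
    have h2 : (QuotientGroup.mk k : K ⧸ N) ^ (((l ^ e : ℕ) : ℤ) * c) = 1 := by
      rw [zpow_mul, zpow_natCast, orderOf_dvd_iff_pow_eq_one.1 h1, one_zpow]
    have h3 : (QuotientGroup.mk k : K ⧸ N) = (QuotientGroup.mk k : K ⧸ N) ^ ((m : ℤ) * b) := by
      conv_lhs => rw [← zpow_one (QuotientGroup.mk k : K ⧸ N), ← hbc, zpow_add, h2, mul_one]
    rw [QuotientGroup.mk_zpow]
    exact h3.symm
  · rw [← zpow_natCast, ← zpow_mul]
    have h2 : ((m : ℤ) * b) * ((l ^ e : ℕ) : ℤ) = (orderOf k : ℤ) * b := by
      rw [← hmul]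
      push_cast
      ring
    rw [h2, zpow_mul, zpow_natCast, pow_orderOf_eq_one, one_zpow]

theorem MinSix.rfix {r s : ℕ} (hr : r.Prime) (hs : s.Prime) (hrs : r ≠ s) {K : Subgroup G} {x : G}
    (h : MinSix r s K x) {l : ℕ} (hl : l.Prime) : RFix l h.aut := by
  have := Fact.mk hl
  intro V hV v hv hav
  induction v using QuotientGroup.induction_on with
  | _ k =>
  obtain ⟨i, hi⟩ := hV ⟨_, hv⟩
  have hi' : (QuotientGroup.mk k : K ⧸ center K) ^ l ^ i = 1 := congrArg Subtype.val hi
  obtain ⟨k', hk', e, he⟩ := exists_lift hl k hi'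
  rw [← hk'] at hv hav ⊢
  set α := nAut h.mem_normalizer with hα
  set M := V.comap (QuotientGroup.mk' (center K)) with hM
  have hnil : Group.IsNilpotent M := nilp_comap hV
  have h1 : k' ∈ M := hv
  have h2 : α k' ∈ M := hav
  have h3 : (⟨k', h1⟩ : M) ∈ pCore l M :=
    Cfsg.Agent.Lib.GenFitting.mem_pCore_of_mem_nilpotent_normal (N := ⊤) inferInstance
      (by infer_instance) (mem_top _) (k := e) (Subtype.ext (by simpa using he))
  have h4 : (⟨α k', h2⟩ : M) ∈ pCore l M :=
    Cfsg.Agent.Lib.GenFitting.mem_pCore_of_mem_nilpotent_normal (N := ⊤) inferInstance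
      (by infer_instance) (mem_top _) (k := e) (Subtype.ext (by
        show (α k') ^ l ^ e = 1
        rw [← map_pow, he, map_one]))
  obtain ⟨j, hj⟩ := pCore_isPGroup (G := M) l ⟨_, mul_mem (inv_mem h4) h3⟩
  have hj' : ((α k')⁻¹ * k') ^ l ^ j = 1 := congrArg (fun z : pCore l M => ((z : M) : K)) hj
  have h5 : cm x (k' : G) = 1 := by
    rcases h.pow k' with h6 | h6
    · exact h6
    · exfalso
      rw [← nAut_cm h.mem_normalizer, Subgroup.orderOf_coe] at h6
      exact not_dvd_pow hr hs hrs hl (h6.trans (orderOf_dvd_of_pow_eq_one hj'))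
  rw [← nAut_cm h.mem_normalizer] at h5
  have h6 : (α k')⁻¹ * k' = 1 := Subtype.ext h5
  rw [h.aut_mk, inv_mul_eq_one.1 h6]

end Cfsg.Agent.H472.ComRed
end
end

-- part: H472/ComSixAsm_mg
section
prune_inst 0xa0000600000000000000000080001c2280000000000b0000000000000000080000000620000000000000000000000000000004004000000000000000002006090002400002000100000000000000000000000000000000000000000000000000000400000
set_option linter.all false
open scoped Cfsg.Agent.FastGrp

-- part: H472/ComAlt
section
/-!
# Commutators with an automorphism of an alternating group (helper472)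

Every `σ ≠ 1` in `Perm (Fin n)`, `n ≥ 5`, has commutators `(σ s σ⁻¹)⁻¹ s` with `s` even of two different
prime orders; so `Com p A_n` for `n ≥ 5`, `n ≠ 6` and all primes `p`.
-/

set_option autoImplicit false

namespace Cfsg.Agent.H472.ComAlt

open Equiv Equiv.Perm

/-- some commutator of `σ` with an even permutation has order `q` -/
def W {n : ℕ} (q : ℕ) (σ : Perm (Fin n)) : Prop :=
  ∃ s : Perm (Fin n), Perm.sign s = 1 ∧ orderOf ((σ * s * σ⁻¹)⁻¹ * s) = q

theorem conj_swap {n : ℕ} (σ : Perm (Fin n)) (a b : Fin n) : σ * swap a b * σ⁻¹ = swap (σ a) (σ b) := by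
  rw [Equiv.mul_swap_eq_swap_mul, mul_assoc, mul_inv_cancel, mul_one]

theorem via_swap {n m : ℕ} (ι : Fin m ↪ Fin n) (i j : Fin m) :
    viaEmbeddingHom ι (swap i j) = swap (ι i) (ι j) := by
  ext x
  rw [viaEmbeddingHom_apply]
  by_cases hx : x ∈ Set.range ι
  · obtain ⟨y, rfl⟩ := hx
    rw [viaEmbedding_apply]
    rcases eq_or_ne y i with rfl | hyi
    · rw [swap_apply_left, swap_apply_left]
    · rcases eq_or_ne y j with rfl | hyj
      · rw [swap_apply_right, swap_apply_right]
      · rw [swap_apply_of_ne_of_ne hyi hyj, swap_apply_of_ne_of_ne (fun h => hyi (ι.injective h))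
          (fun h => hyj (ι.injective h))]
  · rw [viaEmbedding_apply_of_notMem _ _ _ hx, swap_apply_of_ne_of_ne]
    · rintro rfl; exact hx ⟨_, rfl⟩
    · rintro rfl; exact hx ⟨_, rfl⟩

theorem wit {n m : ℕ} (ι : Fin m ↪ Fin n) {σ : Perm (Fin n)} {q : ℕ} (hq : q.Prime) (i j k l i' j' k' l' : Fin m)
    (hij : i ≠ j) (hkl : k ≠ l) (hi : σ (ι i) = ι i') (hj : σ (ι j) = ι j') (hk : σ (ι k) = ι k')
    (hl : σ (ι l) = ι l') (h1 : ((swap i' j' * swap k' l')⁻¹ * (swap i j * swap k l)) ^ q = 1)
    (h2 : (swap i' j' * swap k' l')⁻¹ * (swap i j * swap k l) ≠ 1) : W q σ := by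
  refine ⟨swap (ι i) (ι j) * swap (ι k) (ι l), ?_, ?_⟩
  · rw [map_mul, sign_swap (fun h => hij (ι.injective h)), sign_swap (fun h => hkl (ι.injective h))]
    rfl
  · have e1 : σ * (swap (ι i) (ι j) * swap (ι k) (ι l)) * σ⁻¹ = viaEmbeddingHom ι (swap i' j' * swap k' l') := by
      rw [map_mul, via_swap, via_swap, ← hi, ← hj, ← hk, ← hl, ← conj_swap, ← conj_swap]
      group
    have e2 : swap (ι i) (ι j) * swap (ι k) (ι l) = viaEmbeddingHom ι (swap i j * swap k l) := by
      rw [map_mul, via_swap, via_swap]
    have : Fact q.Prime := ⟨hq⟩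
    rw [e1, e2, ← map_inv, ← map_mul, orderOf_injective _ (viaEmbeddingHom_injective ι)]
    exact orderOf_eq_prime h1 h2

/-- the embedding given by four distinct points -/
def emb4 {n : ℕ} (a b c d : Fin n) (hab : a ≠ b) (hac : a ≠ c) (had : a ≠ d) (hbc : b ≠ c) (hbd : b ≠ d)
    (hcd : c ≠ d) : Fin 4 ↪ Fin n :=
  ⟨![a, b, c, d], by
    intro i j h
    fin_cases i <;> fin_cases j <;> simp_all [eq_comm]⟩

def emb5 {n : ℕ} (a b c d e : Fin n) (hab : a ≠ b) (hac : a ≠ c) (had : a ≠ d) (hae : a ≠ e) (hbc : b ≠ c)
    (hbd : b ≠ d) (hbe : b ≠ e) (hcd : c ≠ d) (hce : c ≠ e) (hde : d ≠ e) : Fin 5 ↪ Fin n :=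
  ⟨![a, b, c, d, e], by
    intro i j h
    fin_cases i <;> fin_cases j <;> simp_all [eq_comm]⟩

def emb6 {n : ℕ} (a b c d e f : Fin n) (hab : a ≠ b) (hac : a ≠ c) (had : a ≠ d) (hae : a ≠ e) (haf : a ≠ f)
    (hbc : b ≠ c) (hbd : b ≠ d) (hbe : b ≠ e) (hbf : b ≠ f) (hcd : c ≠ d) (hce : c ≠ e) (hcf : c ≠ f)
    (hde : d ≠ e) (hdf : d ≠ f) (hef : e ≠ f) : Fin 6 ↪ Fin n :=
  ⟨![a, b, c, d, e, f], by
    intro i j h
    fin_cases i <;> fin_cases j <;> simp_all only [eq_comm, _root_.ne_eq, _root_.Fin.zero_eta, _root_.Fin.isValue, _root_.Matrix.cons_val_zero, _root_.Fin.mk_one, _root_.Matrix.cons_val_one, _root_.Fin.reduceFinMk, _root_.Matrix.cons_val]⟩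

variable {n : ℕ} {σ : Perm (Fin n)}

/-- `σ = (a b c d e ..)`, path of length at least 5 -/
theorem long {a b c d e : Fin n} (h1 : σ a = b) (h2 : σ b = c) (h3 : σ c = d) (h4 : σ d = e)
    (hab : a ≠ b) (hac : a ≠ c) (had : a ≠ d) (hae : a ≠ e) (hbc : b ≠ c)
    (hbd : b ≠ d) (hbe : b ≠ e) (hcd : c ≠ d) (hce : c ≠ e) (hde : d ≠ e) : W 3 σ ∧ W 5 σ := by
  let ι := emb5 a b c d e hab hac had hae hbc hbd hbe hcd hce hde
  constructor
  · -- s = (a b c) = swap a b * swap b c
    exact wit ι Nat.prime_three 0 1 1 2 1 2 2 3 (by decide) (by decide) h1 h2 h2 h3 (by decide) (by decide)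
  · -- s = (a b d)
    exact wit ι Nat.prime_five 0 1 1 3 1 2 2 4 (by decide) (by decide) h1 h2 h2 h4 (by decide) (by decide)

/-- `σ = (a b c d)(x)..` -/
theorem four_fix {a b c d x : Fin n} (h1 : σ a = b) (h2 : σ b = c) (h3 : σ c = d) (hx : σ x = x)
    (hab : a ≠ b) (hac : a ≠ c) (had : a ≠ d) (hax : a ≠ x) (hbc : b ≠ c)
    (hbd : b ≠ d) (hbx : b ≠ x) (hcd : c ≠ d) (hcx : c ≠ x) (hdx : d ≠ x) : W 3 σ ∧ W 2 σ := by
  let ι := emb5 a b c d x hab hac had hax hbc hbd hbx hcd hcx hdx
  constructor
  · exact wit ι Nat.prime_three 0 1 1 2 1 2 2 3 (by decide) (by decide) h1 h2 h2 h3 (by decide) (by decide)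
  · exact wit ι Nat.prime_two 0 1 1 4 1 2 2 4 (by decide) (by decide) h1 h2 h2 hx (by decide) (by decide)

/-- `σ = (a b c d)(x y ..)` -/
theorem four_move {a b c d x y : Fin n} (h1 : σ a = b) (h2 : σ b = c) (h3 : σ c = d) (hx : σ x = y)
    (hab : a ≠ b) (hac : a ≠ c) (had : a ≠ d) (hax : a ≠ x) (hay : a ≠ y) (hbc : b ≠ c)
    (hbd : b ≠ d) (hbx : b ≠ x) (hby : b ≠ y) (hcd : c ≠ d) (hcx : c ≠ x) (hcy : c ≠ y) (hdx : d ≠ x)
    (hdy : d ≠ y) (hxy : x ≠ y) : W 3 σ ∧ W 5 σ := by
  let ι := emb6 a b c d x y hab hac had hax hay hbc hbd hbx hby hcd hcx hcy hdx hdy hxy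
  constructor
  · exact wit ι Nat.prime_three 0 1 1 2 1 2 2 3 (by decide) (by decide) h1 h2 h2 h3 (by decide) (by decide)
  · exact wit ι Nat.prime_five 0 1 1 4 1 2 2 5 (by decide) (by decide) h1 h2 h2 hx (by decide) (by decide)

/-- `σ = (a b c)(x y)..` -/
theorem three_two {a b c x y : Fin n} (h1 : σ a = b) (h2 : σ b = c) (hx : σ x = y) (hy : σ y = x)
    (hab : a ≠ b) (hac : a ≠ c) (hax : a ≠ x) (hay : a ≠ y) (hbc : b ≠ c)
    (hbx : b ≠ x) (hby : b ≠ y) (hcx : c ≠ x) (hcy : c ≠ y) (hxy : x ≠ y) : W 2 σ ∧ W 5 σ := by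
  let ι := emb5 a b c x y hab hac hax hay hbc hbx hby hcx hcy hxy
  constructor
  · -- s = (a x y) -> (b y x)
    exact wit ι Nat.prime_two 0 3 3 4 1 4 4 3 (by decide) (by decide) h1 hx hx hy (by decide) (by decide)
  · -- s = (a b x) -> (b c y)
    exact wit ι Nat.prime_five 0 1 1 3 1 2 2 4 (by decide) (by decide) h1 h2 h2 hx (by decide) (by decide)

/-- `σ = (a b c)(x y z ..)..` -/
theorem three_three {a b c x y z : Fin n} (h1 : σ a = b) (h2 : σ b = c) (hx : σ x = y) (hy : σ y = z)
    (hab : a ≠ b) (hac : a ≠ c) (hax : a ≠ x) (hay : a ≠ y) (haz : a ≠ z) (hbc : b ≠ c)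
    (hbx : b ≠ x) (hby : b ≠ y) (hbz : b ≠ z) (hcx : c ≠ x) (hcy : c ≠ y) (hcz : c ≠ z) (hxy : x ≠ y)
    (hxz : x ≠ z) (hyz : y ≠ z) : W 3 σ ∧ W 5 σ := by
  let ι := emb6 a b c x y z hab hac hax hay haz hbc hbx hby hbz hcx hcy hcz hxy hxz hyz
  constructor
  · -- s = (a b)(x y) -> (b c)(y z)
    exact wit ι Nat.prime_three 0 1 3 4 1 2 4 5 (by decide) (by decide) h1 h2 hx hy (by decide) (by decide)
  · exact wit ι Nat.prime_five 0 1 1 3 1 2 2 4 (by decide) (by decide) h1 h2 h2 hx (by decide) (by decide)

/-- `σ = (a b c)(x)(z)..` -/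
theorem three_fix {a b c x z : Fin n} (h1 : σ a = b) (h2 : σ b = c) (hx : σ x = x) (hz : σ z = z)
    (hab : a ≠ b) (hac : a ≠ c) (hax : a ≠ x) (haz : a ≠ z) (hbc : b ≠ c)
    (hbx : b ≠ x) (hbz : b ≠ z) (hcx : c ≠ x) (hcz : c ≠ z) (hxz : x ≠ z) : W 2 σ ∧ W 3 σ := by
  let ι := emb5 a b c x z hab hac hax haz hbc hbx hbz hcx hcz hxz
  constructor
  · -- s = (a b x) -> (b c x)
    exact wit ι Nat.prime_two 0 1 1 3 1 2 2 3 (by decide) (by decide) h1 h2 h2 hx (by decide) (by decide)
  · -- s = (a x z) -> (b x z)
    exact wit ι Nat.prime_three 0 3 3 4 1 3 3 4 (by decide) (by decide) h1 hx hx hz (by decide) (by decide)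

/-- `σ = (a b)(c)(d)..` -/
theorem two_fix {a b c d : Fin n} (h1 : σ a = b) (h2 : σ b = a) (hc : σ c = c) (hd : σ d = d)
    (hab : a ≠ b) (hac : a ≠ c) (had : a ≠ d) (hbc : b ≠ c) (hbd : b ≠ d) (hcd : c ≠ d) :
    W 3 σ ∧ W 2 σ := by
  let ι := emb4 a b c d hab hac had hbc hbd hcd
  constructor
  · -- s = (a b c) -> (b a c)
    exact wit ι Nat.prime_three 0 1 1 2 1 0 0 2 (by decide) (by decide) h1 h2 h2 hc (by decide) (by decide)
  · -- s = (a c)(b d) -> (b c)(a d)
    exact wit ι Nat.prime_two 0 2 1 3 1 2 0 3 (by decide) (by decide) h1 hc h2 hd (by decide) (by decide)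

/-- `σ = (a b)(c)(d e)..` -/
theorem two_one_two {a b c d e : Fin n} (h1 : σ a = b) (h2 : σ b = a) (hc : σ c = c) (hd : σ d = e)
    (hab : a ≠ b) (hac : a ≠ c) (had : a ≠ d) (hae : a ≠ e) (hbc : b ≠ c) (hbd : b ≠ d) (hbe : b ≠ e)
    (hcd : c ≠ d) (hce : c ≠ e) (hde : d ≠ e) : W 3 σ ∧ W 2 σ := by
  let ι := emb5 a b c d e hab hac had hae hbc hbd hbe hcd hce hde
  constructor
  · exact wit ι Nat.prime_three 0 1 1 2 1 0 0 2 (by decide) (by decide) h1 h2 h2 hc (by decide) (by decide)
  · -- s = (a b d) -> (b a e)
    exact wit ι Nat.prime_two 0 1 1 3 1 0 0 4 (by decide) (by decide) h1 h2 h2 hd (by decide) (by decide)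

/-- `σ = (a b)(c d)(e f)..` -/
theorem two_two_two {a b c d e f : Fin n} (h1 : σ a = b) (h2 : σ b = a) (hc : σ c = d) (he : σ e = f)
    (hab : a ≠ b) (hac : a ≠ c) (had : a ≠ d) (hae : a ≠ e) (haf : a ≠ f)
    (hbc : b ≠ c) (hbd : b ≠ d) (hbe : b ≠ e) (hbf : b ≠ f) (hcd : c ≠ d) (hce : c ≠ e) (hcf : c ≠ f)
    (hde : d ≠ e) (hdf : d ≠ f) (hef : e ≠ f) : W 3 σ ∧ W 2 σ := by
  let ι := emb6 a b c d e f hab hac had hae haf hbc hbd hbe hbf hcd hce hcf hde hdf hef
  constructor
  · -- s = (a c e) -> (b d f)
    exact wit ι Nat.prime_three 0 2 2 4 1 3 3 5 (by decide) (by decide) h1 hc hc he (by decide) (by decide)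
  · -- s = (a b c) -> (b a d)
    exact wit ι Nat.prime_two 0 1 1 2 1 0 0 3 (by decide) (by decide) h1 h2 h2 hc (by decide) (by decide)

theorem exists_out (s : Finset (Fin n)) (h : s.card < n) : ∃ x, x ∉ s := by
  by_contra hc
  push Not at hc
  have h1 : (Finset.univ : Finset (Fin n)) ⊆ s := fun x _ => hc x
  have h2 := Finset.card_le_card h1
  rw [Finset.card_univ, Fintype.card_fin] at h2
  omega

/-- Two different primes -/
def Two (σ : Perm (Fin n)) : Prop := ∃ q q' : ℕ, q.Prime ∧ q'.Prime ∧ q ≠ q' ∧ W q σ ∧ W q' σ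

theorem Two.mk' {q q' : ℕ} (hq : q.Prime) (hq' : q'.Prime) (hne : q ≠ q') (h : W q σ ∧ W q' σ) : Two σ :=
  ⟨q, q', hq, hq', hne, h.1, h.2⟩

/-- a cycle of length at least three -/
theorem two_of_long (hn : 5 ≤ n) {a : Fin n} (ha : σ (σ a) ≠ a) : Two σ := by
  obtain ⟨b, hb⟩ : ∃ b, σ a = b := ⟨_, rfl⟩
  obtain ⟨c, hc⟩ : ∃ c, σ b = c := ⟨_, rfl⟩
  obtain ⟨d, hd⟩ : ∃ d, σ c = d := ⟨_, rfl⟩
  have inj : ∀ {u v u' v' : Fin n}, σ u = u' → σ v = v' → u ≠ v → u' ≠ v' := by
    intro u v u' v' h1 h2 h h'
    exact h (σ.injective (by rw [h1, h2, h']))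
  have hac : a ≠ c := by
    rintro h
    apply ha
    rw [hb, hc, h]
  have hab : a ≠ b := by
    rintro h
    apply ha
    rw [hb, ← h, hb, ← h]
  have hbc : b ≠ c := inj hb hc hab
  have hbd : b ≠ d := inj hb hd hac
  have hcd : c ≠ d := inj hc hd hbc
  by_cases had : a = d
  · -- 3-cycle
    subst had
    by_cases hmv : ∃ x, x ≠ a ∧ x ≠ b ∧ x ≠ c ∧ σ x ≠ x
    · obtain ⟨x, hxa, hxb, hxc, hx⟩ := hmv
      obtain ⟨y, hy⟩ : ∃ y, σ x = y := ⟨_, rfl⟩
      obtain ⟨z, hz⟩ : ∃ z, σ y = z := ⟨_, rfl⟩
      have hxy : x ≠ y := by rw [← hy]; exact hx.symm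
      have hya : y ≠ a := inj hy hd hxc
      have hyb : y ≠ b := inj hy hb hxa
      have hyc : y ≠ c := inj hy hc hxb
      have hyz : y ≠ z := inj hy hz hxy
      by_cases hxz : z = x
      · rw [hxz] at hz
        exact Two.mk' Nat.prime_two Nat.prime_five (by decide)
          (three_two hb hc hy hz hab hac hxa.symm hya.symm hbc hxb.symm hyb.symm hxc.symm hyc.symm hxy)
      · have hza : z ≠ a := inj hz hd hyc
        have hzb : z ≠ b := inj hz hb hya
        have hzc : z ≠ c := inj hz hc hyb
        exact Two.mk' Nat.prime_three Nat.prime_five (by decide)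
          (three_three hb hc hy hz hab hac hxa.symm hya.symm hza.symm hbc hxb.symm hyb.symm hzb.symm
            hxc.symm hyc.symm hzc.symm hxy (Ne.symm hxz) hyz)
    · push Not at hmv
      obtain ⟨x, hx⟩ := exists_out ({a, b, c} : Finset (Fin n)) (lt_of_le_of_lt Finset.card_le_three (by omega))
      obtain ⟨z, hz⟩ := exists_out ({a, b, c, x} : Finset (Fin n)) (lt_of_le_of_lt Finset.card_le_four (by omega))
      simp only [Finset.mem_insert, Finset.mem_singleton, not_or] at hx hz
      have h1 := hmv x hx.1 hx.2.1 hx.2.2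
      have h2 := hmv z hz.1 hz.2.1 hz.2.2.1
      exact Two.mk' Nat.prime_two Nat.prime_three (by decide)
        (three_fix hb hc h1 h2 hab hac (Ne.symm hx.1) (Ne.symm hz.1) hbc (Ne.symm hx.2.1) (Ne.symm hz.2.1)
          (Ne.symm hx.2.2) (Ne.symm hz.2.2.1) (Ne.symm hz.2.2.2))
  · obtain ⟨e, he⟩ : ∃ e, σ d = e := ⟨_, rfl⟩
    have hbe : b ≠ e := inj hb he had
    have hce : c ≠ e := inj hc he hbd
    have hde : d ≠ e := inj hd he hcd
    by_cases hae : a = e
    · -- 4-cycle
      subst hae
      obtain ⟨x, hx⟩ := exists_out ({a, b, c, d} : Finset (Fin n)) (lt_of_le_of_lt Finset.card_le_four (by omega))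
      simp only [Finset.mem_insert, Finset.mem_singleton, not_or] at hx
      obtain ⟨y, hy⟩ : ∃ y, σ x = y := ⟨_, rfl⟩
      by_cases hxy : x = y
      · rw [← hxy] at hy
        exact Two.mk' Nat.prime_three Nat.prime_two (by decide)
          (four_fix hb hc hd hy hab hac had (Ne.symm hx.1) hbc hbd (Ne.symm hx.2.1) hcd (Ne.symm hx.2.2.1)
            (Ne.symm hx.2.2.2))
      · have hya : y ≠ a := inj hy he hx.2.2.2
        have hyb : y ≠ b := inj hy hb hx.1
        have hyc : y ≠ c := inj hy hc hx.2.1
        have hyd : y ≠ d := inj hy hd hx.2.2.1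
        exact Two.mk' Nat.prime_three Nat.prime_five (by decide)
          (four_move hb hc hd hy hab hac had (Ne.symm hx.1) hya.symm hbc hbd (Ne.symm hx.2.1) hyb.symm hcd
            (Ne.symm hx.2.2.1) hyc.symm (Ne.symm hx.2.2.2) hyd.symm hxy)
    · exact Two.mk' Nat.prime_three Nat.prime_five (by decide)
        (long hb hc hd he hab hac had hae hbc hbd hbe hcd hce hde)

/-- an involution -/
theorem two_of_sq (hn : 5 ≤ n) (h2 : ∀ a, σ (σ a) = a) (hσ : σ ≠ 1) : Two σ := by
  have inj : ∀ {u v u' v' : Fin n}, σ u = u' → σ v = v' → u ≠ v → u' ≠ v' := by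
    intro u v u' v' h1 h2 h h'
    exact h (σ.injective (by rw [h1, h2, h']))
  obtain ⟨a, ha⟩ : ∃ a, σ a ≠ a := by
    by_contra hc
    push Not at hc
    exact hσ (Equiv.ext hc)
  obtain ⟨b, hb⟩ : ∃ b, σ a = b := ⟨_, rfl⟩
  have hba : σ b = a := by rw [← hb, h2]
  have hab : a ≠ b := by rw [← hb]; exact ha.symm
  by_cases hf : ∃ c, σ c = c
  · obtain ⟨c, hc⟩ := hf
    have hac : a ≠ c := by rintro rfl; exact ha hc
    have hbc : b ≠ c := inj hb hc hac
    obtain ⟨d, hd⟩ := exists_out ({a, b, c} : Finset (Fin n)) (lt_of_le_of_lt Finset.card_le_three (by omega))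
    simp only [Finset.mem_insert, Finset.mem_singleton, not_or] at hd
    obtain ⟨e, he⟩ : ∃ e, σ d = e := ⟨_, rfl⟩
    by_cases hde : d = e
    · rw [← hde] at he
      exact Two.mk' Nat.prime_three Nat.prime_two (by decide)
        (two_fix hb hba hc he hab hac (Ne.symm hd.1) hbc (Ne.symm hd.2.1) (Ne.symm hd.2.2))
    · have hea : e ≠ a := inj he hba hd.2.1
      have heb : e ≠ b := inj he hb hd.1
      have hec : e ≠ c := inj he hc hd.2.2
      exact Two.mk' Nat.prime_three Nat.prime_two (by decide)
        (two_one_two hb hba hc he hab hac (Ne.symm hd.1) hea.symm hbc (Ne.symm hd.2.1) heb.symm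
          (Ne.symm hd.2.2) hec.symm hde)
  · push Not at hf
    obtain ⟨c, hc⟩ := exists_out ({a, b} : Finset (Fin n)) (lt_of_le_of_lt Finset.card_le_two (by omega))
    simp only [Finset.mem_insert, Finset.mem_singleton, not_or] at hc
    obtain ⟨d, hd⟩ : ∃ d, σ c = d := ⟨_, rfl⟩
    have hdc : σ d = c := by rw [← hd, h2]
    have hcd : c ≠ d := by rw [← hd]; exact (hf c).symm
    have hda : d ≠ a := inj hd hba hc.2
    have hdb : d ≠ b := inj hd hb hc.1
    obtain ⟨e, he⟩ := exists_out ({a, b, c, d} : Finset (Fin n)) (lt_of_le_of_lt Finset.card_le_four (by omega))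
    simp only [Finset.mem_insert, Finset.mem_singleton, not_or] at he
    obtain ⟨f, hf'⟩ : ∃ f, σ e = f := ⟨_, rfl⟩
    have hef : e ≠ f := by rw [← hf']; exact (hf e).symm
    have hfa : f ≠ a := inj hf' hba he.2.1
    have hfb : f ≠ b := inj hf' hb he.1
    have hfc : f ≠ c := inj hf' hdc he.2.2.2
    have hfd : f ≠ d := inj hf' hd he.2.2.1
    exact Two.mk' Nat.prime_three Nat.prime_two (by decide)
      (two_two_two hb hba hd hf' hab (Ne.symm hc.1) hda.symm (Ne.symm he.1) hfa.symm (Ne.symm hc.2) hdb.symm
        (Ne.symm he.2.1) hfb.symm hcd (Ne.symm he.2.2.1) hfc.symm (Ne.symm he.2.2.2) hfd.symm hef)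

/-- **Every `σ ≠ 1` has commutators of two different prime orders.** -/
theorem two (hn : 5 ≤ n) (hσ : σ ≠ 1) : Two σ := by
  by_cases h : ∃ a, σ (σ a) ≠ a
  · obtain ⟨a, ha⟩ := h
    exact two_of_long hn ha
  · push Not at h
    exact two_of_sq hn h hσ

open Cfsg.Agent.H705

theorem of_perm (hn : 5 ≤ n) {p : ℕ} (hp : p.Prime) {a : MulAut (alternatingGroup (Fin n))} (ha : a ≠ 1)
    (h : ∀ x : alternatingGroup (Fin n), ((a x : alternatingGroup (Fin n)) : Perm (Fin n)) = σ * x * σ⁻¹) :
    ∃ s, (a s)⁻¹ * s ≠ 1 ∧ ¬ p ∣ orderOf ((a s)⁻¹ * s) := by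
  have hσ : σ ≠ 1 := by
    rintro rfl
    apply ha
    ext x : 1
    apply Subtype.ext
    rw [h x, one_mul, inv_one, mul_one]
    rfl
  have key : ∀ q : ℕ, q.Prime → q ≠ p → W q σ → ∃ s, (a s)⁻¹ * s ≠ 1 ∧ ¬ p ∣ orderOf ((a s)⁻¹ * s) := by
    rintro q hq hqp ⟨s, hs, ho⟩
    refine ⟨⟨s, mem_alternatingGroup.2 hs⟩, ?_⟩
    have h1 : orderOf ((a ⟨s, mem_alternatingGroup.2 hs⟩)⁻¹ * ⟨s, mem_alternatingGroup.2 hs⟩) = q := by
      rw [← ho, ← Subgroup.orderOf_coe]
      congr 1
      rw [Subgroup.coe_mul, Subgroup.coe_inv, h]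
    refine ⟨fun h2 => ?_, ?_⟩
    · rw [h2, orderOf_one] at h1
      exact hq.one_lt.ne h1
    · rw [h1, Nat.prime_dvd_prime_iff_eq hp hq]
      exact Ne.symm hqp
  obtain ⟨q, q', hq, hq', hne, h1, h2⟩ := two hn hσ
  by_cases hqp : q = p
  · exact key q' hq' (by rw [← hqp]; exact hne.symm) h2
  · exact key q hq hqp h1

/-- **The alternating rows, degree different from six.** -/
theorem com (hn : 5 ≤ n) (h6 : n ≠ 6) {p : ℕ} (hp : p.Prime) : Com p (alternatingGroup (Fin n)) := by
  intro a ha
  obtain ⟨σ, hσ⟩ := (S2119.result n (by omega) h6).2 a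
  refine of_perm (σ := σ) hn hp ha fun x => ?_
  rw [← hσ]
  rfl

end Cfsg.Agent.H472.ComAlt
end

-- part: H472/ComSixAlt
section
/-!
# `RFix 2` automorphisms of `A_6`, `A_7` of order divisible by 6 (helper472)
-/

set_option autoImplicit false

namespace Cfsg.Agent.H472.ComAlt

open Equiv Equiv.Perm Function

/-- some even involution commutes with its image under `σ`, and is different from it -/
def PT {n : ℕ} (σ : Perm (Fin n)) : Prop :=
  ∃ s : Perm (Fin n), Perm.sign s = 1 ∧ s * s = 1 ∧ s * (σ * s * σ⁻¹) = (σ * s * σ⁻¹) * s ∧ σ * s * σ⁻¹ ≠ s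

theorem witPT {n m : ℕ} (ι : Fin m ↪ Fin n) {σ : Perm (Fin n)} (i j k l i' j' k' l' : Fin m)
    (hij : i ≠ j) (hkl : k ≠ l) (hi : σ (ι i) = ι i') (hj : σ (ι j) = ι j') (hk : σ (ι k) = ι k')
    (hl : σ (ι l) = ι l') (h1 : (_root_.Equiv.swap i j * _root_.Equiv.swap k l) * (_root_.Equiv.swap i j * _root_.Equiv.swap k l) = 1)
    (h2 : (_root_.Equiv.swap i j * _root_.Equiv.swap k l) * (_root_.Equiv.swap i' j' * _root_.Equiv.swap k' l') = (_root_.Equiv.swap i' j' * _root_.Equiv.swap k' l') * (_root_.Equiv.swap i j * _root_.Equiv.swap k l))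
    (h3 : _root_.Equiv.swap i' j' * _root_.Equiv.swap k' l' ≠ _root_.Equiv.swap i j * _root_.Equiv.swap k l) : PT σ := by
  have e1 : σ * (_root_.Equiv.swap (ι i) (ι j) * _root_.Equiv.swap (ι k) (ι l)) * σ⁻¹ = viaEmbeddingHom ι (_root_.Equiv.swap i' j' * _root_.Equiv.swap k' l') := by
    rw [map_mul, via_swap, via_swap, ← hi, ← hj, ← hk, ← hl, ← conj_swap, ← conj_swap]
    group
  have e2 : _root_.Equiv.swap (ι i) (ι j) * _root_.Equiv.swap (ι k) (ι l) = viaEmbeddingHom ι (_root_.Equiv.swap i j * _root_.Equiv.swap k l) := by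
    rw [map_mul, via_swap, via_swap]
  refine ⟨_root_.Equiv.swap (ι i) (ι j) * _root_.Equiv.swap (ι k) (ι l), ?_, ?_, ?_, ?_⟩
  · rw [map_mul, sign_swap (fun h => hij (ι.injective h)), sign_swap (fun h => hkl (ι.injective h))]
    rfl
  · rw [e2, ← map_mul, h1, map_one]
  · rw [e1, e2, ← map_mul, ← map_mul, h2]
  · rw [e1, e2]
    exact fun h => h3 (viaEmbeddingHom_injective ι h)

variable {n : ℕ} {σ : Perm (Fin n)}

/-- the iterates below the minimal period are different -/
theorem iter_ne (a : Fin n) {i j : ℕ} (hi : i < minimalPeriod σ a) (hj : j < minimalPeriod σ a) (hij : i ≠ j) :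
    σ^[i] a ≠ σ^[j] a := fun h => hij (iterate_injOn_Iio_minimalPeriod hi hj h)

theorem period_le (a : Fin n) : minimalPeriod σ a ≤ n := by
  have h1 := Finset.card_le_card_of_injOn (s := Finset.range (minimalPeriod σ a)) (t := Finset.univ)
    (fun i => σ^[i] a) (fun _ _ => Finset.mem_univ _) (by
      intro i hi j hj h
      rw [Finset.coe_range] at hi hj
      exact iterate_injOn_Iio_minimalPeriod hi hj h)
  rwa [Finset.card_range, Finset.card_univ, Fintype.card_fin] at h1

theorem period_pos (a : Fin n) : 0 < minimalPeriod σ a := by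
  apply minimalPeriod_pos_of_mem_periodicPts
  refine ⟨orderOf σ, orderOf_pos σ, ?_⟩
  show σ^[orderOf σ] a = a
  rw [← Perm.coe_pow, pow_orderOf_eq_one]
  rfl

theorem exists_period {p : ℕ} (hp : p.Prime) (h : p ∣ orderOf σ) : ∃ a : Fin n, p ∣ minimalPeriod σ a := by
  have h1 : σ ^ (∏ a : Fin n, minimalPeriod σ a) = 1 := by
    ext a
    rw [Perm.coe_pow]
    have h2 : IsPeriodicPt σ (∏ a : Fin n, minimalPeriod σ a) a :=
      (isPeriodicPt_minimalPeriod σ a).trans_dvd (Finset.dvd_prod_of_mem _ (Finset.mem_univ a))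
    have h3 : σ^[∏ a : Fin n, minimalPeriod σ a] a = a := h2
    rw [h3]
    rfl
  obtain ⟨a, -, ha⟩ := (Prime.dvd_finsetProd_iff hp.prime _).1 (h.trans (orderOf_dvd_of_pow_eq_one h1))
  exact ⟨a, ha⟩

theorem pt_six_cycle {a : Fin n} (h : minimalPeriod σ a = 6) : PT σ := by
  have hne : ∀ i j : ℕ, i < 6 → j < 6 → i ≠ j → σ^[i] a ≠ σ^[j] a := fun i j hi hj hij =>
    iter_ne a (h ▸ hi) (h ▸ hj) hij
  let ι := emb6 (σ^[0] a) (σ^[1] a) (σ^[2] a) (σ^[3] a) (σ^[4] a) (σ^[5] a)
    (hne 0 1 (by norm_num) (by norm_num) (by norm_num)) (hne 0 2 (by norm_num) (by norm_num) (by norm_num))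
    (hne 0 3 (by norm_num) (by norm_num) (by norm_num)) (hne 0 4 (by norm_num) (by norm_num) (by norm_num))
    (hne 0 5 (by norm_num) (by norm_num) (by norm_num)) (hne 1 2 (by norm_num) (by norm_num) (by norm_num))
    (hne 1 3 (by norm_num) (by norm_num) (by norm_num)) (hne 1 4 (by norm_num) (by norm_num) (by norm_num))
    (hne 1 5 (by norm_num) (by norm_num) (by norm_num)) (hne 2 3 (by norm_num) (by norm_num) (by norm_num))
    (hne 2 4 (by norm_num) (by norm_num) (by norm_num)) (hne 2 5 (by norm_num) (by norm_num) (by norm_num))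
    (hne 3 4 (by norm_num) (by norm_num) (by norm_num)) (hne 3 5 (by norm_num) (by norm_num) (by norm_num))
    (hne 4 5 (by norm_num) (by norm_num) (by norm_num))
  have hs : ∀ i : ℕ, σ (σ^[i] a) = σ^[i + 1] a := fun i => (iterate_succ_apply' σ i a).symm
  -- h = (0 3)(1 4) -> (1 4)(2 5)
  exact witPT ι 0 3 1 4 1 4 2 5 (by decide) (by decide) (hs 0) (hs 3) (hs 1) (hs 4) (by decide) (by decide)
    (by decide)

theorem pt_four_cycle {a : Fin n} (h : minimalPeriod σ a = 4) : PT σ := by
  have hne : ∀ i j : ℕ, i < 4 → j < 4 → i ≠ j → σ^[i] a ≠ σ^[j] a := fun i j hi hj hij =>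
    iter_ne a (h ▸ hi) (h ▸ hj) hij
  let ι := emb4 (σ^[0] a) (σ^[1] a) (σ^[2] a) (σ^[3] a)
    (hne 0 1 (by norm_num) (by norm_num) (by norm_num)) (hne 0 2 (by norm_num) (by norm_num) (by norm_num))
    (hne 0 3 (by norm_num) (by norm_num) (by norm_num)) (hne 1 2 (by norm_num) (by norm_num) (by norm_num))
    (hne 1 3 (by norm_num) (by norm_num) (by norm_num)) (hne 2 3 (by norm_num) (by norm_num) (by norm_num))
  have hs : ∀ i : ℕ, σ (σ^[i] a) = σ^[i + 1] a := fun i => (iterate_succ_apply' σ i a).symm
  have h4 : σ (σ^[3] a) = σ^[0] a := by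
    rw [hs 3]
    have := isPeriodicPt_minimalPeriod σ a
    rw [h] at this
    exact this
  -- h = (0 1)(2 3) -> (1 2)(3 0)
  exact witPT ι 0 1 2 3 1 2 3 0 (by decide) (by decide) (hs 0) (hs 1) (hs 2) h4 (by decide) (by decide)
    (by decide)

/-- **`σ ∈ S_6, S_7` of order divisible by 6.** -/
theorem pt (hn : 6 ≤ n) (hn7 : n ≤ 7) (h2 : 2 ∣ orderOf σ) (h3 : 3 ∣ orderOf σ) : PT σ := by
  obtain ⟨a, ha⟩ := exists_period Nat.prime_three h3
  obtain ⟨x, hx⟩ := exists_period Nat.prime_two h2
  have ha0 := period_pos (σ := σ) a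
  have hx0 := period_pos (σ := σ) x
  have ha7 := (period_le (σ := σ) a).trans hn7
  have hx7 := (period_le (σ := σ) x).trans hn7
  have ha' : minimalPeriod σ a = 3 ∨ minimalPeriod σ a = 6 := by omega
  have hx' : minimalPeriod σ x = 2 ∨ minimalPeriod σ x = 4 ∨ minimalPeriod σ x = 6 := by omega
  rcases ha' with ha' | ha'
  swap
  · exact pt_six_cycle ha'
  rcases hx' with hx' | hx' | hx'
  rotate_left
  · exact pt_four_cycle hx'
  · exact pt_six_cycle hx'
  have inj : ∀ {u v u' v' : Fin n}, σ u = u' → σ v = v' → u ≠ v → u' ≠ v' := by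
    intro u v u' v' h1 h2 h h'
    exact h (σ.injective (by rw [h1, h2, h']))
  obtain ⟨b, hb⟩ : ∃ b, σ a = b := ⟨_, rfl⟩
  obtain ⟨c, hc⟩ : ∃ c, σ b = c := ⟨_, rfl⟩
  have hca : σ c = a := by
    have := isPeriodicPt_minimalPeriod σ a
    rw [ha'] at this
    have h4 : σ (σ (σ a)) = a := this
    rw [← hc, ← hb, h4]
  have hab : a ≠ b := by
    have := iter_ne (σ := σ) a (i := 0) (j := 1) (by omega) (by omega) (by omega)
    have h4 : a ≠ σ a := this
    rwa [hb] at h4
  have hbc : b ≠ c := inj hb hc hab
  have hac : a ≠ c := (inj hc hca hbc).symm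
  obtain ⟨y, hy⟩ : ∃ y, σ x = y := ⟨_, rfl⟩
  have hyx : σ y = x := by
    have := isPeriodicPt_minimalPeriod σ x
    rw [hx'] at this
    have h4 : σ (σ x) = x := this
    rw [← hy, h4]
  have hxy : x ≠ y := by
    have := iter_ne (σ := σ) x (i := 0) (j := 1) (by omega) (by omega) (by omega)
    have h4 : x ≠ σ x := this
    rwa [hy] at h4
  -- `x, y` are different from `a, b, c`
  have h6 : ∀ z : Fin n, σ (σ z) = z → z ≠ a ∧ z ≠ b ∧ z ≠ c := by
    intro z hz
    refine ⟨?_, ?_, ?_⟩
    · rintro rfl
      rw [hb, hc] at hz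
      exact hac hz.symm
    · rintro rfl
      rw [hc, hca] at hz
      exact hab hz
    · rintro rfl
      rw [hca, hb] at hz
      exact hbc hz
  obtain ⟨hxa, hxb, hxc⟩ := h6 x (by rw [hy, hyx])
  obtain ⟨hya, hyb, hyc⟩ := h6 y (by rw [hyx, hy])
  obtain ⟨f, hf⟩ := exists_out ({a, b, c, x, y} : Finset (Fin n))
    (lt_of_le_of_lt Finset.card_le_five (by omega))
  simp only [Finset.mem_insert, Finset.mem_singleton, not_or] at hf
  obtain ⟨hfa, hfb, hfc, hfx, hfy⟩ := hf
  by_cases hff : σ f = f
  · -- h = (a b)(c f) -> (b c)(a f)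
    let ι := emb4 a b c f hab hac (Ne.symm hfa) hbc (Ne.symm hfb) (Ne.symm hfc)
    exact witPT ι 0 1 2 3 1 2 0 3 (by decide) (by decide) hb hc hca hff (by decide) (by decide) (by decide)
  · obtain ⟨g, hg⟩ : ∃ g, σ f = g := ⟨_, rfl⟩
    rw [hg] at hff
    have hga : g ≠ a := inj hg hca hfc
    have hgb : g ≠ b := inj hg hb hfa
    have hgx : g ≠ x := inj hg hyx hfy
    have hgy : g ≠ y := inj hg hy hfx
    -- h = (x y)(a f) -> (y x)(b g)
    let ι := emb6 a b x y f g hab (Ne.symm hxa) (Ne.symm hya) (Ne.symm hfa) (Ne.symm hga) (Ne.symm hxb)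
      (Ne.symm hyb) (Ne.symm hfb) (Ne.symm hgb) hxy (Ne.symm hfx) (Ne.symm hgx) (Ne.symm hfy) (Ne.symm hgy)
      (Ne.symm hff)
    exact witPT ι 2 3 0 4 3 2 1 5 (by decide) (by decide) hy hyx hb hg (by decide) (by decide) (by decide)

open Cfsg.Agent.H705

/-- A `RFix 2` automorphism of `A_n` does not come from a permutation satisfying `PT`. -/
theorem not_rfix_of_perm {a : MulAut (alternatingGroup (Fin n))}
    (h : ∀ x : alternatingGroup (Fin n), ((a x : alternatingGroup (Fin n)) : Perm (Fin n)) = σ * x * σ⁻¹)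
    (hpt : PT σ) : ¬ RFix 2 a := by
  intro hR
  obtain ⟨s, hs, hss, hc, hne⟩ := hpt
  set t : alternatingGroup (Fin n) := ⟨s, mem_alternatingGroup.2 hs⟩ with ht
  have htt : t * t = 1 := Subtype.ext hss
  have htc : t * a t = a t * t := by
    apply Subtype.ext
    rw [Subgroup.coe_mul, Subgroup.coe_mul, h]
    exact hc
  have hatt : a t * a t = 1 := by rw [← map_mul, htt, map_one]
  -- the group generated by `t` and `a t`
  have key : a t = t := by
    have hcl : IsPGroup 2 (Subgroup.closure ({t, a t} : Set (alternatingGroup (Fin n)))) := by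
      have hcomm : ∀ u ∈ ({t, a t} : Set (alternatingGroup (Fin n))), ∀ v ∈ ({t, a t} : Set _), u * v = v * u := by
        rintro u (rfl | hu) v (rfl | hv)
        · rfl
        · rw [Set.mem_singleton_iff.1 hv]; exact htc
        · rw [Set.mem_singleton_iff.1 hu]; exact htc.symm
        · rw [Set.mem_singleton_iff.1 hu, Set.mem_singleton_iff.1 hv]
      have hab := Subgroup.isMulCommutative_closure hcomm
      rintro ⟨u, hu⟩
      refine ⟨1, ?_⟩
      apply Subtype.ext
      show u ^ 2 ^ 1 = 1
      rw [pow_one]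
      induction hu using Subgroup.closure_induction with
      | mem v hv =>
        rcases hv with rfl | hv
        · rw [sq]; exact htt
        · rw [Set.mem_singleton_iff.1 hv, sq]; exact hatt
      | one => exact one_pow 2
      | mul v w hv hw h1 h2 =>
        have h3 : v * w = w * v := congrArg Subtype.val (hab.is_comm.comm ⟨v, hv⟩ ⟨w, hw⟩)
        rw [(show Commute v w from h3).mul_pow, h1, h2, one_mul]
      | inv v hv h1 => rw [inv_pow, h1, inv_one]
    exact hR _ hcl t (Subgroup.subset_closure (Set.mem_insert _ _))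
      (Subgroup.subset_closure (Set.mem_insert_of_mem _ rfl))
  apply hne
  rw [← h t, key]

end Cfsg.Agent.H472.ComAlt
end

-- part: H472/ComSixAltB
section
/-!
# S4096: quasisimple groups over `A_6`, `A_7` (helper472)
-/

set_option autoImplicit false

namespace Cfsg.Agent.H472.ComRed

open Subgroup Cfsg Equiv
open Cfsg.Agent.H472.ComAut
open Cfsg.Agent.H472.ComAlt
open Cfsg.Agent.H705

universe u

theorem quotAut_pow {K : Type*} [Group K] (α : MulAut K) (k : ℕ) : quotAut α ^ k = quotAut (α ^ k) := by
  induction k with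
  | zero =>
    ext v
    induction v using QuotientGroup.induction_on with
    | _ v => rfl
  | succ k ih =>
    rw [pow_succ, ih, pow_succ]
    ext v
    induction v using QuotientGroup.induction_on with
    | _ v => rfl

variable {G : Type u} [Group G] [Finite G]

theorem MinSix.dvd_aut {r s : ℕ} (hr : r.Prime) {K : Subgroup G} {x : G} (h : MinSix r s K x) :
    r ∣ orderOf h.aut := by
  refine (h.dvd_orderOf hr).trans ?_
  apply orderOf_dvd_of_pow_eq_one
  apply eq_one_of_quotAut h.qs.1
  rw [← quotAut_pow]
  exact pow_orderOf_eq_one h.aut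

theorem MinSix.dvd_aut' {r s : ℕ} (hr : r.Prime) (hs : s.Prime) {K : Subgroup G} {x : G} (h : MinSix r s K x) {p : ℕ}
    (hp : p.Prime) (hprs : p ∣ r * s) : p ∣ orderOf h.aut := by
  rcases hp.dvd_mul.1 hprs with h1 | h1
  · rw [(Nat.prime_dvd_prime_iff_eq hp hr).1 h1]
    exact h.dvd_aut hr
  · rw [(Nat.prime_dvd_prime_iff_eq hp hs).1 h1]
    exact h.symm.dvd_aut hs

theorem rfix_transport {S T : Type*} [Group S] [Group T] (e : S ≃* T) {l : ℕ} {a : MulAut S} (h : RFix l a) :
    RFix l (((e.symm.trans a).trans e : T ≃* T) : MulAut T) := by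
  intro V hV v hv hav
  have h1 : IsPGroup l (V.comap e.toMonoidHom) := hV.comap_of_injective _ e.injective
  have h2 := h _ h1 (e.symm v) (by
    show e (e.symm v) ∈ V
    rwa [e.apply_symm_apply]) (by
    show e (a (e.symm v)) ∈ V
    exact hav)
  show e (a (e.symm v)) = v
  rw [h2, e.apply_symm_apply]

theorem MinSix.false_of_alt {r s : ℕ} (hr : r.Prime) (hs : s.Prime) (hrs : r ≠ s) {K : Subgroup G} {x : G}
    (h : MinSix r s K x) (h2 : 2 ∣ r * s) (h3 : 3 ∣ r * s) {n : ℕ} (hn : n = 6 ∨ n = 7)
    (e : (K ⧸ center K) ≃* alternatingGroup (Fin n)) : False := by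
  set b : MulAut (alternatingGroup (Fin n)) := (e.symm.trans h.aut).trans e with hb
  have hbR : RFix 2 b := rfix_transport e (h.rfix hr hs hrs Nat.prime_two)
  have hbpow : ∀ k : ℕ, ∀ v, (b ^ k) (e v) = e ((h.aut ^ k) v) := by
    intro k
    induction k with
    | zero => intro v; rfl
    | succ k ih =>
      intro v
      rw [pow_succ', pow_succ', MulAut.mul_apply, MulAut.mul_apply, ih]
      show e (h.aut (e.symm (e _))) = _
      rw [e.symm_apply_apply]
  have hbo : orderOf h.aut ∣ orderOf b := by
    apply orderOf_dvd_of_pow_eq_one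
    ext v
    apply e.injective
    rw [← hbpow, pow_orderOf_eq_one]
    rfl
  have h2b : 2 ∣ orderOf b := (h.dvd_aut' hr hs Nat.prime_two h2).trans hbo
  have h3b : 3 ∣ orderOf b := (h.dvd_aut' hr hs Nat.prime_three h3).trans hbo
  -- a fixed element of order three
  have hfix : ∃ w : alternatingGroup (Fin n), w * w * w = 1 ∧ w ≠ 1 ∧ b w = w := by
    obtain ⟨w, hw⟩ := H402.AltG.inner_four (m := n) (by omega) b
    have hbw : b w = w := by
      have h4 : MulAut.conj (b w) = MulAut.conj w := by
        have h5 : b * MulAut.conj w * b⁻¹ = MulAut.conj w := by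
          rw [← hw]
          group
        rw [← h5]
        ext v
        simp only [MulAut.mul_apply, _root_.MulAut.conj_apply, _root_.Subgroup.coe_mul, _root_.InvMemClass.coe_inv, _root_.Equiv.Perm.coe_mul, _root_.Equiv.Perm.coe_inv, _root_.Function.comp_apply, _root_.MulAut.inv_apply, _root_.map_mul, _root_.MulEquiv.apply_symm_apply, _root_.map_inv]
      have h6 : (b w)⁻¹ * w ∈ center (alternatingGroup (Fin n)) := by
        rw [mem_center_iff]
        intro g
        have h7 : b w * (((b w)⁻¹ * w) * g * ((b w)⁻¹ * w)⁻¹) * (b w)⁻¹ = b w * g * (b w)⁻¹ := by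
          have h8 := congrArg (fun f : MulAut (alternatingGroup (Fin n)) => f g) h4
          have h9 : b w * g * (b w)⁻¹ = w * g * w⁻¹ := h8
          rw [h9]
          group
        have h10 := mul_left_cancel (mul_right_cancel h7)
        calc g * ((b w)⁻¹ * w) = (((b w)⁻¹ * w) * g * ((b w)⁻¹ * w)⁻¹) * ((b w)⁻¹ * w) := by rw [h10]
          _ = ((b w)⁻¹ * w) * g := by group
      have h11 : center (alternatingGroup (Fin n)) = ⊥ := by
        have : NeZero (1 : ℕ) := ⟨one_ne_zero⟩
        exact alternatingGroup.center_eq_bot (by rw [Nat.card_fin]; omega)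
      rw [h11, mem_bot] at h6
      exact inv_mul_eq_one.1 h6
    have h3w : 3 ∣ orderOf w := by
      have h4 : orderOf (b ^ 4) ∣ orderOf w := by
        rw [hw]
        exact orderOf_map_dvd MulAut.conj w
      refine dvd_trans ?_ h4
      rw [orderOf_pow]
      have h5 : (orderOf b).gcd 4 ∣ 4 := Nat.gcd_dvd_right _ _
      have h6 : 3 * ((orderOf b).gcd 4) ∣ orderOf b := by
        refine Nat.Coprime.mul_dvd_of_dvd_of_dvd ?_ h3b (Nat.gcd_dvd_left _ _)
        exact Nat.Coprime.coprime_dvd_right h5 (by decide)
      exact (Nat.dvd_div_iff_mul_dvd (Nat.gcd_dvd_left _ _)).2 (by rwa [mul_comm])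
    refine ⟨w ^ (orderOf w / 3), ?_, ?_, ?_⟩
    · have h5 : (w ^ (orderOf w / 3)) ^ 3 = 1 := by
        rw [← pow_mul, Nat.div_mul_cancel h3w, pow_orderOf_eq_one]
      rw [← h5]
      group
    · intro h5
      have h6 : orderOf (w ^ (orderOf w / 3)) = 3 := orderOf_pow_orderOf_div (orderOf_pos w).ne' h3w
      rw [h5, orderOf_one] at h6
      exact absurd h6 (by norm_num)
    · rw [map_pow, hbw]
  obtain ⟨σ, hσ⟩ := H284.AltComp.exists_conj (m := n) (by omega) b (fun _ => hfix)
  have hσb : orderOf b ∣ orderOf σ := by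
    apply orderOf_dvd_of_pow_eq_one
    have h4 : ∀ k : ℕ, ∀ v : alternatingGroup (Fin n),
        (((b ^ k) v : alternatingGroup (Fin n)) : Perm (Fin n)) = σ ^ k * v * (σ ^ k)⁻¹ := by
      intro k
      induction k with
      | zero => intro v; simp
      | succ k ih =>
        intro v
        rw [pow_succ', MulAut.mul_apply, hσ, ih, pow_succ']
        group
    ext v : 1
    apply Subtype.ext
    rw [h4, pow_orderOf_eq_one]
    simp
  exact not_rfix_of_perm hσ (pt (by omega) (by omega) (h2b.trans hσb) (h3b.trans hσb)) hbR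

end Cfsg.Agent.H472.ComRed
end

-- part: H472/ComSixThree
section
/-!
# S4096: both primes are odd, up to the exceptions of the Unbalanced Group Theorem (helper472)
-/

set_option autoImplicit false
set_option linter.unusedSectionVars false

namespace Cfsg.Agent.H472.ComRed

open Subgroup Cfsg
open scoped Pointwise
open Cfsg.Agent.SignalizersComponents.Components
open Cfsg.Agent.H472.ComAut
open Cfsg.Agent.Lib.Cores

universe u v

/-- The exceptions of the Unbalanced Group Theorem. -/
def Exc (S : Type u) [Group S] : Prop :=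
  (∃ p : ℕ, p.Prime ∧ p ≠ 2 ∧ Cfsg.IsLieTypeChar p S) ∨
  (∃ n : ℕ, Odd n ∧ 7 ≤ n ∧ Nonempty (S ≃* ↥(alternatingGroup (Fin n)))) ∨
  (∃ (F : Type) (_ : Field F) (_ : Fintype F), Fintype.card F = 4 ∧
    Nonempty (S ≃* Matrix.ProjectiveSpecialLinearGroup (Fin 3) F)) ∨ Cfsg.Spor.IsoHe S

theorem Exc.of_equiv {S : Type u} [Group S] {T : Type v} [Group T] (e : S ≃* T) (h : Exc T) : Exc S := by
  rcases h with ⟨p, hp, hp2, h⟩ | ⟨n, hn, h7, ⟨f⟩⟩ | ⟨F, i1, i2, h4, ⟨f⟩⟩ | h
  · exact Or.inl ⟨p, hp, hp2, OddHalf.Known.isLieTypeChar_congr e.symm h⟩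
  · exact Or.inr (Or.inl ⟨n, hn, h7, ⟨e.trans f⟩⟩)
  · exact Or.inr (Or.inr (Or.inl ⟨F, i1, i2, h4, ⟨e.trans f⟩⟩))
  · obtain ⟨f⟩ : Nonempty (T ≃* Cfsg.Spor.He) := h
    exact Or.inr (Or.inr (Or.inr ⟨e.trans f⟩))

/-- The Unbalanced Group Theorem (S1311). -/
def UGT : Prop :=
  ∀ (G : Type u) [Group G] [Finite G], IsSimpleGroup ↥(Cfsg.generalizedFittingSubgroup G) →
    ¬ IsMulCommutative ↥(Cfsg.generalizedFittingSubgroup G) → ∀ t : G, orderOf t = 2 →
    Cfsg.centralizerPPrimeCore 2 t ≠ ⊥ → Exc ↥(Cfsg.generalizedFittingSubgroup G)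

variable {G : Type u} [Group G] [Finite G]

section quot

variable {K : Subgroup G} [K.Normal]

theorem ker_subgroupMap :
    ((QuotientGroup.mk' (centralizer (K : Set G))).subgroupMap K).ker = center K := by
  ext z
  rw [MonoidHom.mem_ker, mem_center_iff]
  constructor
  · intro h g
    have h1 : (QuotientGroup.mk' (centralizer (K : Set G))) (z : G) = 1 := congrArg Subtype.val h
    rw [← MonoidHom.mem_ker, QuotientGroup.ker_mk', mem_centralizer_iff] at h1
    exact Subtype.ext (h1 g g.2)
  · intro h
    apply Subtype.ext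
    show (QuotientGroup.mk' (centralizer (K : Set G))) (z : G) = 1
    rw [← MonoidHom.mem_ker, QuotientGroup.ker_mk', mem_centralizer_iff]
    intro g hg
    exact congrArg Subtype.val (h ⟨g, hg⟩)

/-- `K / Z(K) ≃ K C(K) / C(K)` -/
noncomputable def quotEquiv (K : Subgroup G) [K.Normal] :
    (K ⧸ center K) ≃* (K.map (QuotientGroup.mk' (centralizer (K : Set G)))) :=
  (QuotientGroup.quotientMulEquivOfEq (ker_subgroupMap (K := K)).symm).trans
    (QuotientGroup.quotientKerEquivOfSurjective _
      (MonoidHom.subgroupMap_surjective (QuotientGroup.mk' (centralizer (K : Set G))) K))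

theorem centralizer_map (hQ : IsQuasisimple K) :
    centralizer (K.map (QuotientGroup.mk' (centralizer (K : Set G))) : Set (G ⧸ centralizer (K : Set G))) = ⊥ := by
  rw [eq_bot_iff]
  intro v hv
  obtain ⟨g, rfl⟩ := QuotientGroup.mk'_surjective _ v
  rw [mem_bot, ← MonoidHom.mem_ker, QuotientGroup.ker_mk']
  have hgn : g ∈ normalizer (K : Set G) := by rw [normalizer_eq_top_iff.2 ‹K.Normal›]; trivial
  apply mem_centralizer_of_cm hQ hgn
  intro k
  have h1 : (cm g (k : G)) ∈ centralizer (K : Set G) := by
    rw [← QuotientGroup.ker_mk' (centralizer (K : Set G)), MonoidHom.mem_ker, map_cm, cm_eq_one]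
    have := mem_centralizer_iff.1 hv ((QuotientGroup.mk' (centralizer (K : Set G))) (k : G)) ⟨k, k.2, rfl⟩
    exact this.symm
  rw [mem_center_iff]
  intro g'
  apply Subtype.ext
  have h2 := mem_centralizer_iff.1 h1 g' g'.2
  have h3 := nAut_cm hgn k
  show (g' : G) * (((nAut hgn k)⁻¹ * k : K) : G) = (((nAut hgn k)⁻¹ * k : K) : G) * g'
  rw [h3]
  exact h2

end quot

theorem MinSix.exc (hU : UGT.{u}) {s : ℕ} (hs : s.Prime) (hs2 : s ≠ 2) {K : Subgroup G} {x : G}
    (h : MinSix 2 s K x) : Exc (K ⧸ center K) := by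
  have hKn := h.normal
  have hQ := h.qs
  set C := centralizer (K : Set G) with hC
  set π := QuotientGroup.mk' C with hπ
  set Kb := K.map π with hKb
  have hKbn : Kb.Normal := hKn.map π (QuotientGroup.mk'_surjective _)
  have hsim := hQ.2
  have hKbs : IsSimpleGroup Kb := (quotEquiv K).symm.isSimpleGroup
  have hCb : centralizer (Kb : Set (G ⧸ C)) = ⊥ := centralizer_map hQ
  have hna : ¬ IsMulCommutative Kb := by
    intro hcm
    apply quot_not_comm hQ
    refine ⟨⟨fun a b => (quotEquiv K).injective ?_⟩⟩
    rw [map_mul, map_mul, hcm.is_comm.comm]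
  have hF : generalizedFittingSubgroup (G ⧸ C) = Kb := H273.Sidki.genFitting_eq hKbn hKbs hna hCb
  -- orders
  have hdvd : orderOf (nAut h.mem_normalizer) ∣ orderOf (π x) := by
    apply orderOf_dvd_of_pow_eq_one
    have h1 : x ^ orderOf (π x) ∈ C := by
      have h0 : x ^ orderOf (π x) ∈ π.ker := by
        rw [MonoidHom.mem_ker, map_pow]
        exact pow_orderOf_eq_one _
      rwa [hπ, QuotientGroup.ker_mk'] at h0
    ext k
    have h2 := nAut_zpow h.mem_normalizer (orderOf (π x)) k
    rw [zpow_natCast] at h2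
    rw [h2, zpow_neg, zpow_natCast]
    have h3 := mem_centralizer_iff.1 h1 k k.2
    rw [mul_assoc, h3, inv_mul_cancel_left]
    rfl
  have h2x : 2 ∣ orderOf (π x) := (h.dvd_orderOf Nat.prime_two).trans hdvd
  have hsx : s ∣ orderOf (π x) := (h.symm.dvd_orderOf hs).trans hdvd
  set t := (π x) ^ (orderOf (π x) / 2) with ht
  have hto : orderOf t = 2 := orderOf_pow_orderOf_div (orderOf_pos _).ne' h2x
  set Db := centralizer ({t} : Set (G ⧸ C)) with hDb
  set D := Db.comap π with hD
  have hxDb : π x ∈ Db := by
    rw [hDb, mem_centralizer_singleton_iff, ht]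
    exact (Commute.refl (π x)).pow_right _
  have hDt : D ≠ ⊤ := by
    intro hDt
    have h1 : t ∈ centralizer (Kb : Set (G ⧸ C)) := by
      rw [mem_centralizer_iff]
      rintro _ ⟨k, -, rfl⟩
      have : k ∈ D := by rw [hDt]; trivial
      exact mem_centralizer_singleton_iff.1 this
    rw [hCb, mem_bot] at h1
    rw [h1, orderOf_one] at hto
    exact absurd hto (by norm_num)
  obtain ⟨f, hf, hfx⟩ := h.ind D hxDb hDt
  have hfx' : (f : G) = x := hfx
  -- the `s`-part of `x`
  have hsf := Fact.mk hs
  have ho : orderOf x ≠ 0 := (orderOf_pos x).ne'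
  set m := orderOf x / s ^ (orderOf x).factorization s with hm
  have hmul : s ^ (orderOf x).factorization s * m = orderOf x := Nat.mul_div_cancel' (Nat.ordProj_dvd _ _)
  have hfo : (f ^ m) ^ s ^ (orderOf x).factorization s = 1 := by
    rw [← pow_mul, mul_comm, hmul]
    apply Subtype.ext
    rw [SubgroupClass.coe_pow, hfx', pow_orderOf_eq_one]
    rfl
  have hy : f ^ m ∈ pCore s D := Cfsg.Agent.Lib.GenFitting.mem_pCore_of_mem_fitting (pow_mem hf m) hfo
  have hπy : π ((f ^ m : D) : G) ≠ 1 := by
    rw [SubgroupClass.coe_pow, hfx', map_pow]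
    intro h1
    have h2 : s ∣ m := hsx.trans (orderOf_dvd_of_pow_eq_one h1)
    exact Nat.not_dvd_ordCompl hs ho h2
  -- the image in the centralizer of `t`
  let ρ : D →* Db := (π.comp D.subtype).codRestrict Db fun y => y.2
  have hρ : Function.Surjective ρ := by
    rintro ⟨v, hv⟩
    obtain ⟨g, rfl⟩ := QuotientGroup.mk'_surjective _ v
    exact ⟨⟨g, hv⟩, rfl⟩
  have hN : ((pCore s D).map ρ).Normal := Subgroup.Normal.map inferInstance ρ hρ
  have hNp : IsPGroup s ((pCore s D).map ρ) := (pCore_isPGroup s).map ρ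
  have hcop : (Nat.card ((pCore s D).map ρ)).Coprime 2 := by
    obtain ⟨k, hk⟩ := hNp.exists_card_eq
    rw [hk]
    exact Nat.Coprime.pow_left _ ((Nat.coprime_primes hs Nat.prime_two).2 hs2)
  have hle : (pCore s D).map ρ ≤ pPrimeCore 2 Db := le_pPrimeCore hN hcop
  have hne : centralizerPPrimeCore 2 t ≠ ⊥ := by
    intro h1
    apply hπy
    have h2 : ((ρ (f ^ m) : Db) : G ⧸ C) ∈ centralizerPPrimeCore 2 t := ⟨_, hle ⟨_, hy, rfl⟩, rfl⟩
    rw [h1, mem_bot] at h2
    exact h2
  have h3 := hU (G ⧸ C) (by rw [hF]; exact hKbs) (by rw [hF]; exact hna) t hto hne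
  rw [hF] at h3
  exact h3.of_equiv (quotEquiv K)

/-- **Outside the list of exceptions both primes are odd.** -/
theorem MinSix.odd (hU : UGT.{u}) {r s : ℕ} (hr : r.Prime) (hs : s.Prime) (hrs : r ≠ s) {K : Subgroup G} {x : G}
    (h : MinSix r s K x) (hex : ¬ Exc (K ⧸ center K)) : r ≠ 2 ∧ s ≠ 2 := by
  constructor
  · rintro rfl
    exact hex (h.exc hU hs hrs.symm)
  · rintro rfl
    exact hex (h.symm.exc hU hr hrs)

end Cfsg.Agent.H472.ComRed
end

-- part: H472/ComMul
section
/-!
# Orders of the centres of quasisimple groups over some simple groups (helper472)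
-/

set_option autoImplicit false

namespace Cfsg.Agent.H472.ComMul

open Subgroup Cfsg

universe u v w

section gen

variable {K : Type u} [Group K] {T : Type v} [Group T]

theorem ker_eq (e : (K ⧸ center K) ≃* T) :
    (e.toMonoidHom.comp (QuotientGroup.mk' (center K))).ker = center K := by
  ext x
  rw [MonoidHom.mem_ker, MonoidHom.comp_apply]
  change e _ = 1 ↔ _
  rw [map_eq_one_iff _ e.injective, QuotientGroup.mk'_apply, QuotientGroup.eq_one_iff]

theorem center_dvd (hK : commutator K = ⊤) {A : Type w} [CommGroup A] (hA : HasSchurMultiplier T A)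
    (e : (K ⧸ center K) ≃* T) : Nat.card (center K) ∣ Nat.card A := by
  have h := H95.StemCover.card_ker_dvd hA hK (e.toMonoidHom.comp (QuotientGroup.mk' (center K)))
    (e.surjective.comp (QuotientGroup.mk'_surjective _)) (by rw [ker_eq])
  rwa [ker_eq] at h

theorem center_dvd_cyclic (hK : commutator K = ⊤) {m : ℕ} (hA : HasCyclicSchurMultiplier T m)
    (e : (K ⧸ center K) ≃* T) : Nat.card (center K) ∣ m := by
  have h := center_dvd hK hA e
  rwa [Nat.card_congr (Multiplicative.toAdd (α := ZMod m)), Nat.card_zmod] at h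

end gen

variable {K : Type u} [Group K]

/-- sporadic groups: the order of the centre divides 12 -/
theorem spor (hK : commutator K = ⊤) (h : IsSporadicGroup (K ⧸ center K)) : Nat.card (center K) ∣ 12 := by
  rcases h with ⟨⟨e⟩⟩ | ⟨⟨e⟩⟩ | ⟨⟨e⟩⟩ | ⟨⟨e⟩⟩ | ⟨⟨e⟩⟩ | ⟨⟨e⟩⟩ | ⟨⟨e⟩⟩ | ⟨F, i1, i2, ω, hF, hω, ⟨e⟩⟩ | ⟨⟨e⟩⟩ | ⟨⟨e⟩⟩ | ⟨⟨e⟩⟩ | ⟨⟨e⟩⟩ |
    ⟨⟨e⟩⟩ | ⟨⟨e⟩⟩ | ⟨⟨e⟩⟩ | ⟨⟨e⟩⟩ | ⟨⟨e⟩⟩ | ⟨⟨e⟩⟩ | ⟨⟨e⟩⟩ | ⟨⟨e⟩⟩ | ⟨⟨e⟩⟩ | ⟨⟨e⟩⟩ | ⟨⟨e⟩⟩ | ⟨⟨e⟩⟩ | ⟨⟨e⟩⟩ | ⟨⟨e⟩⟩
  · exact (center_dvd_cyclic hK Cfsg.Agent.S2034.result e).trans (by decide)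
  · exact (center_dvd_cyclic hK Cfsg.Agent.S2035.result e).trans (by decide)
  · exact (center_dvd_cyclic hK Cfsg.Agent.S2036.result e).trans (by decide)
  · exact (center_dvd_cyclic hK Cfsg.Agent.S2037.result e).trans (by decide)
  · exact (center_dvd_cyclic hK Cfsg.Agent.S2038.result e).trans (by decide)
  · exact (center_dvd_cyclic hK Cfsg.Agent.S2039.result e).trans (by decide)
  · exact (center_dvd_cyclic hK Cfsg.Agent.S2040.result e).trans (by decide)
  · exact (center_dvd_cyclic hK (Cfsg.Agent.S2041.result hF ω hω) e).trans (by decide)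
  · exact (center_dvd_cyclic hK Cfsg.Agent.S2042.result e).trans (by decide)
  · exact (center_dvd_cyclic hK Cfsg.Agent.S2043.result e).trans (by decide)
  · exact (center_dvd_cyclic hK Cfsg.Agent.S2044.result e).trans (by decide)
  · exact (center_dvd_cyclic hK Cfsg.Agent.S2045.result e).trans (by decide)
  · exact (center_dvd_cyclic hK Cfsg.Agent.S2047.result e).trans (by decide)
  · exact (center_dvd_cyclic hK Cfsg.Agent.S2046.result e).trans (by decide)
  · exact (center_dvd_cyclic hK Cfsg.Agent.S2048.result e).trans (by decide)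
  · exact (center_dvd_cyclic hK Cfsg.Agent.S2049.result e).trans (by decide)
  · exact (center_dvd_cyclic hK Cfsg.Agent.S2051.result e).trans (by decide)
  · exact (center_dvd_cyclic hK Cfsg.Agent.S2052.result e).trans (by decide)
  · exact (center_dvd_cyclic hK Cfsg.Agent.S2050.result e).trans (by decide)
  · exact (center_dvd_cyclic hK Cfsg.Agent.S2053.result e).trans (by decide)
  · exact (center_dvd_cyclic hK Cfsg.Agent.S2054.result e).trans (by decide)
  · exact (center_dvd_cyclic hK Cfsg.Agent.S2055.result e).trans (by decide)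
  · exact (center_dvd_cyclic hK Cfsg.Agent.S2056.result e).trans (by decide)
  · exact (center_dvd_cyclic hK Cfsg.Agent.S2057.result e).trans (by decide)
  · exact (center_dvd_cyclic hK Cfsg.Agent.S2058.result e).trans (by decide)
  · exact (center_dvd_cyclic hK Cfsg.Agent.S2059.result e).trans (by decide)

theorem he (hK : commutator K = ⊤) (h : Spor.IsoHe (K ⧸ center K)) : Nat.card (center K) ∣ 1 := by
  obtain ⟨e⟩ := h
  exact center_dvd_cyclic hK Cfsg.Agent.S2049.result e

theorem tits (hK : commutator K = ⊤) (h : Lie.IsoTits (K ⧸ center K)) : Nat.card (center K) ∣ 1 := by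
  obtain ⟨e⟩ := h
  exact center_dvd_cyclic hK Cfsg.Agent.S2115.result e

theorem suzuki (hK : commutator K = ⊤) (h : Lie.IsoSuzuki (K ⧸ center K)) : Nat.card (center K) ∣ 4 := by
  obtain ⟨F, i1, i2, m, hm, hF, ⟨e⟩⟩ := h
  by_cases hm1 : m = 1
  · subst hm1
    have h1 := center_dvd hK (Cfsg.Agent.S2112.result (F := F) (by rw [hF]; norm_num)) e
    rwa [Nat.card_congr (Multiplicative.toAdd (α := ZMod 2 × ZMod 2)), Nat.card_prod, Nat.card_zmod] at h1
  · exact (center_dvd_cyclic hK (Cfsg.Agent.S2111.result (F := F) (m := m) (by omega) hF) e).trans (by decide)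

theorem ree (hK : commutator K = ⊤) (h : Lie.IsoRee (K ⧸ center K)) : Nat.card (center K) ∣ 1 := by
  obtain ⟨F, i1, i2, m, hm, hF, ⟨e⟩⟩ := h
  exact center_dvd_cyclic hK (Cfsg.Agent.S2113.result hm hF) e

theorem twoF4 (hK : commutator K = ⊤) (h : Lie.Iso2F4 (K ⧸ center K)) : Nat.card (center K) ∣ 1 := by
  obtain ⟨F, i1, i2, m, hm, hF, ⟨e⟩⟩ := h
  exact center_dvd_cyclic hK (Cfsg.Agent.S2114.result hm hF) e

theorem alt_six_seven (hK : commutator K = ⊤) {n : ℕ} (hn : n = 6 ∨ n = 7)
    (e : (K ⧸ center K) ≃* alternatingGroup (Fin n)) : Nat.card (center K) ∣ 6 :=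
  center_dvd_cyclic hK (Cfsg.Agent.S2116.result n hn) e

theorem alt [Finite K] (hK : commutator K = ⊤) {n : ℕ} (hn : 4 ≤ n) (h6 : n ≠ 6) (h7 : n ≠ 7)
    (e : (K ⧸ center K) ≃* alternatingGroup (Fin n)) : Nat.card (center K) ≤ 2 :=
  Cfsg.Agent.S0892.result n hn h6 h7 (center K) le_rfl (by rw [hK]; exact le_top) e

theorem psl_two [Finite K] (hK : commutator K = ⊤) {F : Type} [Field F] [Fintype F] (h4 : 4 ≤ Fintype.card F)
    (h9 : Fintype.card F ≠ 9) (e : (K ⧸ center K) ≃* Matrix.ProjectiveSpecialLinearGroup (Fin 2) F) :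
    Nat.card (center K) ≤ 2 := by
  by_cases h : Fintype.card F = 4
  · obtain ⟨f⟩ := Cfsg.Agent.S0252.result h
    exact alt hK (by norm_num) (by norm_num) (by norm_num) (e.trans f)
  · have h1 := center_dvd_cyclic hK (Cfsg.Agent.S2086.result (F := F) rfl 2 le_rfl (fun _ => h4) (by
      simp only [Set.mem_insert_iff, Set.mem_singleton_iff, Prod.mk.injEq, not_or, not_and]
      exact ⟨fun _ => h, fun _ => h9, by norm_num, by norm_num, by norm_num⟩)) e
    exact Nat.le_of_dvd (by norm_num) (h1.trans (Nat.gcd_dvd_left _ _))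

theorem psu_three (hK : commutator K = ⊤) {F : Type} [Field F] [Fintype F] {q : ℕ} (hF : Fintype.card F = q ^ 2)
    (hq : q ≠ 2) (e : (K ⧸ center K) ≃* PSU 3 F q) : Nat.card (center K) ∣ 3 := by
  have h1 := center_dvd_cyclic hK (Cfsg.Agent.S2089.result (F := F) 3 q hF le_rfl (fun h => hq h.2) (by
    simp only [Set.mem_insert_iff, Set.mem_singleton_iff, Prod.mk.injEq, not_or, not_and]
    exact ⟨by norm_num, by norm_num, by norm_num⟩)) e
  exact h1.trans (Nat.gcd_dvd_left _ _)

theorem psu_three_three (hK : commutator K = ⊤) {F : Type} [Field F] [Fintype F] (hF : Fintype.card F = 3 ^ 2)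
    (e : (K ⧸ center K) ≃* PSU 3 F 3) : Nat.card (center K) ∣ 1 := by
  have h1 := center_dvd_cyclic hK (Cfsg.Agent.S2089.result (F := F) 3 3 hF le_rfl (fun h => by omega) (by
    simp only [Set.mem_insert_iff, Set.mem_singleton_iff, Prod.mk.injEq, not_or, not_and]
    exact ⟨by norm_num, by norm_num, by norm_num⟩)) e
  exact h1.trans (by decide)

end Cfsg.Agent.H472.ComMul
end

-- part: H472/ComSixAsm
section
/-!
# S4096: assembly (helper472)

`false_of_minSix` : there is no minimal counterexample, given the Unbalanced Group Theorem, the classification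
and the rows `Com p S`.
-/

set_option autoImplicit false
set_option linter.unusedSectionVars false

namespace Cfsg.Agent.H472.ComRed

open Subgroup Cfsg Equiv
open Cfsg.Agent.H472.ComAut
open Cfsg.Agent.H705

universe u

/-- the rows: groups of Lie type -/
def RowLie : Prop := ∀ (S : Type u) [Group S] [Finite S] [IsSimpleGroup S] (l : ℕ), l.Prime → IsLieTypeChar l S →
  ¬ Group.IsSolvable S → ∀ p : ℕ, p.Prime → ¬ SpecThree p S → Com p S

theorem not_spec {p : ℕ} (hp2 : p ≠ 2) {S : Type*} [Group S] : ¬ SpecThree p S := fun h => hp2 h.1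

/-- the rows: sporadic groups, primes at least 5 -/
def RowSpor : Prop := ∀ (S : Type u) [Group S] [Finite S] [IsSimpleGroup S], IsSporadicGroup S →
  ∀ p : ℕ, p.Prime → 5 ≤ p → Com p S

/-- the row: the Held group -/
def RowHe : Prop := ∀ (S : Type u) [Group S] [Finite S] [IsSimpleGroup S], Spor.IsoHe S →
  ∀ p : ℕ, p.Prime → p ≠ 2 → Com p S

/-- the row: the Tits group -/
def RowTits : Prop := ∀ (S : Type u) [Group S] [Finite S] [IsSimpleGroup S], Lie.IsoTits S →
  ∀ p : ℕ, p.Prime → p ≠ 2 → Com p S

theorem not_isSolvable_of {S : Type*} [Group S] [hs : IsSimpleGroup S] (h : ¬ IsMulCommutative S) :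
    ¬ Group.IsSolvable S := fun h1 =>
  h ⟨⟨IsSimpleGroup.comm_iff_isSolvable.2 h1⟩⟩

variable {G : Type u} [Group G] [Finite G] {r s : ℕ} {K : Subgroup G} {x : G}

theorem MinSix.not_solvable (h : MinSix r s K x) : ¬ Group.IsSolvable (K ⧸ center K) := by
  have := h.qs.2
  exact not_isSolvable_of (quot_not_comm h.qs)

theorem MinSix.perf (h : MinSix r s K x) : commutator K = ⊤ := h.qs.1.commutator_eq_top

theorem MinSix.false_of_com (h : MinSix r s K x) {p : ℕ} (hp : p.Prime) (hprs : p ∣ r * s)
    (hZ : ¬ p ∣ Nat.card (center K)) (hC : Com p (K ⧸ center K)) : False :=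
  h.aut_ne_one (com_iff.1 hC _ (h.bad hp hprs hZ))

theorem exists_odd (hr : r.Prime) (hs : s.Prime) (hrs : r ≠ s) : ∃ p, p.Prime ∧ p ≠ 2 ∧ p ∣ r * s := by
  by_cases h : r = 2
  · exact ⟨s, hs, fun h1 => hrs (h.trans h1.symm), Dvd.intro_left r rfl⟩
  · exact ⟨r, hr, h, Dvd.intro s rfl⟩

theorem exists_ne_three (hr : r.Prime) (hs : s.Prime) (hrs : r ≠ s) : ∃ p, p.Prime ∧ p ≠ 3 ∧ p ∣ r * s := by
  by_cases h : r = 3
  · exact ⟨s, hs, fun h1 => hrs (h.trans h1.symm), Dvd.intro_left r rfl⟩
  · exact ⟨r, hr, h, Dvd.intro s rfl⟩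

theorem five_le {p : ℕ} (hp : p.Prime) (h2 : p ≠ 2) (h3 : p ≠ 3) : 5 ≤ p := by
  by_contra h
  have := hp.two_le
  interval_cases p
  · exact h2 rfl
  · exact h3 rfl
  · exact absurd hp (by norm_num)

theorem exists_five (hr : r.Prime) (hs : s.Prime) (hrs : r ≠ s) :
    (2 ∣ r * s ∧ 3 ∣ r * s) ∨ ∃ p, p.Prime ∧ 5 ≤ p ∧ p ∣ r * s := by
  by_cases hr2 : r = 2
  · by_cases hs3 : s = 3
    · left; subst hr2 hs3; decide
    · exact Or.inr ⟨s, hs, five_le hs (fun h => hrs (hr2.trans h.symm)) hs3, Dvd.intro_left r rfl⟩
  · by_cases hr3 : r = 3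
    · by_cases hs2 : s = 2
      · left; subst hr3 hs2; decide
      · exact Or.inr ⟨s, hs, five_le hs hs2 (fun h => hrs (hr3.trans h.symm)), Dvd.intro_left r rfl⟩
    · exact Or.inr ⟨r, hr, five_le hr hr2 hr3, Dvd.intro s rfl⟩

theorem not_dvd_of_le_two {p m : ℕ} (hp : p.Prime) (h2 : p ≠ 2) (hm0 : 0 < m) (hm : m ≤ 2) : ¬ p ∣ m := fun h => by
  have h1 := Nat.le_of_dvd hm0 h
  have h3 := hp.two_le
  omega

theorem not_dvd_of_dvd {p m n : ℕ} (hmn : m ∣ n) (h : ¬ p ∣ n) : ¬ p ∣ m := fun h1 => h (h1.trans hmn)

theorem not_dvd_four {p : ℕ} (hp : p.Prime) (h2 : p ≠ 2) : ¬ p ∣ 4 := fun h =>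
  h2 ((Nat.prime_dvd_prime_iff_eq hp Nat.prime_two).1 (hp.dvd_of_dvd_pow (show p ∣ 2 ^ 2 from h)))

theorem not_dvd_one {p : ℕ} (hp : p.Prime) : ¬ p ∣ 1 := fun h => hp.one_lt.ne' (Nat.dvd_one.1 h)

theorem not_dvd_three {p : ℕ} (hp : p.Prime) (h3 : p ≠ 3) : ¬ p ∣ 3 := fun h =>
  h3 ((Nat.prime_dvd_prime_iff_eq hp Nat.prime_three).1 h)

theorem not_dvd_twelve {p : ℕ} (hp : p.Prime) (h5 : 5 ≤ p) : ¬ p ∣ 12 := fun h => by
  rcases hp.dvd_mul.1 (show p ∣ 4 * 3 from h) with h1 | h1
  · exact not_dvd_four hp (by omega) h1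
  · exact not_dvd_three hp (by omega) h1

theorem not_dvd_six {p : ℕ} (hp : p.Prime) (h5 : 5 ≤ p) : ¬ p ∣ 6 := fun h =>
  not_dvd_twelve hp h5 (h.trans (by decide))

theorem alt_six_lie {S : Type*} [Group S] (e : S ≃* alternatingGroup (Fin 6)) : IsLieTypeChar 3 S := by
  have : Fact (Nat.Prime 3) := ⟨Nat.prime_three⟩
  have : Fintype (GaloisField 3 2) := Fintype.ofFinite _
  have hc : Fintype.card (GaloisField 3 2) = 9 := by
    rw [← Nat.card_eq_fintype_card, GaloisField.card 3 2 (by norm_num)]; norm_num
  obtain ⟨f⟩ := Cfsg.Agent.S0254.result hc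
  exact Or.inl ⟨GaloisField 3 2, inferInstance, inferInstance, inferInstance, 2, le_rfl, fun _ => by omega,
    ⟨e.trans f.symm⟩⟩

/-- alternating groups -/
theorem MinSix.false_of_altn (hlie : RowLie.{u}) (hr : r.Prime) (hs : s.Prime) (hrs : r ≠ s) (h : MinSix r s K x)
    {n : ℕ} (hn : 5 ≤ n) (e : (K ⧸ center K) ≃* alternatingGroup (Fin n)) : False := by
  have hsim := h.qs.2
  by_cases h67 : n = 6 ∨ n = 7
  · rcases exists_five hr hs hrs with h1 | ⟨p, hp, h5, hprs⟩
    · exact h.false_of_alt hr hs hrs h1.1 h1.2 h67 e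
    · refine h.false_of_com hp hprs (not_dvd_of_dvd (ComMul.alt_six_seven h.perf h67 e) (not_dvd_six hp h5)) ?_
      rcases h67 with rfl | rfl
      · exact hlie _ 3 Nat.prime_three (alt_six_lie e) h.not_solvable p hp (not_spec (by omega))
      · exact Com.of_equiv e (ComAlt.com (by norm_num) (by norm_num) hp)
  · obtain ⟨p, hp, hp2, hprs⟩ := exists_odd hr hs hrs
    have h6 : n ≠ 6 := fun h => h67 (Or.inl h)
    have h7 : n ≠ 7 := fun h => h67 (Or.inr h)
    exact h.false_of_com hp hprs
      (not_dvd_of_le_two hp hp2 Nat.card_pos (ComMul.alt h.perf (by omega) h6 h7 e))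
      (Com.of_equiv e (ComAlt.com hn h6 hp))

/-- groups of Lie type -/
theorem MinSix.false_of_lie (hlie : RowLie.{u}) (hr : r.Prime) (hs : s.Prime) (hrs : r ≠ s) (h : MinSix r s K x)
    {l : ℕ} (hl : l.Prime) (hL : IsLieTypeChar l (K ⧸ center K)) : False := by
  have hsim := h.qs.2
  have hlf := Fact.mk hl
  obtain ⟨p, hp, hp2, hprs⟩ := exists_odd hr hs hrs
  by_cases hsz : l = 2 ∧ Lie.IsoSuzuki (K ⧸ center K)
  · exact h.false_of_com hp hprs (not_dvd_of_dvd (ComMul.suzuki h.perf hsz.2) (not_dvd_four hp hp2))
      (hlie _ l hl hL h.not_solvable p hp (not_spec hp2))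
  rcases cases_all hL with h1 | h1 | h1 | h1 | h1 | h1
  · obtain ⟨P, U, S, h2⟩ := h1
    exact h.aut_ne_one ((h.rfix hr hs hrs hl).eq_one_of_rank (H400.LieLocal.local_char_of_lie hL hsz) S h2)
  · obtain ⟨F, i1, i2, i3, hF, ⟨e⟩⟩ := h1
    by_cases h9 : Fintype.card F = 9
    · obtain ⟨f⟩ := Cfsg.Agent.S0254.result h9
      exact h.false_of_altn hlie hr hs hrs (n := 6) (by norm_num) (e.trans f)
    · exact h.false_of_com hp hprs (not_dvd_of_le_two hp hp2 Nat.card_pos (ComMul.psl_two h.perf hF h9 e))
        (hlie _ l hl hL h.not_solvable p hp (not_spec hp2))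
  · obtain ⟨F, i1, i2, i3, q, hF, hq2, ⟨e⟩⟩ := h1
    by_cases hsp : SpecThree 2 (K ⧸ center K)
    · obtain ⟨-, F', j1, j2, hF', ⟨e'⟩⟩ := hsp
      exact h.false_of_com hp hprs (not_dvd_of_dvd (ComMul.psu_three_three h.perf hF' e') (not_dvd_one hp))
        (hlie _ l hl hL h.not_solvable p hp (not_spec hp2))
    · obtain ⟨p', hp', hp3', hprs'⟩ := exists_ne_three hr hs hrs
      refine h.false_of_com hp' hprs' (not_dvd_of_dvd (ComMul.psu_three h.perf hF hq2 e) (not_dvd_three hp' hp3'))
        (hlie _ l hl hL h.not_solvable p' hp' ?_)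
      intro h2
      obtain rfl := h2.1
      exact hsp h2
  · exact hsz h1
  · exact h.false_of_com hp hprs (not_dvd_of_dvd (ComMul.twoF4 h.perf h1.2) (not_dvd_one hp))
      (hlie _ l hl hL h.not_solvable p hp (not_spec hp2))
  · exact h.false_of_com hp hprs (not_dvd_of_dvd (ComMul.ree h.perf h1.2) (not_dvd_one hp))
      (hlie _ l hl hL h.not_solvable p hp (not_spec hp2))

/-- the Held group -/
theorem MinSix.false_of_he (hhe : RowHe.{u}) (hr : r.Prime) (hs : s.Prime) (hrs : r ≠ s) (h : MinSix r s K x)
    (hH : Spor.IsoHe (K ⧸ center K)) : False := by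
  have hsim := h.qs.2
  obtain ⟨p, hp, hp2, hprs⟩ := exists_odd hr hs hrs
  exact h.false_of_com hp hprs (not_dvd_of_dvd (ComMul.he h.perf hH) (not_dvd_one hp)) (hhe _ hH p hp hp2)

/-- **There is no minimal counterexample to S4096.** -/
theorem false_of_minSix (hU : UGT.{u})
    (hK : ∀ (S : Type u) [Group S] [Finite S] [IsSimpleGroup S], IsKnownSimple' S) (hlie : RowLie.{u})
    (hspor : RowSpor.{u}) (hhe : RowHe.{u}) (htits : RowTits.{u}) (hr : r.Prime) (hs : s.Prime) (hrs : r ≠ s)
    (h : MinSix r s K x) : False := by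
  have hsim := h.qs.2
  -- the exceptions of the Unbalanced Group Theorem
  have hexc : ¬ Exc (K ⧸ center K) := by
    rintro (⟨l, hl, -, hL⟩ | ⟨n, -, hn, ⟨e⟩⟩ | ⟨F, i1, i2, h4, ⟨e⟩⟩ | hH)
    · exact h.false_of_lie hlie hr hs hrs hl hL
    · exact h.false_of_altn hlie hr hs hrs (by omega) e
    · have hch : CharP F 2 := by
        obtain ⟨p, hp⟩ := CharP.exists F
        obtain ⟨n, hp', hn⟩ := FiniteField.card F p
        have h5 : p ∣ 4 := by
          rw [← h4, hn]
          exact dvd_pow_self p n.pos.ne'
        have h6 : p = 2 := (Nat.prime_dvd_prime_iff_eq hp' Nat.prime_two).1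
          (hp'.dvd_of_dvd_pow (show p ∣ 2 ^ 2 from h5))
        rwa [h6] at hp
      exact h.false_of_lie hlie hr hs hrs Nat.prime_two
        (Or.inl ⟨F, i1, i2, hch, 3, by norm_num, fun h => absurd h (by norm_num), ⟨e⟩⟩)
    · exact h.false_of_he hhe hr hs hrs hH
  obtain ⟨hr2, hs2⟩ := h.odd hU hr hs hrs hexc
  rcases OddHalf.Known.classify' (quot_not_comm h.qs) (hK (K ⧸ center K)) with h1 | h1 | h1 | h1
  · obtain ⟨n, hn, ⟨e⟩⟩ := h1
    exact h.false_of_altn hlie hr hs hrs hn e
  · obtain ⟨l, hl, hL⟩ := h1
    exact h.false_of_lie hlie hr hs hrs hl hL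
  · obtain ⟨p, hp, hp2, hprs⟩ := exists_odd hr hs hrs
    exact h.false_of_com hp hprs (not_dvd_of_dvd (ComMul.tits h.perf h1) (not_dvd_one hp)) (htits _ h1 p hp hp2)
  · rcases exists_five hr hs hrs with h2 | ⟨p, hp, h5, hprs⟩
    · rcases Nat.prime_two.dvd_mul.1 h2.1 with h3 | h3
      · exact hr2 ((Nat.prime_dvd_prime_iff_eq Nat.prime_two hr).1 h3).symm
      · exact hs2 ((Nat.prime_dvd_prime_iff_eq Nat.prime_two hs).1 h3).symm
    · exact h.false_of_com hp hprs (not_dvd_of_dvd (ComMul.spor h.perf h1) (not_dvd_twelve hp h5))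
        (hspor _ h1 p hp h5)

end Cfsg.Agent.H472.ComRed
end

-- part: H516/RowJ4
section
/-!
# The row of `J4` (odd primes)
-/

set_option autoImplicit false
set_option linter.unusedSectionVars false

namespace Cfsg.Agent.H516.J4Row

open Subgroup Cfsg Cfsg.Agent.Lib.F2Mat Cfsg.Agent.Lib.F2MatGroup Matrix Cfsg.Agent.J4.Rep112 LinFix J4Data J4El

universe u

variable {L : Type u} [Group L]

/-- the representation -/
noncomputable def R (e : L ≃* Spor.J4) : L →* GL (Fin 112) (ZMod 2) := rho.comp e.toMonoidHom

theorem R_symm (e : L ≃* Spor.J4) (w : Spor.J4) : R e (e.symm w) = rho w := by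
  show rho (e (e.symm w)) = rho w
  rw [MulEquiv.apply_symm_apply]

theorem R_val (e : L ≃* Spor.J4) {w : Spor.J4} {B : ℕ} (h : Codes 112 (rho w) B) :
    (R e (e.symm w) : Matrix (Fin 112) (Fin 112) (ZMod 2)) = toMat 112 B := by
  rw [R_symm]
  exact h

theorem card_Fix_of (e : L ≃* Spor.J4) {w : Spor.J4} {B r k P PI Q QI : ℕ} (h : Codes 112 (rho w) B)
    (hc : kc 112 r (Nat.xor B (_root_.Cfsg.Agent.Lib.F2Mat.one 112)) P PI Q QI = true) (hn : r + k = 112) : fx (R e) (e.symm w) = k := by
  apply fx_eq
  rw [Fix_eq_Ker, R_val e h, ← toMat_one, ← toMat_xor]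
  exact card_ker hn hc

theorem fx_one {ρ : L →* GL (Fin 112) (ZMod 2)} : fx ρ 1 = 112 := by
  apply fx_eq
  have h1 : _root_.Cfsg.Agent.H516.LinFix.Fix ρ (1 : L) = ⊤ := by
    rw [eq_top_iff]
    intro v _
    rw [mem_Fix, map_one, Units.val_one, Matrix.vecMul_one]
  rw [h1, AddSubgroup.card_top, card_V]

theorem inj [IsSimpleGroup L] (e : L ≃* Spor.J4) : Function.Injective (R e) := by
  rcases IsSimpleGroup.eq_bot_or_eq_top_of_normal (R e).ker inferInstance with h | h
  · exact (MonoidHom.ker_eq_bot_iff _).1 h
  · exfalso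
    have h1 : R e (e.symm b37) = 1 := by
      rw [← MonoidHom.mem_ker, h]
      trivial
    have h2 := card_Fix_of e (k := 4) c37 k37 (by norm_num)
    have h3 : fx (R e) (e.symm b37) = 112 := by
      apply fx_eq
      have h4 : _root_.Cfsg.Agent.H516.LinFix.Fix (R e) (e.symm b37) = ⊤ := by
        rw [eq_top_iff]
        intro v _
        rw [mem_Fix, h1, Units.val_one, Matrix.vecMul_one]
      rw [h4, AddSubgroup.card_top, card_V]
    omega

theorem order_of [IsSimpleGroup L] (e : L ≃* Spor.J4) {w : Spor.J4} {s k : ℕ} (hs : s.Prime) (h : rho w ^ s = 1)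
    (hf : fx (R e) (e.symm w) = k) (hk : k < 112) : orderOf (e.symm w) = s := by
  have : Fact s.Prime := ⟨hs⟩
  apply orderOf_eq_prime
  · apply inj e
    rw [map_pow, R_symm, h, map_one]
  · intro h1
    rw [h1, fx_one] at hf
    omega

/-- the order -/
theorem card_eq (e : L ≃* Spor.J4) : Nat.card L = 86775571046077562880 := by
  rw [Nat.card_congr e.toEquiv]
  exact Cfsg.Agent.S1703.result.2

section

variable [Finite L] [IsSimpleGroup L] (e : L ≃* Spor.J4)

include e

theorem base {s m k : ℕ} (hs : s.Prime) (hm : 86775571046077562880 = s * m) (hm2 : ¬ s ∣ m) {w : Spor.J4} (h : rho w ^ s = 1)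
    (hf : fx (R e) (e.symm w) = k) (hk : k < 112) {b : L} (hb : orderOf b = s) : fx (R e) b = k := by
  rw [← hf]
  exact SylOne.fx_of_base (R e) hs (by rw [card_eq e]; exact hm) hm2 hb (order_of e hs h hf hk)

theorem f43 (b : L) (hb : orderOf b = 43) : fx (R e) b = 0 :=
  base e (m := 2018036535955292160) (by norm_num) (by norm_num) (by norm_num) o43 (card_Fix_of e c43 k43 (by norm_num)) (by norm_num) hb
theorem f37 (b : L) (hb : orderOf b = 37) : fx (R e) b = 4 :=
  base e (m := 2345285703948042240) (by norm_num) (by norm_num) (by norm_num) o37 (card_Fix_of e c37 k37 (by norm_num)) (by norm_num) hb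
theorem f31 (b : L) (hb : orderOf b = 31) : fx (R e) b = 2 :=
  base e (m := 2799211969228308480) (by norm_num) (by norm_num) (by norm_num) o31 (card_Fix_of e c31 k31 (by norm_num)) (by norm_num) hb
theorem f29 (b : L) (hb : orderOf b = 29) : fx (R e) b = 0 :=
  base e (m := 2992261070554398720) (by norm_num) (by norm_num) (by norm_num) o29 (card_Fix_of e c29 k29 (by norm_num)) (by norm_num) hb
theorem f23 (b : L) (hb : orderOf b = 23) : fx (R e) b = 2 :=
  base e (m := 3772850915046850560) (by norm_num) (by norm_num) (by norm_num) o23 (card_Fix_of e c23 k23 (by norm_num)) (by norm_num) hb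
theorem f7 (b : L) (hb : orderOf b = 7) : fx (R e) b = 16 :=
  base e (m := 12396510149439651840) (by norm_num) (by norm_num) (by norm_num) o7 (card_Fix_of e c7 k7 (by norm_num)) (by norm_num) hb
theorem f5 (b : L) (hb : orderOf b = 5) : fx (R e) b = 24 :=
  base e (m := 17355114209215512576) (by norm_num) (by norm_num) (by norm_num) o5 (card_Fix_of e c5 k5 (by norm_num)) (by norm_num) hb

/-- non-adjacency from one dimension -/
theorem nadj_k {s q k : ℕ} (hs : s.Prime) (hq : q.Prime) (hf : ∀ b : L, orderOf b = s → fx (R e) b = k)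
    (H : ∀ f < 112, ∀ j < k + 1, ¬ (2 ^ 112 % q = 2 ^ f % q ∧ j ≤ f ∧ 2 ^ f % s = 2 ^ j % s ∧ 2 ^ k % q = 2 ^ j % q)) :
    NAdj L s q := by
  intro b c hb hc hbc
  obtain ⟨-, h2, -, h4, j, h5, h6, h7, h8⟩ := pair (R e) (inj e) hs hq hb hc hbc
  rw [hf b hb] at h5 h8
  exact H _ h2 j (by omega) ⟨h4, h6, h7, h8⟩

/-- non-adjacency from two dimensions -/
theorem nadj_kl {s q k l : ℕ} (hs : s.Prime) (hq : q.Prime) (hf : ∀ b : L, orderOf b = s → fx (R e) b = k)
    (hg : ∀ b : L, orderOf b = q → fx (R e) b = l)
    (H : ∀ j < k + 1, ¬ (j ≤ l ∧ 2 ^ l % s = 2 ^ j % s ∧ 2 ^ k % q = 2 ^ j % q)) :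
    NAdj L s q := by
  intro b c hb hc hbc
  obtain ⟨-, h2, -, h4, j, h5, h6, h7, h8⟩ := pair (R e) (inj e) hs hq hb hc hbc
  rw [hf b hb] at h5 h8
  rw [hg c hc] at h6 h7
  exact H j (by omega) ⟨h6, h7, h8⟩

theorem n37_11 : NAdj L 37 11 := nadj_k e (by norm_num) (by norm_num) (f37 e) (by decide +kernel)
theorem n37_23 : NAdj L 37 23 := nadj_k e (by norm_num) (by norm_num) (f37 e) (by decide +kernel)
theorem n37_29 : NAdj L 37 29 := nadj_k e (by norm_num) (by norm_num) (f37 e) (by decide +kernel)
theorem n37_31 : NAdj L 37 31 := nadj_k e (by norm_num) (by norm_num) (f37 e) (by decide +kernel)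
theorem n37_43 : NAdj L 37 43 := nadj_k e (by norm_num) (by norm_num) (f37 e) (by decide +kernel)
theorem n29_11 : NAdj L 29 11 := nadj_k e (by norm_num) (by norm_num) (f29 e) (by decide +kernel)
theorem n29_23 : NAdj L 29 23 := nadj_k e (by norm_num) (by norm_num) (f29 e) (by decide +kernel)
theorem n29_31 : NAdj L 29 31 := nadj_k e (by norm_num) (by norm_num) (f29 e) (by decide +kernel)
theorem n29_5 : NAdj L 29 5 := nadj_kl e (by norm_num) (by norm_num) (f29 e) (f5 e) (by decide +kernel)
theorem n43_5 : NAdj L 43 5 := nadj_kl e (by norm_num) (by norm_num) (f43 e) (f5 e) (by decide +kernel)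
theorem n43_7 : NAdj L 43 7 := nadj_kl e (by norm_num) (by norm_num) (f43 e) (f7 e) (by decide +kernel)
theorem n43_23 : NAdj L 43 23 := nadj_k e (by norm_num) (by norm_num) (f43 e) (by decide +kernel)
theorem n43_31 : NAdj L 43 31 := nadj_kl e (by norm_num) (by norm_num) (f43 e) (f31 e) (by decide +kernel)
theorem n31_5 : NAdj L 31 5 := nadj_kl e (by norm_num) (by norm_num) (f31 e) (f5 e) (by decide +kernel)

/-- a polynomial in the matrix of an element -/
theorem poly_comm {w : Spor.J4} {B : ℕ} (h : Codes 112 (rho w) B) {c : L} (hc : e.symm w * c = c * e.symm w) (cs : List Bool) :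
    mpoly (toMat 112 B) cs * (R e c : Matrix (Fin 112) (Fin 112) (ZMod 2)) =
      (R e c : Matrix (Fin 112) (Fin 112) (ZMod 2)) * mpoly (toMat 112 B) cs := by
  apply commute_mpoly
  rw [← R_val e h, ← Units.val_mul, ← Units.val_mul, ← map_mul, ← map_mul, hc]

/-- `31` and `23` -/
theorem n31_23 : NAdj L 31 23 := by
  have ho : orderOf (e.symm b31) = 31 := order_of e (by norm_num) o31 (card_Fix_of e c31 k31 (by norm_num)) (by norm_num : (2 : ℕ) < 112)
  refine SylOne.nadj_of_base (by norm_num) (m := 2799211969228308480) (by rw [card_eq e]) (by norm_num) ho ?_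
  intro c hc hbc
  have hp : (p3.map bz).sum = 1 := by decide +kernel
  obtain ⟨j, h1, h2, h3, h4, h5⟩ := _root_.Cfsg.Agent.H516.LinFix.sub (R e) (b := e.symm b31) (c := c) (s := 31) (q := 23) (by norm_num) (by norm_num) ho hc hbc
    (mpoly (toMat 112 B31) p3) (poly_comm e c31 rfl p3) (poly_comm e c31 hbc p3) (fun v hv hv2 => by
      rw [mem_Fix, R_val e c31] at hv
      rw [mem_Ker, vecMul_mpoly hv, hp, one_smul] at hv2
      exact hv2) (w := 15) (by
      rw [← toMat_poly]
      exact card_ker (by norm_num) kw31)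
  · rw [f23 e c hc] at h3
    have H : ∀ j < 3, ¬ (2 ^ j % 31 = 1 ∧ 2 ^ 15 % 23 = 2 ^ j % 23) := by decide +kernel
    exact H j (by omega) ⟨h4, h5⟩

/-- `23` and `11` -/
theorem n23_11 : NAdj L 23 11 := by
  have ho : orderOf (e.symm b23) = 23 := order_of e (by norm_num) o23 (card_Fix_of e c23 k23 (by norm_num)) (by norm_num : (2 : ℕ) < 112)
  refine SylOne.nadj_of_base (by norm_num) (m := 3772850915046850560) (by rw [card_eq e]) (by norm_num) ho ?_
  intro c hc hbc
  have hp : (p4.map bz).sum = 1 := by decide +kernel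
  obtain ⟨j, h1, h2, h3, h4, h5⟩ := _root_.Cfsg.Agent.H516.LinFix.sub (R e) (b := e.symm b23) (c := c) (s := 23) (q := 11) (by norm_num) (by norm_num) ho hc hbc
    (mpoly (toMat 112 B23) p4) (poly_comm e c23 rfl p4) (poly_comm e c23 hbc p4) (fun v hv hv2 => by
      rw [mem_Fix, R_val e c23] at hv
      rw [mem_Ker, vecMul_mpoly hv, hp, one_smul] at hv2
      exact hv2) (w := 55) (by
      rw [← toMat_poly]
      exact card_ker (by norm_num) kw23)
  · obtain ⟨-, g2, -, g4, i, g5, g6, g7, g8⟩ := pair (R e) (inj e) (by norm_num : Nat.Prime 23) (by norm_num : Nat.Prime 11) ho hc hbc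
    rw [f23 e _ ho] at g5 g8
    have H1 : ∀ f < 112, ∀ i < 3, (2 ^ 112 % 11 = 2 ^ f % 11 ∧ i ≤ f ∧ 2 ^ f % 23 = 2 ^ i % 23 ∧ 2 ^ 2 % 11 = 2 ^ i % 11) → f = 2 := by
      decide +kernel
    have g9 := H1 _ g2 i (by omega) ⟨g4, g6, g7, g8⟩
    have H : ∀ j < 3, ¬ (2 ^ j % 23 = 1 ∧ 2 ^ 55 % 11 = 2 ^ j % 11) := by decide +kernel
    exact H j (by omega) ⟨h4, h5⟩

/-- `43` and `11` -/
theorem n43_11 : NAdj L 43 11 := by
  have ho : orderOf (e.symm b43) = 43 := order_of e (by norm_num) o43 (card_Fix_of e c43 k43 (by norm_num)) (by norm_num : (0 : ℕ) < 112)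
  refine SylOne.nadj_of_base (by norm_num) (m := 2018036535955292160) (by rw [card_eq e]) (by norm_num) ho ?_
  intro c hc hbc
  have hp1 : (p1.map bz).sum = 1 := by decide +kernel
  have hp2 : (p2.map bz).sum = 1 := by decide +kernel
  obtain ⟨j, h1, h2, h3, h4, h5⟩ := _root_.Cfsg.Agent.H516.LinFix.sub (R e) (b := e.symm b43) (c := c) (s := 43) (q := 11) (by norm_num) (by norm_num) ho hc hbc
    (mpoly (toMat 112 B43) p1) (poly_comm e c43 rfl p1) (poly_comm e c43 hbc p1) (fun v hv hv2 => by
      rw [mem_Fix, R_val e c43] at hv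
      rw [mem_Ker, vecMul_mpoly hv, hp1, one_smul] at hv2
      exact hv2) (w := 42) (by
      rw [← toMat_poly]
      exact card_ker (by norm_num) kw43)
  obtain ⟨i, i1, i2, i3, i4, i5⟩ := _root_.Cfsg.Agent.H516.LinFix.sub (R e) (b := e.symm b43) (c := c) (s := 43) (q := 11) (by norm_num) (by norm_num) ho hc hbc
    (mpoly (toMat 112 B43) p1 * mpoly (toMat 112 B43) p2) (by
      rw [mul_assoc, poly_comm e c43 rfl p2, ← mul_assoc, poly_comm e c43 rfl p1, mul_assoc]) (by
      rw [mul_assoc, poly_comm e c43 hbc p2, ← mul_assoc, poly_comm e c43 hbc p1, mul_assoc]) (fun v hv hv2 => by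
      rw [mem_Fix, R_val e c43] at hv
      rw [mem_Ker, ← Matrix.vecMul_vecMul, vecMul_mpoly hv, hp1, one_smul, vecMul_mpoly hv, hp2, one_smul] at hv2
      exact hv2) (w := 70) (by
      rw [← toMat_poly, ← toMat_poly, ← toMat_mul]
      exact card_ker (by norm_num) kv43)
  obtain ⟨-, g2, -, g4, l, g5, g6, g7, g8⟩ := pair (R e) (inj e) (by norm_num : Nat.Prime 43) (by norm_num : Nat.Prime 11) ho hc hbc
  rw [f43 e _ ho] at g5 g8
  have H1 : ∀ f < 112, ∀ i < 1, (2 ^ 112 % 11 = 2 ^ f % 11 ∧ i ≤ f ∧ 2 ^ f % 43 = 2 ^ i % 43 ∧ 2 ^ 0 % 11 = 2 ^ i % 11) → f = 42 := by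
    decide +kernel
  have g9 := H1 _ g2 l (by omega) ⟨g4, g6, g7, g8⟩
  rw [g9] at i3
  have H2 : ∀ j < 43, (2 ^ j % 43 = 1 ∧ 2 ^ 42 % 11 = 2 ^ j % 11) → j = 42 := by decide +kernel
  have H3 : ∀ j < 43, (2 ^ j % 43 = 1 ∧ 2 ^ 70 % 11 = 2 ^ j % 11) → j = 0 := by decide +kernel
  have hj := H2 j (by omega) ⟨h4, h5⟩
  have hi := H3 i (by omega) ⟨i4, i5⟩
  have hle : Ker (mpoly (toMat 112 B43) p1) ⊓ _root_.Cfsg.Agent.H516.LinFix.Fix (R e) c ≤ Ker (mpoly (toMat 112 B43) p1 * mpoly (toMat 112 B43) p2) ⊓ _root_.Cfsg.Agent.H516.LinFix.Fix (R e) c := by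
    refine inf_le_inf_right _ ?_
    intro v hv
    rw [mem_Ker] at hv ⊢
    rw [← Matrix.vecMul_vecMul, hv, Matrix.zero_vecMul]
  have h7 := _root_.Cfsg.Agent.H516.LinFix.card_le_of_le hle
  rw [h1, i1, hj, hi] at h7
  norm_num at h7

/-- elements of order 31 commute with no involution -/
theorem n31_2 : NAdj L 31 2 := by
  obtain ⟨-, -, ⟨F⟩⟩ := KFacts.J4.Base.exists_full (K := L) ⟨e⟩
  intro b c hb hc hbc
  have hcc : c * c = 1 := by
    rw [← pow_two, ← hc]
    exact pow_orderOf_eq_one c
  have hc1 : c ≠ 1 := by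
    rintro rfl
    rw [orderOf_one] at hc
    norm_num at hc
  have hb1 : b ≠ 1 := by
    rintro rfl
    rw [orderOf_one] at hb
    norm_num at hb
  have key : ∀ g t : L, g * t * g⁻¹ = c → (g⁻¹ * b * g) * t = t * (g⁻¹ * b * g) := by
    intro g t h
    have h1 : t = g⁻¹ * c * g := by rw [← h]; group
    rw [h1]
    have h2 : g⁻¹ * b * g * (g⁻¹ * c * g) = g⁻¹ * (b * c) * g := by group
    have h3 : g⁻¹ * c * g * (g⁻¹ * b * g) = g⁻¹ * (c * b) * g := by group
    rw [h2, h3, hbc]
  have h31 : ∀ g : L, (g⁻¹ * b * g) ^ 31 = 1 := by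
    intro g
    have h1 : (g⁻¹ * b * g⁻¹⁻¹) ^ 31 = g⁻¹ * b ^ 31 * g⁻¹⁻¹ := conj_pow
    rw [inv_inv] at h1
    rw [h1, ← hb, pow_orderOf_eq_one, mul_one, inv_mul_cancel]
  have hne : ∀ g : L, g⁻¹ * b * g = 1 → False := by
    intro g h
    apply hb1
    have h1 : b = g * (g⁻¹ * b * g) * g⁻¹ := by group
    rw [h1, h, mul_one, mul_inv_cancel]
  rcases KFacts.J4.DFour.classes F.C hcc hc1 with ⟨g, hg⟩ | ⟨p, q, g, hpq, hg⟩
  · exact hne g (H7.J4Weak.eq_one_of_comm_z F.C.toFrame (h31 g) (key g _ hg))
  · exact hne g (H7.J4Weak.eq_one_of_comm_duad F.C.toFrame hpq (h31 g) (key g _ hg))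

end

/-- the factorization of the odd part of `|J4|` -/
def fac : List (ℕ × ℕ) := [(3, 3), (5, 1), (7, 1), (11, 3), (23, 1), (29, 1), (31, 1), (37, 1), (43, 1)]

section

variable [Finite L] {p : ℕ} {a : MulAut L} {b : L}

theorem card_F_dvd (S : Sit p a b) (e : L ≃* Spor.J4) : Nat.card ↥(fixedSubgroup a) ∣ SylOne.pval fac := by
  have h1 : Nat.card ↥(fixedSubgroup a) ∣ 2 ^ 21 * SylOne.pval fac := by
    have h2 : 2 ^ 21 * SylOne.pval fac = 86775571046077562880 := by decide +kernel
    rw [h2, ← card_eq e]
    exact Subgroup.card_subgroup_dvd_card _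
  exact (Nat.Coprime.pow_right 21 (Nat.coprime_two_right.2 S.odd)).dvd_of_dvd_mul_left h1

theorem le_F (S : Sit p a b) (e : L ≃* Spor.J4) : 2 ^ 21 ≤ Nat.card ↥(fixedSubgroup a) :=
  S.two_pow_le (by rw [card_eq e]; norm_num)

theorem contra (S : Sit p a b) (e : L ≃* Spor.J4) {j m : ℕ} (h : Nat.card ↥(fixedSubgroup a) ∣ 2 ^ j * m) (hm : m ≠ 0)
    (hlt : m < 2 ^ 21) : False := by
  have h1 := (Nat.Coprime.pow_right j (Nat.coprime_two_right.2 S.odd)).dvd_of_dvd_mul_left h
  have h2 := Nat.le_of_dvd (Nat.pos_of_ne_zero hm) h1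
  have h3 := le_F S e
  omega

theorem big (S : Sit p a b) (e : L ≃* Spor.J4) {s m : ℕ} (hs : s.Prime) (hm : 86775571046077562880 = s * m) (hm2 : ¬ s ∣ m)
    (hd : s ∣ Nat.card ↥(fixedSubgroup a)) (hchk : ∀ x ∈ fac, ∀ i < x.2 + 1, ¬ (x.1 ≠ s ∧ 1 ≤ i ∧ x.1 ^ i % s = 1)) :
    ∃ c : L, orderOf c = s ∧ fixedSubgroup a ≤ normalizer ((zpowers c : Subgroup L) : Set L) ∧
      Nat.card ↥(fixedSubgroup a) ∣ (s - 1) * Nat.card ↥(centralizer ({c} : Set L)) := by
  obtain ⟨m', hm'⟩ := hd
  have hmm : ¬ s ∣ m' := by
    intro h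
    apply hm2
    have h1 : s * m' ∣ s * m := by
      rw [← hm', ← hm, ← card_eq e]
      exact Subgroup.card_subgroup_dvd_card _
    exact h.trans (Nat.dvd_of_mul_dvd_mul_left hs.pos h1)
  have hqq : ∀ q i : ℕ, q.Prime → q ≠ s → 1 ≤ i → q ^ i ∣ Nat.card ↥(fixedSubgroup a) → ¬ q ^ i ≡ 1 [MOD s] := by
    intro q i hq hqs hi hqi hmod
    obtain ⟨x, hx, hx1, hx2⟩ := SylOne.mem_of_pow_dvd hq hi fac (by decide +kernel) (by decide +kernel) (hqi.trans (card_F_dvd S e))
    apply hchk x hx i (by omega)
    refine ⟨by rw [hx1]; exact hqs, hi, ?_⟩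
    have h1 : q ^ i % s = 1 % s := hmod
    rw [hx1, h1, Nat.mod_eq_of_lt hs.one_lt]
  obtain ⟨c, -, h1, h2, h3⟩ := SylOne.exists_of_odd S.odd hs ⟨m', hm', hmm⟩ hqq
  exact ⟨c, h1, h2, h3⟩

theorem not43 (S : Sit p a b) (e : L ≃* Spor.J4) : ¬ 43 ∣ Nat.card ↥(fixedSubgroup a) := by
  intro hd
  have := S.good.simple
  obtain ⟨c, h1, -, h2⟩ := big S e (s := 43) (m := 2018036535955292160) (by norm_num) (by norm_num) (by norm_num) hd (by decide +kernel)
  have h3 : Nat.card ↥(centralizer ({c} : Set L)) ∣ 2 ^ 21 * 27 * 29 * 43 := by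
    refine card_dvd_list (R := 5 * 7 * 1331 * 23 * 31 * 37) (by rw [card_eq e]; norm_num) [5, 7, 11, 23, 31, 37]
      (fun r hr h => mem_of_dvd_prod (k := 3) (N := 5 * 7 * 1331 * 23 * 31 * 37) (by decide +kernel) hr (by decide +kernel) h) ?_
    rw [h1]
    intro r hr
    simp only [List.mem_cons, List.not_mem_nil, or_false] at hr
    rcases hr with rfl | rfl | rfl | rfl | rfl | rfl
    exacts [n43_5 e, n43_7 e, n43_11 e, n43_23 e, n43_31 e, (n37_43 e).symm]
  have h4 : Nat.card ↥(fixedSubgroup a) ∣ 2 ^ 22 * (21 * 27 * 29 * 43) := by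
    have h5 := h2.trans (Nat.mul_dvd_mul_left (43 - 1) h3)
    have h6 : (43 - 1) * (2 ^ 21 * 27 * 29 * 43) = 2 ^ 22 * (21 * 27 * 29 * 43) := by norm_num
    rwa [h6] at h5
  exact contra S e h4 (by norm_num) (by norm_num)

theorem not37 (S : Sit p a b) (e : L ≃* Spor.J4) : ¬ 37 ∣ Nat.card ↥(fixedSubgroup a) := by
  intro hd
  have := S.good.simple
  obtain ⟨c, h1, -, h2⟩ := big S e (s := 37) (m := 2345285703948042240) (by norm_num) (by norm_num) (by norm_num) hd (by decide +kernel)
  have h3 : Nat.card ↥(centralizer ({c} : Set L)) ∣ 2 ^ 21 * 27 * 5 * 7 * 37 := by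
    refine card_dvd_list (R := 1331 * 23 * 29 * 31 * 43) (by rw [card_eq e]; norm_num) [11, 23, 29, 31, 43]
      (fun r hr h => mem_of_dvd_prod (k := 3) (N := 1331 * 23 * 29 * 31 * 43) (by decide +kernel) hr (by decide +kernel) h) ?_
    rw [h1]
    intro r hr
    simp only [List.mem_cons, List.not_mem_nil, or_false] at hr
    rcases hr with rfl | rfl | rfl | rfl | rfl
    exacts [n37_11 e, n37_23 e, n37_29 e, n37_31 e, n37_43 e]
  have h4 : Nat.card ↥(fixedSubgroup a) ∣ 2 ^ 23 * (9 * 27 * 5 * 7 * 37) := by
    have h5 := h2.trans (Nat.mul_dvd_mul_left (37 - 1) h3)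
    have h6 : (37 - 1) * (2 ^ 21 * 27 * 5 * 7 * 37) = 2 ^ 23 * (9 * 27 * 5 * 7 * 37) := by norm_num
    rwa [h6] at h5
  exact contra S e h4 (by norm_num) (by norm_num)

theorem not29 (S : Sit p a b) (e : L ≃* Spor.J4) : ¬ 29 ∣ Nat.card ↥(fixedSubgroup a) := by
  intro hd
  have := S.good.simple
  obtain ⟨c, h1, -, h2⟩ := big S e (s := 29) (m := 2992261070554398720) (by norm_num) (by norm_num) (by norm_num) hd (by decide +kernel)
  have h3 : Nat.card ↥(centralizer ({c} : Set L)) ∣ 2 ^ 21 * 27 * 7 * 29 * 43 := by
    refine card_dvd_list (R := 5 * 1331 * 23 * 31 * 37) (by rw [card_eq e]; norm_num) [5, 11, 23, 31, 37]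
      (fun r hr h => mem_of_dvd_prod (k := 3) (N := 5 * 1331 * 23 * 31 * 37) (by decide +kernel) hr (by decide +kernel) h) ?_
    rw [h1]
    intro r hr
    simp only [List.mem_cons, List.not_mem_nil, or_false] at hr
    rcases hr with rfl | rfl | rfl | rfl | rfl
    exacts [n29_5 e, n29_11 e, n29_23 e, n29_31 e, (n37_29 e).symm]
  have h4 : Nat.card ↥(fixedSubgroup a) ∣ 2 ^ 23 * (7 * 27 * 7 * 29 * 43) := by
    have h5 := h2.trans (Nat.mul_dvd_mul_left (29 - 1) h3)
    have h6 : (29 - 1) * (2 ^ 21 * 27 * 7 * 29 * 43) = 2 ^ 23 * (7 * 27 * 7 * 29 * 43) := by norm_num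
    rwa [h6] at h5
  exact contra S e h4 (by norm_num) (by norm_num)

/-- the numbers of the form `|N(P)| / 31` -/
theorem no31 {N t : ℕ} (hN : N ∣ 2 * (3 ^ 4 * (5 * (7 * 11 ^ 3)))) (h10 : N % 31 = 10) (ht : Odd t) (htd : t ∣ 31 * N) :
    t < 2 ^ 21 := by
  obtain ⟨n1, n1', h1, hn1, rfl⟩ := (Nat.dvd_mul).1 hN
  obtain ⟨n2, n2', h2, hn2, rfl⟩ := (Nat.dvd_mul).1 hn1
  obtain ⟨n3, n3', h3, hn3, rfl⟩ := (Nat.dvd_mul).1 hn2
  obtain ⟨n4, n5, h4, h5, rfl⟩ := (Nat.dvd_mul).1 hn3
  rw [← pow_one 2] at h1
  rw [← pow_one 5] at h3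
  rw [← pow_one 7] at h4
  obtain ⟨i1, hi1, rfl⟩ := (Nat.dvd_prime_pow (by norm_num)).1 h1
  obtain ⟨i2, hi2, rfl⟩ := (Nat.dvd_prime_pow (by norm_num)).1 h2
  obtain ⟨i3, hi3, rfl⟩ := (Nat.dvd_prime_pow (by norm_num)).1 h3
  obtain ⟨i4, hi4, rfl⟩ := (Nat.dvd_prime_pow (by norm_num)).1 h4
  obtain ⟨i5, hi5, rfl⟩ := (Nat.dvd_prime_pow (by norm_num)).1 h5
  have H : ((List.range 2).all fun i1 => (List.range 5).all fun i2 => (List.range 2).all fun i3 => (List.range 2).all fun i4 =>
      (List.range 4).all fun i5 => !((2 ^ i1 * (3 ^ i2 * (5 ^ i3 * (7 ^ i4 * 11 ^ i5)))) % 31 == 10 &&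
        Nat.ble (2 ^ 21) (31 * (3 ^ i2 * (5 ^ i3 * (7 ^ i4 * 11 ^ i5)))))) = true := by decide +kernel
  simp only [List.all_eq_true, List.mem_range, Bool.not_eq_true', Bool.and_eq_false_iff, beq_eq_false_iff_ne, ne_eq] at H
  have h6 : t ∣ 31 * (3 ^ i2 * (5 ^ i3 * (7 ^ i4 * 11 ^ i5))) := by
    refine (Nat.Coprime.pow_right i1 (Nat.coprime_two_right.2 ht)).dvd_of_dvd_mul_left ?_
    refine htd.trans (dvd_of_eq ?_)
    ring
  refine lt_of_le_of_lt (Nat.le_of_dvd (by positivity) h6) ?_
  by_contra hcon
  rcases H i1 (by omega) i2 (by omega) i3 (by omega) i4 (by omega) i5 (by omega) with h | h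
  · exact h h10
  · have h11 := Nat.ble_eq_true_of_le (not_lt.1 hcon)
    rw [h11] at h
    exact absurd h (by decide)

theorem not31 (S : Sit p a b) (e : L ≃* Spor.J4) : ¬ 31 ∣ Nat.card ↥(fixedSubgroup a) := by
  intro hd
  have := S.good.simple
  have hf31 : Fact (Nat.Prime 31) := ⟨by norm_num⟩
  obtain ⟨c, h1, hle, h2⟩ := big S e (s := 31) (m := 2799211969228308480) (by norm_num) (by norm_num) (by norm_num) hd (by decide +kernel)
  have h3 : Nat.card ↥(centralizer ({c} : Set L)) ∣ 27 * 7 * 1331 * 31 := by
    refine card_dvd_list (R := 2 ^ 21 * 5 * 23 * 29 * 37 * 43) (by rw [card_eq e]; norm_num) [2, 5, 23, 29, 37, 43]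
      (fun r hr h => mem_of_dvd_prod (k := 21) (N := 2 ^ 21 * 5 * 23 * 29 * 37 * 43) (by decide +kernel) hr (by decide +kernel) h) ?_
    rw [h1]
    intro r hr
    simp only [List.mem_cons, List.not_mem_nil, or_false] at hr
    rcases hr with rfl | rfl | rfl | rfl | rfl | rfl
    exacts [n31_2 e, n31_5 e, n31_23 e, (n29_31 e).symm, (n37_31 e).symm, (n43_31 e).symm]
  -- the normalizer
  set N : Subgroup L := normalizer ((zpowers c : Subgroup L) : Set L) with hN
  have hcN : c ∈ N := le_normalizer (mem_zpowers c)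
  have hNd : Nat.card ↥N ∣ 30 * (27 * 7 * 1331 * 31) := by
    have hc' : orderOf (⟨c, hcN⟩ : ↥N) = 31 := by rw [Subgroup.orderOf_mk, h1]
    have hn : (zpowers (⟨c, hcN⟩ : ↥N)).Normal := by
      apply SylOne.zpowers_normal
      intro x
      have h4 : (x : L) * c * (x : L)⁻¹ ∈ zpowers c := (mem_normalizer_iff.1 x.2 c).1 (mem_zpowers c)
      obtain ⟨k, hk⟩ := mem_zpowers_iff.1 h4
      rw [mem_zpowers_iff]
      refine ⟨k, Subtype.ext ?_⟩
      simpa only [_root_.SubgroupClass.coe_zpow, _root_.Subgroup.coe_mul, _root_.InvMemClass.coe_inv] using hk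
    have h5 := SylOne.card_dvd_of_normal (by norm_num) hc'
    refine h5.trans (Nat.mul_dvd_mul_left _ (dvd_trans ?_ h3))
    have h6 : (centralizer ({(⟨c, hcN⟩ : ↥N)} : Set ↥N)).map N.subtype ≤ centralizer ({c} : Set L) := by
      rintro _ ⟨y, hy, rfl⟩
      apply mem_centralizer_singleton_iff.2
      exact congrArg Subtype.val (mem_centralizer_singleton_iff.1 hy)
    have h7 := Subgroup.card_dvd_of_le h6
    rwa [Subgroup.card_map_of_injective N.subtype_injective] at h7
  -- Sylow
  have hfac : 31 ^ (Nat.card L).factorization 31 = 31 := by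
    have h4 : (Nat.card L).factorization 31 = 1 := by
      rw [card_eq e, show (86775571046077562880 : ℕ) = 31 * 2799211969228308480 by norm_num, Nat.factorization_mul (by norm_num) (by norm_num)]
      show (31 : ℕ).factorization 31 + (2799211969228308480 : ℕ).factorization 31 = 1
      rw [Nat.factorization_eq_zero_of_not_dvd (by norm_num : ¬ 31 ∣ 2799211969228308480), Nat.Prime.factorization_self (by norm_num)]
    rw [h4, pow_one]
  let P : Sylow 31 L := Sylow.ofCard (zpowers c) (by rw [Nat.card_zpowers, h1, hfac])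
  have hP : ((P : Sylow 31 L) : Subgroup L) = zpowers c := rfl
  have h4 : Nat.card (Sylow 31 L) = N.index := by
    rw [P.card_eq_index_normalizer]
    rfl
  have h5 : N.index % 31 = 1 := by
    have h6 := card_sylow_modEq_one 31 L
    rw [h4] at h6
    exact h6
  have h6 := N.index_mul_card
  rw [card_eq e] at h6
  obtain ⟨N', hN'⟩ : 31 ∣ Nat.card ↥N := by
    rw [← h1, ← Subgroup.orderOf_mk (H := N) c hcN]
    exact _root_.orderOf_dvd_natCard _
  rw [hN'] at h6 hNd
  have h7 : N.index * N' = 2799211969228308480 := by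
    have h8 : 31 * (N.index * N') = 31 * 2799211969228308480 := by
      rw [show 31 * (N.index * N') = N.index * (31 * N') by ring, h6]
    omega
  have h8 : N' % 31 = 10 := by
    have h9 : (N.index * N') % 31 = 10 := by rw [h7]
    rw [Nat.mul_mod, h5, one_mul, Nat.mod_mod] at h9
    exact h9
  have h9 : N' ∣ 2 * (3 ^ 4 * (5 * (7 * 11 ^ 3))) := by
    have h10 : 31 * N' ∣ 31 * (2 * (3 ^ 4 * (5 * (7 * 11 ^ 3)))) := by
      refine hNd.trans (dvd_of_eq ?_)
      norm_num
    exact Nat.dvd_of_mul_dvd_mul_left (by norm_num) h10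
  have h10 := no31 h9 h8 S.odd (by rw [← hN']; exact Subgroup.card_dvd_of_le hle)
  have h11 := le_F S e
  omega

theorem not23 (S : Sit p a b) (e : L ≃* Spor.J4) : ¬ 23 ∣ Nat.card ↥(fixedSubgroup a) := by
  intro hd
  have := S.good.simple
  obtain ⟨c, h1, -, h2⟩ := big S e (s := 23) (m := 3772850915046850560) (by norm_num) (by norm_num) (by norm_num) hd (by decide +kernel)
  have h3 : Nat.card ↥(centralizer ({c} : Set L)) ∣ 2 ^ 21 * 27 * 5 * 7 * 23 := by
    refine card_dvd_list (R := 1331 * 29 * 31 * 37 * 43) (by rw [card_eq e]; norm_num) [11, 29, 31, 37, 43]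
      (fun r hr h => mem_of_dvd_prod (k := 3) (N := 1331 * 29 * 31 * 37 * 43) (by decide +kernel) hr (by decide +kernel) h) ?_
    rw [h1]
    intro r hr
    simp only [List.mem_cons, List.not_mem_nil, or_false] at hr
    rcases hr with rfl | rfl | rfl | rfl | rfl
    exacts [n23_11 e, (n29_23 e).symm, (n31_23 e).symm, (n37_23 e).symm, (n43_23 e).symm]
  have h4 : Nat.card ↥(fixedSubgroup a) ∣ 2 ^ 22 * (11 * 27 * 5 * 7 * 23) := by
    have h5 := h2.trans (Nat.mul_dvd_mul_left (23 - 1) h3)
    have h6 : (23 - 1) * (2 ^ 21 * 27 * 5 * 7 * 23) = 2 ^ 22 * (11 * 27 * 5 * 7 * 23) := by norm_num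
    rwa [h6] at h5
  exact contra S e h4 (by norm_num) (by norm_num)

end

/-- **The row of `J4`.** -/
theorem j4 {p : ℕ} [Finite L] {a : MulAut L} {b : L} (h : Spor.IsoJ4 L) (S : Sit p a b) : False := by
  obtain ⟨e⟩ := h
  have h1 : Nat.card ↥(fixedSubgroup a) ∣ (3 ^ 3 * 5 * 7 * 11 ^ 3) * (23 * 29 * 31 * 37 * 43) := by
    refine (card_F_dvd S e).trans (dvd_of_eq ?_)
    decide +kernel
  have hc : Nat.Coprime (Nat.card ↥(fixedSubgroup a)) (23 * 29 * 31 * 37 * 43) := by
    refine Nat.Coprime.mul_right (Nat.Coprime.mul_right (Nat.Coprime.mul_right (Nat.Coprime.mul_right ?_ ?_) ?_) ?_) ?_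
    · exact ((Nat.Prime.coprime_iff_not_dvd (by norm_num)).2 (not23 S e)).symm
    · exact ((Nat.Prime.coprime_iff_not_dvd (by norm_num)).2 (not29 S e)).symm
    · exact ((Nat.Prime.coprime_iff_not_dvd (by norm_num)).2 (not31 S e)).symm
    · exact ((Nat.Prime.coprime_iff_not_dvd (by norm_num)).2 (not37 S e)).symm
    · exact ((Nat.Prime.coprime_iff_not_dvd (by norm_num)).2 (not43 S e)).symm
  have h2 := hc.dvd_of_dvd_mul_right h1
  refine contra S e (j := 0) (m := 3 ^ 3 * 5 * 7 * 11 ^ 3) ?_ (by norm_num) (by norm_num)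
  rw [pow_zero, one_mul]
  exact h2

end Cfsg.Agent.H516.J4Row
end

-- part: H187/FiOdd/Three
section
/-!
# Rank three 3-transposition groups: elements all whose commutators are 3-elements (helper187, S4094/S3842)

`N` of index 2 in `G` not containing the transpositions. `no_three`: if `C_N(g)` has odd order, then some commutator
`[g, u]`, `u ∈ N`, is not a 3-element (hypotheses on the parameters as in `H711.SrgEven.even_cent`).

* `not_path` : the Coxeter element of a path of length four is not a 3-element;
* `no_adj` : `g` of odd order, all `[g, u]` (`u ∈ N`) 3-elements: `x` and `g • x` are never adjacent.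
-/

set_option autoImplicit false
set_option linter.unusedSectionVars false
set_option linter.unusedSimpArgs false

namespace Cfsg.Agent.H187.FiOdd

open Subgroup Cfsg.Agent.Fischer.Abstract Cfsg.Agent.LThreeM.SrgFix Cfsg.Agent.H711.SrgEven

/-- the order is a power of 3 -/
def P3 {G : Type*} [Group G] (w : G) : Prop := ∃ k : ℕ, orderOf w = 3 ^ k

section A4

variable {G : Type*} [Group G]

theorem P3.conj {w : G} (h : P3 w) (g : G) : P3 (g * w * g⁻¹) := by
  obtain ⟨k, hk⟩ := h
  refine ⟨k, ?_⟩
  rw [← hk]
  exact orderOf_injective (MulAut.conj g).toMonoidHom (MulAut.conj g).injective w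

theorem P3.eq_one {w : G} (h : P3 w) (h2 : w ^ 2 = 1) : w = 1 := by
  obtain ⟨k, hk⟩ := h
  have h1 : orderOf w ∣ Nat.gcd (3 ^ k) 2 := Nat.dvd_gcd (by rw [hk]) (orderOf_dvd_of_pow_eq_one h2)
  have h3 : Nat.gcd (3 ^ k) 2 = 1 := Nat.Coprime.pow_left k (by norm_num)
  rw [h3] at h1
  exact orderOf_eq_one_iff.1 (Nat.dvd_one.1 h1)

end A4

variable {G X : Type*} [Group G] [MulAction G X] (R : Rank3 G X)

variable {k l m : ℕ} {s : ℤ}

end Cfsg.Agent.H187.FiOdd
end

-- part: H472/FiThree
section
/-!
# Rank three 3-transposition groups: elements all whose commutators are trivial or of order divisible by 3 (helper472)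

The weak form of `H187.FiOdd.Three` (S4095): `N` of index 2 in `G` not containing the transpositions. `no_three`: if
`C_N(g)` has odd order, then some commutator `[g, u] ≠ 1`, `u ∈ N`, has order prime to 3.

* `path_pow` : the Coxeter element of a path of length four satisfies `w ^ 5 = 1`;
* `no_adj` : `g` of odd order: `x` and `g • x` are never adjacent.
-/

set_option autoImplicit false
set_option linter.unusedSectionVars false
set_option linter.unusedSimpArgs false

namespace Cfsg.Agent.H472.FiThree

open Subgroup Cfsg.Agent.Fischer.Abstract Cfsg.Agent.LThreeM.SrgFix Cfsg.Agent.H711.SrgEven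

/-- trivial or of order divisible by 3 -/
def W3 {G : Type*} [Group G] (w : G) : Prop := w = 1 ∨ 3 ∣ orderOf w

section A4

variable {G : Type*} [Group G]

theorem W3.conj {w : G} (h : W3 w) (g : G) : W3 (g * w * g⁻¹) := by
  rcases h with h | h
  · left
    rw [h]; group
  · right
    rwa [show orderOf (g * w * g⁻¹) = orderOf w from
      orderOf_injective (MulAut.conj g).toMonoidHom (MulAut.conj g).injective w]

theorem W3.eq_one {w : G} (h : W3 w) {n : ℕ} (hn : ¬ 3 ∣ n) (h2 : w ^ n = 1) : w = 1 := by
  rcases h with h | h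
  · exact h
  · exact absurd (h.trans (orderOf_dvd_of_pow_eq_one h2)) hn

/-- **A path of length four**: its Coxeter element has order 5. -/
theorem path_pow {a b c d : G} (ha : a * a = 1) (hb : b * b = 1) (hc : c * c = 1) (hd : d * d = 1)
    (hab : a * b * a = b * a * b) (hbc : b * c * b = c * b * c) (hcd : c * d * c = d * c * d)
    (hac : Commute a c) (had : Commute a d) (hbd : Commute b d) : (a * b * c * d) ^ 5 = 1 := by
  have ra : ∀ x : G, a * (a * x) = x := fun x => by rw [← mul_assoc, ha, one_mul]
  have rb : ∀ x : G, b * (b * x) = x := fun x => by rw [← mul_assoc, hb, one_mul]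
  have rc : ∀ x : G, c * (c * x) = x := fun x => by rw [← mul_assoc, hc, one_mul]
  have rd : ∀ x : G, d * (d * x) = x := fun x => by rw [← mul_assoc, hd, one_mul]
  have rca : ∀ x : G, c * (a * x) = a * (c * x) := fun x => by rw [← mul_assoc, ← hac.eq, mul_assoc]
  have rda : ∀ x : G, d * (a * x) = a * (d * x) := fun x => by rw [← mul_assoc, ← had.eq, mul_assoc]
  have rdb : ∀ x : G, d * (b * x) = b * (d * x) := fun x => by rw [← mul_assoc, ← hbd.eq, mul_assoc]
  have rbab : ∀ x : G, b * (a * (b * x)) = a * (b * (a * x)) := fun x => by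
    rw [← mul_assoc a b x, ← mul_assoc, ← mul_assoc, ← hab]; simp only [mul_assoc]
  have rcbc : ∀ x : G, c * (b * (c * x)) = b * (c * (b * x)) := fun x => by
    rw [← mul_assoc b c x, ← mul_assoc, ← mul_assoc, ← hbc]; simp only [mul_assoc]
  have rdcd : ∀ x : G, d * (c * (d * x)) = c * (d * (c * x)) := fun x => by
    rw [← mul_assoc c d x, ← mul_assoc, ← mul_assoc, ← hcd]; simp only [mul_assoc]
  have rcbac : ∀ x : G, c * (b * (a * (c * x))) = b * (c * (b * (a * x))) := fun x => by
    rw [← rca x, rcbc]
  have rdcbd : ∀ x : G, d * (c * (b * (d * x))) = c * (d * (c * (b * x))) := fun x => by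
    rw [← rdb x, rdcd]
  have rdcbad : ∀ x : G, d * (c * (b * (a * (d * x)))) = c * (d * (c * (b * (a * x)))) := fun x => by
    rw [← rda x, rdcbd]
  have h : (a * b * c * d) ^ 5 * 1 = 1 := by
    simp only [pow_succ, pow_zero, one_mul, mul_assoc, ra, rb, rc, rd, rca, rda, rdb, rbab, rcbc, rdcd, rcbac, rdcbd,
      rdcbad]
  rwa [mul_one] at h

/-- **A path of length four**: its Coxeter element is not trivial or of order divisible by 3. -/
theorem not_path {a b c d : G} (ha : a * a = 1) (hb : b * b = 1) (hc : c * c = 1) (hd : d * d = 1)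
    (hab : a * b * a = b * a * b) (hbc : b * c * b = c * b * c) (hcd : c * d * c = d * c * d)
    (hac : Commute a c) (had : Commute a d) (hbd : Commute b d) (hne : a ≠ b) : ¬ W3 (a * b * c * d) := by
  intro h
  have h1 := h.eq_one (n := 5) (by norm_num) (path_pow ha hb hc hd hab hbc hcd hac had hbd)
  -- `a b = d c`
  have h2 : a * b = d * c := by
    have h3 : a * b * (c * d) = 1 := by rw [← h1]; group
    have h4 : (c * d)⁻¹ = d * c := by
      rw [mul_inv_rev, inv_eq_of_mul_eq_one_left hd, inv_eq_of_mul_eq_one_left hc]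
    rw [← h4]
    exact eq_inv_of_mul_eq_one_left h3
  -- `a` commutes with `d c = a b`, hence with `b`
  have h3 : Commute a (d * c) := had.mul_right hac
  rw [← h2] at h3
  have h4 : Commute a b := by
    have h5 : Commute a (a⁻¹ * (a * b)) := ((Commute.refl a).inv_right).mul_right h3
    rwa [inv_mul_cancel_left] at h5
  apply hne
  have h5 : a * b * a = b := by rw [h4.eq, mul_assoc, ha, mul_one]
  have h6 : b * a * b = a := by rw [← h4.eq, mul_assoc, hb, mul_one]
  rw [← h6, ← hab, h5]

end A4

variable {G X : Type*} [Group G] [MulAction G X] (R : Rank3 G X)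

/-- **The pattern argument**: no point is adjacent to its image under `g`. -/
theorem no_adj {g : G} (hgo : Odd (orderOf g)) (N : Subgroup G)
    (hNmul : ∀ a b : X, R.t a * R.t b ∈ N)
    (hP : ∀ u ∈ N, W3 (g * u * g⁻¹ * u⁻¹))
    (key : ∀ u ∈ N, Commute g u → u * u = 1 → u = 1) (x : X) : ¬ Adj R x (g • x) := by
  rintro ⟨hne, hcom⟩
  set n := MulAction.period g x with hn
  have hodd : Odd n := hgo.of_dvd_nat (MulAction.period_dvd_orderOf g x)
  have hn1 : n ≠ 1 := by
    intro h
    apply hne
    have h1 := (MulAction.pow_smul_eq_iff_period_dvd (n := 1) (m := g) (a := x)).2 (by rw [← hn, h])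
    rw [pow_one] at h1
    exact h1.symm
  have hdist : ∀ i j : ℕ, i < j → j < n → g ^ i • x ≠ g ^ j • x := by
    intro i j hij hjn h
    have h1 : g ^ (j - i) • x = x := by
      have h2 : g ^ j • x = g ^ i • g ^ (j - i) • x := by
        rw [← mul_smul, ← pow_add, Nat.add_sub_cancel' hij.le]
      rw [h2] at h
      exact ((MulAction.injective (g ^ i)) h).symm
    have h2 := MulAction.pow_smul_eq_iff_period_dvd.1 h1
    have h3 := Nat.le_of_dvd (by omega) h2
    omega
  have hshift : ∀ i j : ℕ, R.Com (g ^ i • x) (g ^ (i + j) • x) ↔ R.Com x (g ^ j • x) := by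
    intro i j
    rw [pow_add, mul_smul, R.com_smul]
  have ht : ∀ i : ℕ, R.t (g ^ (i + 1) • x) = g * R.t (g ^ i • x) * g⁻¹ := by
    intro i
    rw [pow_succ', mul_smul, R.map_smul]
  have hW : ∀ k : ℕ, W3 (R.t (g ^ 1 • x) * R.t (g ^ (k + 1) • x) * R.t (g ^ k • x) * R.t (g ^ 0 • x)) := by
    intro k
    have h1 := hP (R.t (g ^ 0 • x) * R.t (g ^ k • x)) (hNmul _ _)
    rw [mul_inv_rev, R.t_inv, R.t_inv] at h1
    have h2 : g * (R.t (g ^ 0 • x) * R.t (g ^ k • x)) * g⁻¹ * (R.t (g ^ k • x) * R.t (g ^ 0 • x)) =
        R.t (g ^ 1 • x) * R.t (g ^ (k + 1) • x) * R.t (g ^ k • x) * R.t (g ^ 0 • x) := by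
      rw [ht k, ht 0]
      group
    rwa [h2] at h1
  have hs1 : R.Com x (g ^ 1 • x) := by rw [pow_one]; exact hcom
  have e0 : g ^ 0 • x = x := by rw [pow_zero, one_smul]
  have claim : ∀ k : ℕ, 1 ≤ k → k < n → (R.Com x (g ^ k • x) ↔ Odd k) := by
    intro k
    induction k using Nat.strong_induction_on with
    | _ k ih =>
      intro hk1 hkn
      rcases Nat.lt_or_ge k 3 with hlt | hge
      · interval_cases k
        · exact ⟨fun _ => ⟨0, rfl⟩, fun _ => hs1⟩
        · refine ⟨fun h => ?_, fun h => absurd h (by decide)⟩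
          exfalso
          have h0 := hW 1
          have c12 : R.Com (g ^ 1 • x) (g ^ (1 + 1) • x) := (hshift 1 1).2 hs1
          have h1 : R.t (g ^ 1 • x) * R.t (g ^ (1 + 1) • x) * R.t (g ^ 1 • x) * R.t (g ^ 0 • x) =
              R.t (g ^ 2 • x) * R.t (g ^ 0 • x) := by
            rw [show R.t (g ^ 1 • x) * R.t (g ^ (1 + 1) • x) = R.t (g ^ (1 + 1) • x) * R.t (g ^ 1 • x) from c12,
              mul_assoc (R.t (g ^ (1 + 1) • x)), R.sq', mul_one]
          rw [h1] at h0
          have c02 : R.t (g ^ 0 • x) * R.t (g ^ 2 • x) = R.t (g ^ 2 • x) * R.t (g ^ 0 • x) := by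
            rw [pow_zero, one_smul]; exact h
          have h2 := h0.eq_one (n := 2) (by norm_num) (by
            rw [pow_two]
            calc R.t (g ^ 2 • x) * R.t (g ^ 0 • x) * (R.t (g ^ 2 • x) * R.t (g ^ 0 • x))
                = R.t (g ^ 2 • x) * (R.t (g ^ 0 • x) * R.t (g ^ 2 • x)) * R.t (g ^ 0 • x) := by group
              _ = (R.t (g ^ 2 • x) * R.t (g ^ 2 • x)) * (R.t (g ^ 0 • x) * R.t (g ^ 0 • x)) := by rw [c02]; group
              _ = 1 := by rw [R.sq', R.sq', one_mul])
          rw [mul_eq_one_iff_eq_inv, R.t_inv] at h2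
          exact hdist 0 2 (by norm_num) hkn (R.t_inj.1 h2).symm
      · -- `k = q + 2`, `q ≥ 1`
        obtain ⟨m, rfl⟩ : ∃ m, k = m + 1 := ⟨k - 1, by omega⟩
        obtain ⟨q, rfl⟩ : ∃ q, m = q + 1 := ⟨m - 1, by omega⟩
        have i1 := ih (q + 1) (by omega) (by omega) (by omega)
        have i2 := ih q (by omega) (by omega) (by omega)
        by_cases hq : Odd (q + 1)
        · -- `s (q+1) = C`, `s q = N`; want `s (q+2) = N`
          have hq' : ¬ Odd q := by
            intro h; exact (Nat.not_even_iff_odd.2 hq) (h.add_one)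
          have hq2 : ¬ Odd (q + 1 + 1) := by
            intro h; exact (Nat.not_even_iff_odd.2 h) (hq.add_one)
          refine ⟨fun h => ?_, fun h => absurd h hq2⟩
          exfalso
          have hqge : 2 ≤ q := by
            rcases Nat.lt_or_ge q 2 with h1 | h1
            · exfalso
              have h2 : q = 1 := by omega
              subst h2
              exact hq' (by decide)
            · exact h1
          have i3 := ih 3 (by omega) (by norm_num) (by omega)
          -- `q + 3 < n`
          have hlt3 : q + 3 < n := by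
            rcases Nat.lt_or_ge (q + 3) n with h1 | h1
            · exact h1
            · exfalso
              have hn3 : n = q + 3 := by omega
              have i4 := ih 2 (by omega) (by norm_num) (by omega)
              have h2 : ¬ R.Com x (g ^ 2 • x) := fun h => absurd (i4.1 h) (by decide)
              apply h2
              have h5 : R.Com (g ^ 2 • x) (g ^ (2 + (q + 1)) • x) := (hshift 2 (q + 1)).2 (i1.2 hq)
              have h6 : g ^ (2 + (q + 1)) • x = x := by
                rw [show 2 + (q + 1) = n by omega, hn, MulAction.pow_period_smul]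
              rw [h6] at h5
              exact R.com_symm h5
          have sq : ∀ i : ℕ, R.t (g ^ i • x) * R.t (g ^ i • x) = 1 := fun i => R.sq' _
          -- commuting pairs
          have cc : ∀ i j : ℕ, R.Com x (g ^ j • x) → Commute (R.t (g ^ i • x)) (R.t (g ^ (i + j) • x)) :=
            fun i j h => (hshift i j).2 h
          have sm1 : R.Com x (g ^ (q + 1) • x) := i1.2 hq
          have c0m1 := cc 0 (q + 2) h
          have c1m2 := cc 1 (q + 2) h
          have c1m1 := cc 1 (q + 1) sm1
          have c0m := cc 0 (q + 1) sm1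
          have cmm1 := cc (q + 1) 1 hs1
          have cm1m2 := cc (q + 2) 1 hs1
          have c01 := cc 0 1 hs1
          rw [zero_add] at c0m1 c0m c01
          rw [show 1 + (q + 2) = q + 3 by ring] at c1m2
          rw [show 1 + (q + 1) = q + 2 by ring] at c1m1
          rw [show q + 1 + 1 = q + 2 by ring] at cmm1
          rw [show q + 2 + 1 = q + 3 by ring] at cm1m2
          -- `s (q+3) = N`
          have hs3 : ¬ R.Com x (g ^ (q + 3) • x) := by
            intro hc
            have c0m2 := cc 0 (q + 3) hc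
            rw [zero_add] at c0m2
            have hw := hW (q + 2)
            rw [show q + 2 + 1 = q + 3 by ring] at hw
            set A := R.t (g ^ 1 • x) with hA
            set B := R.t (g ^ (q + 3) • x) with hB
            set C := R.t (g ^ (q + 2) • x) with hC
            set D := R.t (g ^ 0 • x) with hD
            have sA : A * A = 1 := sq 1
            have sB : B * B = 1 := sq _
            have sC : C * C = 1 := sq _
            have sD : D * D = 1 := sq _
            have kAB : Commute A B := c1m2
            have kAC : Commute A C := c1m1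
            have kDA : Commute D A := c01
            have kDC : Commute D C := c0m1
            have kDB : Commute D B := c0m2
            have kCB : Commute C B := cm1m2
            have hAB2 : (A * B) ^ 2 = 1 := by rw [kAB.mul_pow, pow_two, pow_two, sA, sB, one_mul]
            have hCD2 : (C * D) ^ 2 = 1 := by rw [kDC.symm.mul_pow, pow_two, pow_two, sC, sD, one_mul]
            have hcm : Commute (A * B) (C * D) :=
              ((kAC.mul_right kDA.symm).mul_left (kCB.symm.mul_right kDB.symm))
            have h1 : A * B * C * D = 1 := hw.eq_one (n := 2) (by norm_num) (by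
              rw [mul_assoc (A * B), hcm.mul_pow, hAB2, hCD2, one_mul])
            -- `C D = B A` commutes with `g`
            have h2 : C * D = B * A := by
              have h3 : (A * B) * (C * D) = 1 := by rw [← h1]; group
              have h4 := eq_inv_of_mul_eq_one_right h3
              rw [mul_inv_rev, inv_eq_of_mul_eq_one_left sA, inv_eq_of_mul_eq_one_left sB] at h4
              exact h4
            have h3 : Commute g (C * D) := by
              have h4 : g * (C * D) * g⁻¹ = B * A := by
                have h5 : B = g * C * g⁻¹ := ht (q + 2)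
                have h6 : A = g * D * g⁻¹ := ht 0
                rw [h5, h6]
                group
              rw [← h2] at h4
              exact mul_inv_eq_iff_eq_mul.1 h4
            have h5 := key (C * D) (hNmul _ _) h3 (by rw [← pow_two]; exact hCD2)
            rw [mul_eq_one_iff_eq_inv, hD, R.t_inv] at h5
            exact hdist 0 (q + 2) (by omega) (by omega) (R.t_inj.1 h5).symm
          -- the commutator with `d_{q+2} d_q d_0 d_{q+1}`
          have hNN : R.t (g ^ (q + 2) • x) * R.t (g ^ q • x) * (R.t (g ^ 0 • x) * R.t (g ^ (q + 1) • x)) ∈ N :=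
            mul_mem (hNmul _ _) (hNmul _ _)
          have hw := (hP _ hNN).conj (R.t (g ^ (q + 2) • x))
          have c0m2n : ¬ R.Com (g ^ (q + 3) • x) (g ^ 0 • x) := by
            rw [e0]; exact fun h' => hs3 (R.com_symm h')
          have c0qn : ¬ R.Com (g ^ 0 • x) (g ^ q • x) := by
            rw [e0]; exact fun h' => hq' (i2.1 h')
          have c1qn : ¬ R.Com (g ^ 1 • x) (g ^ (q + 1) • x) := by
            rw [show q + 1 = 1 + q by ring]
            exact fun h' => hq' (i2.1 ((hshift 1 q).1 h'))
          have ih2 := ih 2 (by omega) (by norm_num) (by omega)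
          have cmm2n : ¬ R.Com (g ^ (q + 1) • x) (g ^ (q + 3) • x) := by
            rw [show q + 3 = (q + 1) + 2 by ring]
            exact fun h' => absurd (ih2.1 ((hshift (q + 1) 2).1 h')) (by decide)
          have cqm2 := cc q 3 (i3.2 (by decide))
          have cqm := cc q 1 hs1
          have c1q : Commute (R.t (g ^ 1 • x)) (R.t (g ^ q • x)) := by
            have h1 := cc 1 (q - 1) ((ih (q - 1) (by omega) (by omega) (by omega)).2 (by
              rcases Nat.even_or_odd (q - 1) with h2 | h2
              · exfalso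
                apply hq'
                have := h2.add_one
                rwa [Nat.sub_add_cancel (by omega)] at this
              · exact h2))
            rwa [show 1 + (q - 1) = q by omega] at h1
          set d0 := R.t (g ^ 0 • x) with hd0
          set d1 := R.t (g ^ 1 • x) with hd1
          set dq := R.t (g ^ q • x) with hdq
          set dm := R.t (g ^ (q + 1) • x) with hdm
          set e := R.t (g ^ (q + 2) • x) with he
          set f := R.t (g ^ (q + 3) • x) with hf
          have s0 : d0 * d0 = 1 := R.sq' _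
          have s1 : d1 * d1 = 1 := R.sq' _
          have sq' : dq * dq = 1 := R.sq' _
          have sm : dm * dm = 1 := R.sq' _
          have se : e * e = 1 := R.sq' _
          have sf : f * f = 1 := R.sq' _
          have hge : g * e * g⁻¹ = f := (ht (q + 2)).symm
          have hgq : g * dq * g⁻¹ = dm := (ht q).symm
          have hg0 : g * d0 * g⁻¹ = d1 := (ht 0).symm
          have hgm : g * dm * g⁻¹ = e := (ht (q + 1)).symm
          have ie : e⁻¹ = e := R.t_inv _
          have iq : dq⁻¹ = dq := R.t_inv _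
          have im : dm⁻¹ = dm := R.t_inv _
          have i0 : d0⁻¹ = d0 := R.t_inv _
          have hcomp : e * (g * (e * dq * (d0 * dm)) * g⁻¹ * (e * dq * (d0 * dm))⁻¹) * e⁻¹ =
              f * (dm * d1 * dm) * d0 * dq := by
            have k1 : Commute e f := cm1m2
            have k2 : Commute dm e := cmm1
            have k3 : Commute d1 e := c1m1
            have h1 : g * (e * dq * (d0 * dm)) * g⁻¹ = f * dm * (d1 * e) := by
              calc g * (e * dq * (d0 * dm)) * g⁻¹
                  = (g * e * g⁻¹) * (g * dq * g⁻¹) * ((g * d0 * g⁻¹) * (g * dm * g⁻¹)) := by group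
                _ = f * dm * (d1 * e) := by rw [hge, hgq, hg0, hgm]
            have h2 : (e * dq * (d0 * dm))⁻¹ = dm * d0 * (dq * e) := by
              rw [mul_inv_rev, mul_inv_rev, mul_inv_rev, ie, iq, im, i0]
            rw [h1, h2, ie]
            have k4 : Commute e (f * dm * d1) := (k1.mul_right k2.symm).mul_right k3.symm
            calc e * (f * dm * (d1 * e) * (dm * d0 * (dq * e))) * e
                = (e * (f * dm * d1)) * e * dm * d0 * dq * (e * e) := by group
              _ = ((f * dm * d1) * e) * e * dm * d0 * dq := by rw [k4.eq, se, mul_one]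
              _ = (f * dm * d1) * (e * e) * dm * d0 * dq := by group
              _ = f * (dm * d1 * dm) * d0 * dq := by rw [se]; group
          rw [hcomp] at hw
          -- `f' = dm d1 dm` is a transposition
          set y := R.t (g ^ (q + 1) • x) • (g ^ 1 • x) with hy
          have hfy : R.t y = dm * d1 * dm := by
            rw [hy, R.map_smul, ← hdm, ← hd1, im]
          have ky0 : Commute (R.t y) d0 := by
            rw [hfy]
            have k5 : Commute dm d0 := c0m.symm
            have k6 : Commute d1 d0 := c01.symm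
            exact (k5.mul_left k6).mul_left k5
          have kyq : Commute (R.t y) dq := by
            rw [hfy]
            have k5 : Commute dm dq := cqm.symm
            have k6 : Commute d1 dq := c1q
            exact (k5.mul_left k6).mul_left k5
          have nyf : ¬ R.Com y (g ^ (q + 3) • x) := by
            intro h1
            have h2 : Commute (R.t y) f := h1
            rw [hfy] at h2
            -- `f dm f = dm f dm`, `d1 f = f d1`
            have hb : dm * f * dm = f * dm * f := (R.com_or_braid _ _).resolve_left cmm2n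
            have h3 : Commute d1 (dm * f * dm) := by
              show d1 * (dm * f * dm) = dm * f * dm * d1
              have h4 : dm * (dm * d1 * dm * f) * dm = dm * (f * (dm * d1 * dm)) * dm := by rw [h2.eq]
              calc d1 * (dm * f * dm) = (dm * dm) * d1 * dm * f * dm := by rw [sm]; group
                _ = dm * (dm * d1 * dm * f) * dm := by group
                _ = dm * (f * (dm * d1 * dm)) * dm := h4
                _ = dm * f * dm * d1 * (dm * dm) := by group
                _ = dm * f * dm * d1 := by rw [sm, mul_one]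
            rw [hb] at h3
            have h5 : Commute d1 f := c1m2
            have h6 : Commute d1 dm := by
              have h7 : Commute d1 (f⁻¹ * (f * dm * f) * f⁻¹) := (h5.inv_right.mul_right h3).mul_right h5.inv_right
              have h8 : f⁻¹ * (f * dm * f) * f⁻¹ = dm := by group
              rwa [h8] at h7
            exact c1qn h6
          have hwc := hw.conj (R.t y)
          refine not_path (R.sq' y) sf s0 sq' ((R.com_or_braid _ _).resolve_left nyf)
            ((R.com_or_braid _ _).resolve_left c0m2n) ((R.com_or_braid _ _).resolve_left c0qn) ky0 kyq cqm2.symm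
            (fun h1 => nyf (by
              show R.t y * R.t (g ^ (q + 3) • x) = R.t (g ^ (q + 3) • x) * R.t y
              rw [h1])) ?_
          rw [R.t_inv, ← hfy] at hwc
          have h9 : R.t y * (f * R.t y * d0 * dq) * R.t y = R.t y * f * d0 * dq := by
            have h10 : Commute (R.t y) (d0 * dq) := ky0.mul_right kyq
            calc R.t y * (f * R.t y * d0 * dq) * R.t y = R.t y * f * (R.t y * (d0 * dq)) * R.t y := by group
              _ = R.t y * f * ((d0 * dq) * R.t y) * R.t y := by rw [h10.eq]
              _ = R.t y * f * d0 * dq * (R.t y * R.t y) := by group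
              _ = R.t y * f * d0 * dq := by rw [R.sq', mul_one]
          rwa [h9] at hwc
        · -- `s (q+1) = N`, `s q = C`; want `s (q+2) = C`
          have hq' : Odd q := by
            by_contra h
            exact hq ((Nat.not_odd_iff_even.1 h).add_one)
          have hq2 : Odd (q + 1 + 1) := (Nat.not_odd_iff_even.1 hq).add_one
          have hw := hW (q + 1)
          have eAB : R.Com (g ^ 1 • x) (g ^ (q + 1 + 1) • x) ↔ R.Com x (g ^ (q + 1) • x) := by
            rw [show q + 1 + 1 = 1 + (q + 1) by ring]; exact hshift 1 (q + 1)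
          have eAC : R.Com (g ^ 1 • x) (g ^ (q + 1) • x) ↔ R.Com x (g ^ q • x) := by
            rw [show q + 1 = 1 + q by ring]; exact hshift 1 q
          have cBC : R.Com (g ^ (q + 1) • x) (g ^ (q + 1 + 1) • x) := (hshift (q + 1) 1).2 hs1
          have cAD : R.Com (g ^ 0 • x) (g ^ 1 • x) := by rw [e0]; exact hs1
          have nAB : g ^ 1 • x ≠ g ^ (q + 1 + 1) • x := hdist 1 (q + 1 + 1) (by omega) hkn
          refine ⟨fun _ => hq2, fun _ => ?_⟩
          by_contra h
          have nCD : ¬ R.Com (g ^ 0 • x) (g ^ (q + 1) • x) := by rw [e0]; exact fun h => hq (i1.1 h)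
          have nAB' : ¬ R.Com (g ^ 1 • x) (g ^ (q + 1 + 1) • x) := fun h => hq (i1.1 (eAB.1 h))
          have cAC := eAC.2 (i2.2 hq')
          have nBD' : ¬ R.Com (g ^ (q + 1 + 1) • x) (g ^ 0 • x) := by
            rw [e0]; exact fun h' => h (R.com_symm h')
          have bAB := (R.com_or_braid _ _).resolve_left nAB'
          have bBD := (R.com_or_braid _ _).resolve_left nBD'
          have bDC := (R.com_or_braid _ _).resolve_left nCD
          refine not_path (R.sq' _) (R.sq' _) (R.sq' _) (R.sq' _) bAB bBD bDC (Eq.symm cAD) cAC (Eq.symm cBC)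
            (fun h => nAB (R.t_inj.1 h)) ?_
          have h7 := hw.conj (R.t (g ^ (q + 1) • x))
          convert h7 using 1
          rw [R.t_inv]
          have kCA : Commute (R.t (g ^ (q + 1) • x)) (R.t (g ^ 1 • x)) := Eq.symm cAC
          have kCB : Commute (R.t (g ^ (q + 1) • x)) (R.t (g ^ (q + 1 + 1) • x)) := cBC
          have sC : R.t (g ^ (q + 1) • x) * R.t (g ^ (q + 1) • x) = 1 := R.sq' _
          set A := R.t (g ^ 1 • x) with hA
          set B := R.t (g ^ (q + 1 + 1) • x) with hB
          set C := R.t (g ^ (q + 1) • x) with hC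
          set D := R.t (g ^ 0 • x) with hD
          calc A * B * D * C = (A * B) * (C * C) * D * C := by rw [sC, mul_one]
            _ = (A * B * C) * C * D * C := by group
            _ = (C * (A * B)) * C * D * C := by rw [(kCA.mul_right kCB).eq]
            _ = C * (A * B * C * D) * C := by group
  -- the end
  have h3 : 3 ≤ n := by
    obtain ⟨q, hq⟩ := hodd
    omega
  have h4 := (claim (n - 1) (by omega) (by omega)).1 (by
    have h5 : R.Com (g • x) (g • g ^ (n - 1) • x) := by
      rw [← mul_smul, ← pow_succ', show n - 1 + 1 = n by omega, hn, MulAction.pow_period_smul]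
      exact R.com_symm hcom
    exact (R.com_smul g _ _).1 h5)
  obtain ⟨q, hq⟩ := hodd
  obtain ⟨q', hq'⟩ := h4
  omega

variable {k l m : ℕ} {s : ℤ}

/-- **Some commutator is nontrivial of order prime to 3.** -/
theorem no_three [Finite G] [Finite X] (hk : (nb R R.x0).ncard = k) (hl : (cn R R.x0 R.c).ncard = l)
    (hm : (cn R R.x0 R.b).ncard = m) (hs : s * s = ((l : ℤ) - m) * s + ((k : ℤ) - m))
    (ha : (l : ℤ) - m - 2 * s ≠ 0) (hd : ¬ ((l : ℤ) - m - 2 * s) ∣ ((k : ℤ) - s))
    (h2a : (2 : ℤ) ∣ (l : ℤ) - m - 2 * s) (h2k : (2 : ℤ) ∣ (k : ℤ) - s) (hs1 : Odd s)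
    (N : Subgroup G) (hN : N.index = 2) (hN' : ∀ x, R.t x ∉ N) {g : G}
    (hodd : Odd (Nat.card ↥(centralizer ({g} : Set G) ⊓ N : Subgroup G)))
    (hP : ∀ u ∈ N, W3 (g * u * g⁻¹ * u⁻¹)) : False := by
  -- an involution of `C(g) ∩ N` is trivial
  have key : ∀ u ∈ N, Commute g u → u * u = 1 → u = 1 := by
    intro u hu hgu huu
    have hmem : u ∈ (centralizer ({g} : Set G) ⊓ N : Subgroup G) :=
      ⟨mem_centralizer_singleton_iff.2 hgu.eq.symm, hu⟩
    have h1 : orderOf (⟨u, hmem⟩ : ↥(centralizer ({g} : Set G) ⊓ N : Subgroup G)) ∣ 2 :=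
      orderOf_dvd_of_pow_eq_one (Subtype.ext (by rw [SubgroupClass.coe_pow]; exact (pow_two u).trans huu))
    have h2 := _root_.orderOf_dvd_natCard (⟨u, hmem⟩ : ↥(centralizer ({g} : Set G) ⊓ N : Subgroup G))
    have h3 : orderOf (⟨u, hmem⟩ : ↥(centralizer ({g} : Set G) ⊓ N : Subgroup G)) = 1 := by
      rcases (Nat.dvd_prime Nat.prime_two).1 h1 with h | h
      · exact h
      · exfalso
        rw [h] at h2
        exact (Nat.not_even_iff_odd.2 hodd) (even_iff_two_dvd.2 h2)
    exact congrArg Subtype.val (orderOf_eq_one_iff.1 h3)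
  have hNmul : ∀ a b : G, a ∉ N → b ∉ N → a * b ∈ N := by
    intro a b h1 h2
    by_contra h3
    exact h3 ((Subgroup.mul_mem_iff_of_index_two hN).2 ⟨fun h => absurd h h1, fun h => absurd h h2⟩)
  set F : Set X := {x | g • x = x} with hF
  set M : Set X := {x | Adj R x (g • x)} with hM
  -- no adjacent pairs
  have hM0 : M = ∅ := by
    rw [Set.eq_empty_iff_forall_notMem]
    intro x hx
    have hx' : Adj R x (g • x) := hx
    by_cases hA : ∃ τ : G, τ ∉ N ∧ Commute g τ
    · obtain ⟨τ, hτ, hgτ⟩ := hA
      have h1 := hP (R.t x * τ) (hNmul _ _ (hN' x) hτ)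
      have h2 : g * (R.t x * τ) * g⁻¹ * (R.t x * τ)⁻¹ = R.t (g • x) * R.t x := by
        rw [R.map_smul]
        have h3 : τ * g⁻¹ = g⁻¹ * τ := hgτ.symm.inv_right.eq
        calc g * (R.t x * τ) * g⁻¹ * (R.t x * τ)⁻¹ = g * R.t x * (τ * g⁻¹) * τ⁻¹ * (R.t x)⁻¹ := by group
          _ = g * R.t x * g⁻¹ * (R.t x)⁻¹ := by rw [h3]; group
          _ = g * R.t x * g⁻¹ * R.t x := by rw [R.t_inv]
      rw [h2] at h1
      have h4 : R.t x * R.t (g • x) = R.t (g • x) * R.t x := hx'.2
      have h5 := h1.eq_one (n := 2) (by norm_num) (by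
        calc (R.t (g • x) * R.t x) ^ 2 = R.t (g • x) * (R.t x * R.t (g • x)) * R.t x := by rw [pow_two]; group
          _ = (R.t (g • x) * R.t (g • x)) * (R.t x * R.t x) := by rw [h4]; group
          _ = 1 := by rw [R.sq', R.sq', one_mul])
      rw [mul_eq_one_iff_eq_inv, R.t_inv] at h5
      exact hx'.1 (R.t_inj.1 h5).symm
    · push Not at hA
      have hgo : Odd (orderOf g) := by
        have hle : centralizer ({g} : Set G) ≤ N := by
          intro τ hτ
          by_contra h
          exact hA τ h (Commute.symm (mem_centralizer_singleton_iff.1 hτ))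
        rw [inf_eq_left.2 hle] at hodd
        have h1 : g ∈ centralizer ({g} : Set G) := mem_centralizer_singleton_iff.2 rfl
        have h2 := _root_.orderOf_dvd_natCard (⟨g, h1⟩ : ↥(centralizer ({g} : Set G)))
        rw [← Subgroup.orderOf_coe] at h2
        exact hodd.of_dvd_nat h2
      exact no_adj R hgo N (fun y z => hNmul _ _ (hN' y) (hN' z)) hP key x hx'
  obtain ⟨z, hz⟩ := count R hk hl hm hs ha (n := orderOf g) (orderOf_pos g) (pow_orderOf_eq_one g)
  rw [← hF, ← hM, hM0, Set.ncard_empty] at hz
  by_cases hA : F.Nonempty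
  · obtain ⟨x0, hx0⟩ := hA
    have hgx : Commute g (R.t x0) := (fix_iff R g x0).1 hx0
    have hsq : R.t x0 * R.t x0 = 1 := R.sq' _
    have a1 : F.ncard ≡ ({x | x ∈ F ∧ R.t x0 • x = x} : Set X).ncard [MOD 2] := by
      refine modEq_fix F (fun x => R.t x0 • x) (fun x hx => ?_) (fun x _ => ?_)
      · show g • R.t x0 • x = R.t x0 • x
        rw [← mul_smul, hgx.eq, mul_smul, show g • x = x from hx]
      · show R.t x0 • R.t x0 • x = x
        rw [← mul_smul, hsq, one_smul]
    have e1 : ({x | x ∈ F ∧ R.t x0 • x = x} : Set X) = {x0} := by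
      ext y
      constructor
      · rintro ⟨hy, hy2⟩
        have hgy : Commute g (R.t y) := (fix_iff R g y).1 hy
        have hc : Commute (R.t x0) (R.t y) := (fix_iff R _ _).1 hy2
        have h1 := key (R.t x0 * R.t y) (hNmul _ _ (hN' _) (hN' _)) (hgx.mul_right hgy) (by
          calc R.t x0 * R.t y * (R.t x0 * R.t y) = R.t x0 * (R.t y * R.t x0) * R.t y := by group
            _ = (R.t x0 * R.t x0) * (R.t y * R.t y) := by rw [← hc.eq]; group
            _ = 1 := by rw [R.sq', R.sq', one_mul])
        rw [mul_eq_one_iff_eq_inv, R.t_inv] at h1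
        exact (R.t_inj.1 h1).symm
      · rintro rfl
        exact ⟨hx0, (fix_iff R _ _).2 (Commute.refl _)⟩
    rw [e1, Set.ncard_singleton] at a1
    have o1 : Odd (F.ncard : ℤ) := by
      have : Odd F.ncard := Nat.odd_iff.2 a1
      exact_mod_cast this
    have h1 : (2 : ℤ) ∣ s * (F.ncard : ℤ) := by
      have h2 : s * (F.ncard : ℤ) = -(((k : ℤ) - s) + ((l : ℤ) - m - 2 * s) * z) := by
        rw [← hz]; push_cast; ring
      rw [h2]
      exact (dvd_add h2k (h2a.mul_right z)).neg_right
    exact (Int.not_even_iff_odd.2 (hs1.mul o1)) (even_iff_two_dvd.2 h1)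
  · rw [Set.not_nonempty_iff_eq_empty] at hA
    apply hd
    rw [hA, Set.ncard_empty] at hz
    refine ⟨-z, ?_⟩
    push_cast at hz
    linarith only [hz]

end Cfsg.Agent.H472.FiThree
end

-- part: H472/FiThreeRow
section
/-!
# S4095: the row `Fi24'`, `p = 3`, weak form (helper472)

`row` : no automorphism `a` of `Fi24'` with `|C(a)|` odd has all commutators `(a x)⁻¹ * x` trivial or of order divisible
by 3.
-/

set_option autoImplicit false

namespace Cfsg.Agent.H472.FiThree

open Cfsg Cfsg.Agent.H516 Subgroup Cfsg.Agent.R08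
open Cfsg.Spor (Fi24)

universe u

theorem no_three_fi24 {g : Fi24} (hodd : Odd (Nat.card ↥(centralizer ({g} : Set Fi24) ⊓ commutator Fi24 : Subgroup Fi24)))
    (hP : ∀ u ∈ commutator Fi24, W3 (g * u * g⁻¹ * u⁻¹)) : False := by
  have := FiTwentyFour.finite_Fi24
  obtain ⟨R, -, -, hR⟩ := FiTwentyFour.facts.exists_rank3
  have hfin : Finite (Fi24 ⧸ Cfsg.Agent.Fischer.Fi24RepOrb.H) := inferInstance
  refine no_three R (H711.FiEven.nb_card R hR) (H711.FiEven.cn_card R hR) (H711.FiEven.cb_card R hR) (s := -81)
    (by norm_num) (by norm_num) (by norm_num) (by norm_num) (by norm_num) ⟨-41, by norm_num⟩ (_root_.commutator Fi24)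
    FiTwentyFour.index_commutator (fun x hx => ?_) hodd hP
  have h1 : _root_.Subgroup.closure (Set.range R.t) ≤ commutator Fi24 := by
    rw [closure_le]
    rintro _ ⟨y, rfl⟩
    obtain ⟨a, ha⟩ := R.trans x
    obtain ⟨b, hb⟩ := R.trans y
    have h2 : y = (b * a⁻¹) • x := by rw [mul_smul, ← hb, ← ha, inv_smul_smul]
    rw [h2, R.map_smul]
    exact (inferInstance : (commutator Fi24).Normal).conj_mem _ hx _
  rw [R.gen, top_le_iff] at h1
  have h3 := FiTwentyFour.index_commutator
  rw [h1, index_top] at h3
  norm_num at h3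

/-- **The row `Fi24'`, `p = 3`, weak hypothesis.** -/
theorem row {L : Type u} [Group L] [Finite L] (h : Spor.IsoFi24' L) {a : MulAut L}
    (hodd : Odd (Nat.card (fixedSubgroup a))) (hP : ∀ x : L, (a x)⁻¹ * x = 1 ∨ 3 ∣ orderOf ((a x)⁻¹ * x)) : False := by
  obtain ⟨e⟩ := h
  let α : MulAut (commutator Fi24) := MulAut.congr e a
  obtain ⟨g, hg⟩ := Cfsg.Agent.H819.CubeFi24.conj_surjective α
  have hα : ∀ u : commutator Fi24, g * (u : Fi24) * g⁻¹ = ((e (a (e.symm u)) : commutator Fi24) : Fi24) := by
    intro u
    have h1 := congrArg (fun f : MulAut (commutator Fi24) => ((f u : commutator Fi24) : Fi24)) hg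
    simp only [MulAut.conjNormal_apply] at h1
    exact h1
  refine no_three_fi24 (g := g) ?_ ?_
  · have h1 : Nat.card (fixedSubgroup a) =
        Nat.card ↥(centralizer ({g} : Set Fi24) ⊓ commutator Fi24 : Subgroup Fi24) := by
      refine Nat.card_congr
        { toFun := fun x => ⟨((e x : commutator Fi24) : Fi24), ?_, (e x).2⟩
          invFun := fun x => ⟨e.symm ⟨x.1, x.2.2⟩, ?_⟩
          left_inv := fun x => ?_
          right_inv := fun x => ?_ }
      · refine mem_centralizer_singleton_iff.2 ?_
        have h2 := hα (e x)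
        have h3 : a x = x := mem_fixed.1 x.2
        rw [MulEquiv.symm_apply_apply, h3] at h2
        exact (mul_inv_eq_iff_eq_mul.1 h2).symm
      · have h2 := hα ⟨x.1, x.2.2⟩
        have h3 : g * x.1 * g⁻¹ = x.1 := by
          rw [mul_inv_eq_iff_eq_mul]
          exact (mem_centralizer_singleton_iff.1 x.2.1).symm
        rw [mem_fixed]
        apply e.injective
        apply Subtype.ext
        rw [← h2, MulEquiv.apply_symm_apply]
        exact h3
      · apply Subtype.ext
        show e.symm ⟨((e x : commutator Fi24) : Fi24), _⟩ = x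
        exact e.symm_apply_apply _
      · apply Subtype.ext
        show ((e (e.symm ⟨x.1, x.2.2⟩) : commutator Fi24) : Fi24) = x
        rw [e.apply_symm_apply]
    rwa [← h1]
  · intro u hu
    have h1 : ((e (a (e.symm ⟨u, hu⟩)) : commutator Fi24) : Fi24) * u⁻¹ =
        ((e (a (e.symm ⟨u, hu⟩) * (e.symm ⟨u, hu⟩)⁻¹) : commutator Fi24) : Fi24) := by
      rw [map_mul, map_inv, MulEquiv.apply_symm_apply]
      rfl
    rw [hα ⟨u, hu⟩, h1]
    rcases hP (e.symm ⟨u, hu⟩)⁻¹ with hk | hk
    · left
      rw [map_inv, inv_inv] at hk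
      rw [hk, map_one]
      rfl
    · right
      rw [map_inv, inv_inv] at hk
      rw [Subgroup.orderOf_coe, show orderOf (e (a (e.symm ⟨u, hu⟩) * (e.symm ⟨u, hu⟩)⁻¹)) =
        orderOf (a (e.symm ⟨u, hu⟩) * (e.symm ⟨u, hu⟩)⁻¹) from orderOf_injective e.toMonoidHom e.injective _]
      exact hk

/-- the form of `H516.OddFrame` -/
theorem row_sit {L : Type u} [Group L] [Finite L] (h : Spor.IsoFi24' L) {a : MulAut L} {b : L} (S : Sit 3 a b) : False :=
  row h S.odd S.bad

end Cfsg.Agent.H472.FiThree
end
end

-- part: H516/RowMathieu_mg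
section
prune_inst 0x3030050000a2000000000014800002201000000000400000200000000100004000000800088001100002800000000008001000104010000000000000000400000022560402400108200000000006000000000000000000000000000000000000000000000
set_option linter.all false
open scoped Cfsg.Agent.FastGrp

-- part: H516/RowMathieu
section
/-!
# S4094-S4096: the rows of the Mathieu groups (p odd)

* `fx_le` : the elements of odd prime order of `M24` have at most 6 fixed points (at most 4 for the order `≥ 5`);
* `orbit_card` : commuting permutations of prime orders `p ≠ q`, a point moved by both: its orbit under `b c` has `p q`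
  points, all of them moved by both;
* `nadj24`, `nadj23`, `nadj12` : non-adjacent odd primes in `M24`, `M23`, `M12`;
* `m11`, `m12`, `m22`, `m23`, `m24` : **the rows**.
-/

set_option autoImplicit false

namespace Cfsg.Agent.H516.Mathieu

open Subgroup Cfsg
open scoped Pointwise
open Cfsg.Agent.H866.InvCount Cfsg.Agent.H866.InvolType Cfsg.Agent.H866.FpfCent

universe u

theorem fx_le_four {x : Equiv.Perm GolayPt} (hx : x ∈ M24) {p : ℕ} (hp : p.Prime) (h5 : 5 ≤ p) (ho : orderOf x = p) :
    (MulAction.fixedBy GolayPt x).ncard ≤ 4 := by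
  by_contra hcon
  push Not at hcon
  obtain ⟨s, hs, hsc⟩ := Set.exists_subset_card_eq (s := MulAction.fixedBy GolayPt x) (n := 5) (by omega)
  have h5' : MulAction.IsMultiplyPretransitive M24 GolayPt 5 := Cfsg.Agent.S0366.result
  have h1 := h5'.index_of_fixingSubgroup_mul hsc
  have h24 : Nat.card GolayPt = 24 := by
    rw [Nat.card_eq_fintype_card]
    rfl
  rw [h24] at h1
  have hM := Cfsg.Agent.S0364.result
  have h2 := (fixingSubgroup M24 s).card_mul_index
  rw [hM] at h2
  have h3 : (fixingSubgroup M24 s).index = 5100480 := by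
    have e1 : (24 - 5 : ℕ).factorial = 121645100408832000 := by decide
    have e2 : (24 : ℕ).factorial = 620448401733239439360000 := by decide
    rw [e1, e2] at h1
    omega
  rw [h3] at h2
  have h4 : Nat.card ↥(fixingSubgroup M24 s) = 48 := by omega
  have hmem : (⟨x, hx⟩ : M24) ∈ fixingSubgroup M24 s := by
    rw [mem_fixingSubgroup_iff]
    intro y hy
    exact hs hy
  have h6 : orderOf (⟨⟨x, hx⟩, hmem⟩ : fixingSubgroup M24 s) ∣ Nat.card ↥(fixingSubgroup M24 s) := _root_.orderOf_dvd_natCard _
  rw [← Subgroup.orderOf_coe, ← Subgroup.orderOf_coe] at h6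
  change orderOf x ∣ _ at h6
  rw [h4, ho] at h6
  have h7 : p ∣ 2 ^ 4 * 3 := by simpa using h6
  rcases hp.dvd_mul.1 h7 with h | h
  · have := Nat.le_of_dvd (by norm_num) (hp.dvd_of_dvd_pow h)
    omega
  · have := Nat.le_of_dvd (by norm_num) h
    omega

theorem fixedBy_ncard (x : Equiv.Perm GolayPt) : (MulAction.fixedBy GolayPt x).ncard = fx x := by
  rw [fx_eq_ncard]
  congr 1
  ext q
  simp [MulAction.mem_fixedBy]

theorem fx_le_six {x : Equiv.Perm GolayPt} (hx : x ∈ M24) {p : ℕ} (hp : p.Prime) (h2 : p ≠ 2) (ho : orderOf x = p) :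
    (MulAction.fixedBy GolayPt x).ncard ≤ 6 := by
  by_cases h5 : 5 ≤ p
  · exact (fx_le_four hx hp h5 ho).trans (by norm_num)
  · have h3 : p = 3 := by
      have := hp.two_le
      interval_cases p
      · exact absurd rfl h2
      · rfl
      · exact absurd hp (by norm_num)
    subst h3
    have h := Cfsg.Agent.S5608.fx_three hx ho
    rw [fixedBy_ncard]
    omega

section Orbit

variable {Ω : Type*} [Fintype Ω]

/-- Commuting permutations of different prime orders `p`, `q`; `ω` moved by both; `D` invariant under both and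
containing `ω`: `D` contains at least `p q` points moved by both. -/
theorem orbit_card {b c : Equiv.Perm Ω} {p q : ℕ} (hp : p.Prime) (hq : q.Prime) (hpq : p ≠ q) (hb : orderOf b = p)
    (hc : orderOf c = q) (hbc : b * c = c * b) {ω : Ω} (h1 : b ω ≠ ω) (h2 : c ω ≠ ω) {D : Set Ω} (hω : ω ∈ D)
    (hDb : ∀ x ∈ D, b x ∈ D) (hDc : ∀ x ∈ D, c x ∈ D) : p * q ≤ {x | x ∈ D ∧ b x ≠ x ∧ c x ≠ x}.ncard := by
  set g := b * c with hg
  have hcomm : Commute b c := hbc
  have hbp : b ^ p = 1 := by rw [← hb, pow_orderOf_eq_one]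
  have hcq : c ^ q = 1 := by rw [← hc, pow_orderOf_eq_one]
  -- a prime power of `g` fixing `ω`
  have key : ∀ {b c : Equiv.Perm Ω} {p q : ℕ}, p.Prime → q.Prime → p ≠ q → b ^ p = 1 → c ^ q = 1 → Commute b c →
      c ω ≠ ω → ((b * c) ^ p) ω ≠ ω := by
    intro b c p q hp hq hpq hbp hcq hcomm h2 h3
    rw [hcomm.mul_pow, hbp, one_mul] at h3
    apply h2
    obtain ⟨m, hm⟩ := exists_pow_eq_self_of_coprime (n := p) (x := c)
      (by
        have : orderOf c ∣ q := orderOf_dvd_of_pow_eq_one hcq
        exact Nat.Coprime.coprime_dvd_right this ((Nat.coprime_primes hp hq).2 hpq))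
    have h4 : ∀ k : ℕ, ((c ^ p) ^ k) ω = ω := by
      intro k
      induction k with
      | zero => rfl
      | succ k ih => rw [pow_succ, Equiv.Perm.mul_apply, h3, ih]
    rw [← hm]
    exact h4 m
  have hper : ∀ n : ℕ, Function.IsPeriodicPt (fun x => g x) n ω ↔ (g ^ n) ω = ω := by
    intro n
    unfold Function.IsPeriodicPt Function.IsFixedPt
    rw [← Equiv.Perm.iterate_eq_pow]
  set n := Function.minimalPeriod (fun x => g x) ω with hn
  have hgpq : g ^ (p * q) = 1 := by
    rw [hg, hcomm.mul_pow, pow_mul, hbp, one_pow, one_mul, mul_comm p q, pow_mul, hcq, one_pow]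
  have hnd : n ∣ p * q := by
    apply Function.IsPeriodicPt.minimalPeriod_dvd
    rw [hper, hgpq]
    rfl
  have hpow : ∀ m : ℕ, n ∣ m → (g ^ m) ω = ω := by
    intro m hm
    rw [← hper]
    exact (Function.isPeriodicPt_minimalPeriod _ _).trans_dvd hm
  have hpn : p ∣ n := by
    by_contra h
    have h3 : n ∣ q := (Nat.Coprime.dvd_of_dvd_mul_left ((Nat.Prime.coprime_iff_not_dvd hp).2 h).symm hnd)
    refine key hq hp hpq.symm hcq hbp hcomm.symm h1 ?_
    rw [← hcomm.eq]
    exact hpow q h3
  have hqn : q ∣ n := by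
    by_contra h
    have h3 : n ∣ p := (Nat.Coprime.dvd_of_dvd_mul_right ((Nat.Prime.coprime_iff_not_dvd hq).2 h).symm hnd)
    exact key hp hq hpq hbp hcq hcomm h2 (hpow p h3)
  have hn' : n = p * q := Nat.dvd_antisymm hnd (((Nat.coprime_primes hp hq).2 hpq).mul_dvd_of_dvd_of_dvd hpn hqn)
  -- the points `g ^ i ω`
  have hmem : ∀ i : ℕ, (g ^ i) ω ∈ {x | x ∈ D ∧ b x ≠ x ∧ c x ≠ x} := by
    intro i
    have hcb : Commute b g := (Commute.refl b).mul_right hcomm
    have hcc : Commute c g := hcomm.symm.mul_right (Commute.refl c)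
    refine ⟨?_, ?_, ?_⟩
    · induction i with
      | zero => exact hω
      | succ i ih =>
        rw [pow_succ', Equiv.Perm.mul_apply, hg, Equiv.Perm.mul_apply]
        exact hDb _ (hDc _ ih)
    · intro h
      apply h1
      apply (g ^ i).injective
      rw [← Equiv.Perm.mul_apply, ← (hcb.pow_right i).eq, Equiv.Perm.mul_apply]
      exact h
    · intro h
      apply h2
      apply (g ^ i).injective
      rw [← Equiv.Perm.mul_apply, ← (hcc.pow_right i).eq, Equiv.Perm.mul_apply]
      exact h
  have hinj : Set.InjOn (fun i : ℕ => (g ^ i) ω) (Set.Iio n) := by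
    intro i hi j hj hij
    have h3 := Function.iterate_injOn_Iio_minimalPeriod (f := fun x => g x) (x := ω)
    refine h3 hi hj ?_
    have e : ∀ k : ℕ, (fun x => g x)^[k] ω = (g ^ k) ω := fun k => by rw [← Equiv.Perm.iterate_eq_pow]
    change (fun x => g x)^[i] ω = (fun x => g x)^[j] ω
    rw [e, e]
    exact hij
  rw [← hn']
  have h3 : (fun i : ℕ => (g ^ i) ω) '' (Set.Iio n) ⊆ {x | x ∈ D ∧ b x ≠ x ∧ c x ≠ x} := by
    rintro _ ⟨i, -, rfl⟩
    exact hmem i
  calc n = (Set.Iio n).ncard := by
        rw [← Finset.coe_Iio, Set.ncard_coe_finset, Nat.card_Iio]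
    _ = ((fun i : ℕ => (g ^ i) ω) '' (Set.Iio n)).ncard := (Set.InjOn.ncard_image hinj).symm
    _ ≤ _ := Set.ncard_le_ncard h3 (Set.toFinite _)

end Orbit

theorem card_pts : (Set.univ : Set GolayPt).ncard = 24 := by
  rw [Set.ncard_univ, Nat.card_eq_fintype_card]
  rfl

/-- two elements with few fixed points have a common moved point -/
theorem exists_moved {b c : Equiv.Perm GolayPt} (h : (MulAction.fixedBy GolayPt b).ncard + (MulAction.fixedBy GolayPt c).ncard < 24) :
    ∃ ω, b ω ≠ ω ∧ c ω ≠ ω := by
  by_contra hcon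
  push Not at hcon
  have h1 : (Set.univ : Set GolayPt) ⊆ MulAction.fixedBy GolayPt b ∪ MulAction.fixedBy GolayPt c := by
    intro ω _
    by_cases h2 : b ω = ω
    · exact Or.inl h2
    · exact Or.inr (hcon ω h2)
  have h2 := (Set.ncard_le_ncard h1 (Set.toFinite _)).trans (Set.ncard_union_le _ _)
  rw [card_pts] at h2
  omega

theorem moved_le {b : Equiv.Perm GolayPt} {P : GolayPt → Prop} (h : ∀ x, P x → b x ≠ x) :
    {x | P x}.ncard + (MulAction.fixedBy GolayPt b).ncard ≤ 24 := by
  rw [← card_pts, ← Set.ncard_union_eq ?_ (Set.toFinite _) (Set.toFinite _)]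
  · exact Set.ncard_le_ncard (Set.subset_univ _) (Set.toFinite _)
  · rw [Set.disjoint_left]
    intro x hx hx'
    exact h x hx hx'

/-- **Non-adjacency in `M24`.** -/
theorem nadj24 {b c : Equiv.Perm GolayPt} (hb : b ∈ M24) (hc : c ∈ M24) {p q : ℕ} (hp : p.Prime) (hq : q.Prime)
    (hp2 : p ≠ 2) (hq2 : q ≠ 2) (hpq : p ≠ q) (ho : orderOf b = p) (ho' : orderOf c = q) (h : 24 < p * q) : b * c ≠ c * b := by
  intro hbc
  have h1 := fx_le_six hb hp hp2 ho
  have h2 := fx_le_six hc hq hq2 ho'
  obtain ⟨ω, hω, hω'⟩ := exists_moved (b := b) (c := c) (by omega)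
  have h3 := orbit_card hp hq hpq ho ho' hbc hω hω' (D := Set.univ) (Set.mem_univ _) (fun _ _ => Set.mem_univ _)
    (fun _ _ => Set.mem_univ _)
  have h4 := Set.ncard_le_ncard (Set.subset_univ {x | x ∈ (Set.univ : Set GolayPt) ∧ b x ≠ x ∧ c x ≠ x}) (Set.toFinite _)
  rw [card_pts] at h4
  omega

/-- `3` and `7` are not adjacent in `M23`. -/
theorem nadj23 {b c : Equiv.Perm GolayPt} (hb : b ∈ M24) (hc : c ∈ M24) {x : GolayPt} (hbx : b x = x)
    (ho : orderOf b = 3) (ho' : orderOf c = 7) : b * c ≠ c * b := by
  intro hbc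
  have h1 : (MulAction.fixedBy GolayPt b).ncard = 6 := by
    have h := Cfsg.Agent.S5608.fx_three hb ho
    rw [← fixedBy_ncard] at h
    rcases h with h | h
    · exact h
    · exfalso
      rw [Set.ncard_eq_zero (Set.toFinite _)] at h
      have : x ∈ MulAction.fixedBy GolayPt b := hbx
      rw [h] at this
      exact this
  have h2 := fx_le_four hc (by norm_num : Nat.Prime 7) (by norm_num) ho'
  obtain ⟨ω, hω, hω'⟩ := exists_moved (b := b) (c := c) (by omega)
  have h3 := orbit_card (by norm_num : Nat.Prime 3) (by norm_num : Nat.Prime 7) (by norm_num) ho ho' hbc hω hω'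
    (D := Set.univ) (Set.mem_univ _) (fun _ _ => Set.mem_univ _) (fun _ _ => Set.mem_univ _)
  have h4 := moved_le (b := b) (P := fun x => x ∈ (Set.univ : Set GolayPt) ∧ b x ≠ x ∧ c x ≠ x) (fun x hx => hx.2.1)
  change {x | x ∈ (Set.univ : Set GolayPt) ∧ b x ≠ x ∧ c x ≠ x}.ncard + _ ≤ 24 at h4
  omega

/-- An invariant set of 12 points: no adjacent odd primes. -/
theorem nadj12 {b c : Equiv.Perm GolayPt} (hb : b ∈ M24) (hc : c ∈ M24) {D : Finset GolayPt} (hD : D.card = 12)
    (hbD : b • D = D) (hcD : c • D = D) {p q : ℕ} (hp : p.Prime) (hq : q.Prime)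
    (hp2 : p ≠ 2) (hq2 : q ≠ 2) (hpq : p ≠ q) (ho : orderOf b = p) (ho' : orderOf c = q) : b * c ≠ c * b := by
  intro hbc
  have h1 := fx_le_six hb hp hp2 ho
  have h2 := fx_le_six hc hq hq2 ho'
  have hbig : 15 ≤ p * q := by
    have a1 : 3 ≤ p := by
      have := hp.two_le
      omega
    have a2 : 3 ≤ q := by
      have := hq.two_le
      omega
    rcases Nat.lt_or_ge p 5 with h | h
    · have a3 : 5 ≤ q := by
        by_contra hcon
        push Not at hcon
        have b1 : p ≠ 4 := by rintro rfl; norm_num at hp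
        have b2 : q ≠ 4 := by rintro rfl; norm_num at hq
        omega
      nlinarith only [a1, a3]
    · nlinarith only [a2, h]
  obtain ⟨ω, hω, hω'⟩ := exists_moved (b := b) (c := c) (by omega)
  have hmem : ∀ {g : Equiv.Perm GolayPt}, g • D = D → ∀ x, x ∈ D ↔ g x ∈ D := by
    intro g hg x
    conv_rhs => rw [← hg]
    exact (Finset.smul_mem_smul_finset_iff g).symm
  rcases Classical.em (ω ∈ D) with hωD | hωD
  · have h3 := orbit_card hp hq hpq ho ho' hbc hω hω' (D := (D : Set GolayPt)) hωD
      (fun x hx => (hmem hbD x).1 hx) (fun x hx => (hmem hcD x).1 hx)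
    have h4 : {x | x ∈ (D : Set GolayPt) ∧ b x ≠ x ∧ c x ≠ x}.ncard ≤ (D : Set GolayPt).ncard :=
      Set.ncard_le_ncard (fun x hx => hx.1) (Set.toFinite _)
    rw [Set.ncard_coe_finset, hD] at h4
    omega
  · have h3 := orbit_card hp hq hpq ho ho' hbc hω hω' (D := ((D : Set GolayPt)ᶜ)) hωD
      (fun x hx h => hx ((hmem hbD x).2 h)) (fun x hx h => hx ((hmem hcD x).2 h))
    have h4 : {x | x ∈ ((D : Set GolayPt)ᶜ) ∧ b x ≠ x ∧ c x ≠ x}.ncard ≤ ((D : Set GolayPt)ᶜ).ncard :=
      Set.ncard_le_ncard (fun x hx => hx.1) (Set.toFinite _)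
    have h5 := Set.ncard_add_ncard_compl (D : Set GolayPt) (Set.toFinite _) (Set.toFinite _)
    rw [Set.ncard_coe_finset, hD, Nat.card_eq_fintype_card] at h5
    have h6 : Fintype.card GolayPt = 24 := rfl
    omega

/-! ### The rows -/

variable {L : Type u} [Group L]

/-- transport of non-adjacency to a group isomorphic to a subgroup of the permutations -/
theorem nadj_sub {K : Subgroup (Equiv.Perm GolayPt)} (e : L ≃* K) {q r : ℕ}
    (h : ∀ b ∈ K, ∀ c ∈ K, orderOf b = q → orderOf c = r → b * c ≠ c * b) : NAdj L q r := by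
  intro b c hb hc hbc
  refine h (e b) (e b).2 (e c) (e c).2 ?_ ?_ ?_
  · rw [Subgroup.orderOf_coe, MulEquiv.orderOf_eq, hb]
  · rw [Subgroup.orderOf_coe, MulEquiv.orderOf_eq, hc]
  · rw [← Subgroup.coe_mul, ← map_mul, hbc, map_mul]
    rfl

theorem nadjM24 {K : Subgroup (Equiv.Perm GolayPt)} (hK : K ≤ M24) (e : L ≃* K) {p q : ℕ} (hp : p.Prime) (hq : q.Prime)
    (hp2 : p ≠ 2) (hq2 : q ≠ 2) (hpq : p ≠ q) (h : 24 < p * q) : NAdj L p q :=
  nadj_sub e fun _ hb _ hc ho ho' => nadj24 (hK hb) (hK hc) hp hq hp2 hq2 hpq ho ho' h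

theorem nadjM23 {K : Subgroup (Equiv.Perm GolayPt)} (hK : K ≤ Spor.M23) (e : L ≃* K) : NAdj L 3 7 :=
  nadj_sub e fun _ hb _ hc ho ho' => nadj23 (hK hb).1 (hK hc).1 (x := none) (hK hb).2 ho ho'

theorem nadjM12 {K : Subgroup (Equiv.Perm GolayPt)} (hK : K ≤ Spor.M12) (e : L ≃* K) {p q : ℕ} (hp : p.Prime) (hq : q.Prime)
    (hp2 : p ≠ 2) (hq2 : q ≠ 2) (hpq : p ≠ q) : NAdj L p q :=
  nadj_sub e fun _ hb _ hc ho ho' => nadj12 (hK hb).1 (hK hc).1 CpAutTThree.MTwelve.card_dodecad (hK hb).2 (hK hc).2
    hp hq hp2 hq2 hpq ho ho'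

variable [Finite L] {p : ℕ} {a : MulAut L} {b : L}

/-- **`M24`** -/
theorem m24 (h : Spor.IsoM24 L) (S : Sit p a b) : False := by
  obtain ⟨e⟩ := h
  have hn : Nat.card L = 244823040 := by rw [Nat.card_congr e.toEquiv]; exact Cfsg.Agent.S0364.result
  have hN : ∀ p q : ℕ, p.Prime → q.Prime → p ≠ 2 → q ≠ 2 → p ≠ q → 24 < p * q → NAdj L p q :=
    fun _ _ h1 h2 h3 h4 h5 h6 => nadjM24 le_rfl e h1 h2 h3 h4 h5 h6
  have hb := S.mem_list [3, 5, 7, 11, 23] (by simp only [List.forall_mem_cons]; norm_num) hn (by decide +kernel)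
  simp only [List.mem_cons, List.not_mem_nil, or_false] at hb
  rcases hb with hb | hb | hb | hb | hb
  · refine S.false_of_list [11, 23] (by simp only [List.forall_mem_cons]; norm_num) (j := 10) (k := 10) (m := 945) (R := 253)
      hn (by norm_num) (by norm_num) (by decide +kernel) ?_ (by norm_num) (by norm_num)
    rw [hb]
    simp only [List.forall_mem_cons]
    exact ⟨hN 3 11 (by norm_num) (by norm_num) (by norm_num) (by norm_num) (by norm_num) (by norm_num), hN 3 23 (by norm_num) (by norm_num) (by norm_num) (by norm_num) (by norm_num) (by norm_num), by simp⟩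
  · refine S.false_of_list [11, 23] (by simp only [List.forall_mem_cons]; norm_num) (j := 10) (k := 10) (m := 945) (R := 253)
      hn (by norm_num) (by norm_num) (by decide +kernel) ?_ (by norm_num) (by norm_num)
    rw [hb]
    simp only [List.forall_mem_cons]
    exact ⟨hN 5 11 (by norm_num) (by norm_num) (by norm_num) (by norm_num) (by norm_num) (by norm_num), hN 5 23 (by norm_num) (by norm_num) (by norm_num) (by norm_num) (by norm_num) (by norm_num), by simp⟩
  · refine S.false_of_list [11, 23] (by simp only [List.forall_mem_cons]; norm_num) (j := 10) (k := 10) (m := 945) (R := 253)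
      hn (by norm_num) (by norm_num) (by decide +kernel) ?_ (by norm_num) (by norm_num)
    rw [hb]
    simp only [List.forall_mem_cons]
    exact ⟨hN 7 11 (by norm_num) (by norm_num) (by norm_num) (by norm_num) (by norm_num) (by norm_num), hN 7 23 (by norm_num) (by norm_num) (by norm_num) (by norm_num) (by norm_num) (by norm_num), by simp⟩
  · refine S.false_of_list [3, 23] (by simp only [List.forall_mem_cons]; norm_num) (j := 10) (k := 10) (m := 385) (R := 621)
      hn (by norm_num) (by norm_num) (by decide +kernel) ?_ (by norm_num) (by norm_num)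
    rw [hb]
    simp only [List.forall_mem_cons]
    exact ⟨hN 11 3 (by norm_num) (by norm_num) (by norm_num) (by norm_num) (by norm_num) (by norm_num), hN 11 23 (by norm_num) (by norm_num) (by norm_num) (by norm_num) (by norm_num) (by norm_num), by simp⟩
  · refine S.false_of_list [3, 11] (by simp only [List.forall_mem_cons]; norm_num) (j := 10) (k := 10) (m := 805) (R := 297)
      hn (by norm_num) (by norm_num) (by decide +kernel) ?_ (by norm_num) (by norm_num)
    rw [hb]
    simp only [List.forall_mem_cons]
    exact ⟨hN 23 3 (by norm_num) (by norm_num) (by norm_num) (by norm_num) (by norm_num) (by norm_num), hN 23 11 (by norm_num) (by norm_num) (by norm_num) (by norm_num) (by norm_num) (by norm_num), by simp⟩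

/-- **`M23`** -/
theorem m23 (h : Spor.IsoM23 L) (S : Sit p a b) : False := by
  obtain ⟨e⟩ := h
  have hn : Nat.card L = 10200960 := by rw [Nat.card_congr e.toEquiv]; exact Cfsg.Agent.SporadicA.MathieuRecog.card_M23
  have hN : ∀ p q : ℕ, p.Prime → q.Prime → p ≠ 2 → q ≠ 2 → p ≠ q → 24 < p * q → NAdj L p q :=
    fun _ _ h1 h2 h3 h4 h5 h6 => nadjM24 inf_le_left e h1 h2 h3 h4 h5 h6
  have hb := S.mem_list [3, 5, 7, 11, 23] (by simp only [List.forall_mem_cons]; norm_num) hn (by decide +kernel)
  simp only [List.mem_cons, List.not_mem_nil, or_false] at hb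
  rcases hb with hb | hb | hb | hb | hb
  · refine S.false_of_list [7, 11, 23] (by simp only [List.forall_mem_cons]; norm_num) (j := 7) (k := 7) (m := 45) (R := 1771)
      hn (by norm_num) (by norm_num) (by decide +kernel) ?_ (by norm_num) (by norm_num)
    rw [hb]
    simp only [List.forall_mem_cons]
    exact ⟨nadjM23 le_rfl e, hN 3 11 (by norm_num) (by norm_num) (by norm_num) (by norm_num) (by norm_num) (by norm_num), hN 3 23 (by norm_num) (by norm_num) (by norm_num) (by norm_num) (by norm_num) (by norm_num), by simp⟩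
  · refine S.false_of_list [7, 11, 23] (by simp only [List.forall_mem_cons]; norm_num) (j := 7) (k := 7) (m := 45) (R := 1771)
      hn (by norm_num) (by norm_num) (by decide +kernel) ?_ (by norm_num) (by norm_num)
    rw [hb]
    simp only [List.forall_mem_cons]
    exact ⟨hN 5 7 (by norm_num) (by norm_num) (by norm_num) (by norm_num) (by norm_num) (by norm_num), hN 5 11 (by norm_num) (by norm_num) (by norm_num) (by norm_num) (by norm_num) (by norm_num), hN 5 23 (by norm_num) (by norm_num) (by norm_num) (by norm_num) (by norm_num) (by norm_num), by simp⟩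
  · refine S.false_of_list [5, 11, 23] (by simp only [List.forall_mem_cons]; norm_num) (j := 7) (k := 7) (m := 63) (R := 1265)
      hn (by norm_num) (by norm_num) (by decide +kernel) ?_ (by norm_num) (by norm_num)
    rw [hb]
    simp only [List.forall_mem_cons]
    exact ⟨hN 7 5 (by norm_num) (by norm_num) (by norm_num) (by norm_num) (by norm_num) (by norm_num), hN 7 11 (by norm_num) (by norm_num) (by norm_num) (by norm_num) (by norm_num) (by norm_num), hN 7 23 (by norm_num) (by norm_num) (by norm_num) (by norm_num) (by norm_num) (by norm_num), by simp⟩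
  · refine S.false_of_list [3, 5, 23] (by simp only [List.forall_mem_cons]; norm_num) (j := 7) (k := 7) (m := 77) (R := 1035)
      hn (by norm_num) (by norm_num) (by decide +kernel) ?_ (by norm_num) (by norm_num)
    rw [hb]
    simp only [List.forall_mem_cons]
    exact ⟨hN 11 3 (by norm_num) (by norm_num) (by norm_num) (by norm_num) (by norm_num) (by norm_num), hN 11 5 (by norm_num) (by norm_num) (by norm_num) (by norm_num) (by norm_num) (by norm_num), hN 11 23 (by norm_num) (by norm_num) (by norm_num) (by norm_num) (by norm_num) (by norm_num), by simp⟩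
  · refine S.false_of_list [3, 7, 11] (by simp only [List.forall_mem_cons]; norm_num) (j := 7) (k := 7) (m := 115) (R := 693)
      hn (by norm_num) (by norm_num) (by decide +kernel) ?_ (by norm_num) (by norm_num)
    rw [hb]
    simp only [List.forall_mem_cons]
    exact ⟨hN 23 3 (by norm_num) (by norm_num) (by norm_num) (by norm_num) (by norm_num) (by norm_num), hN 23 7 (by norm_num) (by norm_num) (by norm_num) (by norm_num) (by norm_num) (by norm_num), hN 23 11 (by norm_num) (by norm_num) (by norm_num) (by norm_num) (by norm_num) (by norm_num), by simp⟩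

/-- **`M22`** -/
theorem m22 (h : Spor.IsoM22 L) (S : Sit p a b) : False := by
  obtain ⟨e⟩ := h
  have hn : Nat.card L = 443520 := by rw [Nat.card_congr e.toEquiv]; exact Cfsg.Agent.SporadicA.MathieuRecog.card_M22
  have hN : ∀ p q : ℕ, p.Prime → q.Prime → p ≠ 2 → q ≠ 2 → p ≠ q → 24 < p * q → NAdj L p q :=
    fun _ _ h1 h2 h3 h4 h5 h6 => nadjM24 (inf_le_left.trans inf_le_left) e h1 h2 h3 h4 h5 h6
  have hb := S.mem_list [3, 5, 7, 11] (by simp only [List.forall_mem_cons]; norm_num) hn (by decide +kernel)
  simp only [List.mem_cons, List.not_mem_nil, or_false] at hb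
  rcases hb with hb | hb | hb | hb
  · refine S.false_of_list [7, 11] (by simp only [List.forall_mem_cons]; norm_num) (j := 7) (k := 7) (m := 45) (R := 77)
      hn (by norm_num) (by norm_num) (by decide +kernel) ?_ (by norm_num) (by norm_num)
    rw [hb]
    simp only [List.forall_mem_cons]
    exact ⟨nadjM23 inf_le_left e, hN 3 11 (by norm_num) (by norm_num) (by norm_num) (by norm_num) (by norm_num) (by norm_num), by simp⟩
  · refine S.false_of_list [7, 11] (by simp only [List.forall_mem_cons]; norm_num) (j := 7) (k := 7) (m := 45) (R := 77)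
      hn (by norm_num) (by norm_num) (by decide +kernel) ?_ (by norm_num) (by norm_num)
    rw [hb]
    simp only [List.forall_mem_cons]
    exact ⟨hN 5 7 (by norm_num) (by norm_num) (by norm_num) (by norm_num) (by norm_num) (by norm_num), hN 5 11 (by norm_num) (by norm_num) (by norm_num) (by norm_num) (by norm_num) (by norm_num), by simp⟩
  · refine S.false_of_list [5, 11] (by simp only [List.forall_mem_cons]; norm_num) (j := 7) (k := 7) (m := 63) (R := 55)
      hn (by norm_num) (by norm_num) (by decide +kernel) ?_ (by norm_num) (by norm_num)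
    rw [hb]
    simp only [List.forall_mem_cons]
    exact ⟨hN 7 5 (by norm_num) (by norm_num) (by norm_num) (by norm_num) (by norm_num) (by norm_num), hN 7 11 (by norm_num) (by norm_num) (by norm_num) (by norm_num) (by norm_num) (by norm_num), by simp⟩
  · refine S.false_of_list [3, 5] (by simp only [List.forall_mem_cons]; norm_num) (j := 7) (k := 7) (m := 77) (R := 45)
      hn (by norm_num) (by norm_num) (by decide +kernel) ?_ (by norm_num) (by norm_num)
    rw [hb]
    simp only [List.forall_mem_cons]
    exact ⟨hN 11 3 (by norm_num) (by norm_num) (by norm_num) (by norm_num) (by norm_num) (by norm_num), hN 11 5 (by norm_num) (by norm_num) (by norm_num) (by norm_num) (by norm_num) (by norm_num), by simp⟩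

/-- **`M12`** -/
theorem m12 (h : Spor.IsoM12 L) (S : Sit p a b) : False := by
  obtain ⟨e⟩ := h
  have hn : Nat.card L = 95040 := by rw [Nat.card_congr e.toEquiv]; exact Cfsg.Agent.MTwelveType.SylowModel.card_M12
  have hN : ∀ p q : ℕ, p.Prime → q.Prime → p ≠ 2 → q ≠ 2 → p ≠ q → 0 < p * q → NAdj L p q :=
    fun _ _ h1 h2 h3 h4 h5 _ => nadjM12 le_rfl e h1 h2 h3 h4 h5
  have hb := S.mem_list [3, 5, 11] (by simp only [List.forall_mem_cons]; norm_num) hn (by decide +kernel)
  simp only [List.mem_cons, List.not_mem_nil, or_false] at hb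
  rcases hb with hb | hb | hb
  · refine S.false_of_list [5, 11] (by simp only [List.forall_mem_cons]; norm_num) (j := 6) (k := 6) (m := 27) (R := 55)
      hn (by norm_num) (by norm_num) (by decide +kernel) ?_ (by norm_num) (by norm_num)
    rw [hb]
    simp only [List.forall_mem_cons]
    exact ⟨hN 3 5 (by norm_num) (by norm_num) (by norm_num) (by norm_num) (by norm_num) (by norm_num), hN 3 11 (by norm_num) (by norm_num) (by norm_num) (by norm_num) (by norm_num) (by norm_num), by simp⟩
  · refine S.false_of_list [3, 11] (by simp only [List.forall_mem_cons]; norm_num) (j := 6) (k := 6) (m := 5) (R := 297)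
      hn (by norm_num) (by norm_num) (by decide +kernel) ?_ (by norm_num) (by norm_num)
    rw [hb]
    simp only [List.forall_mem_cons]
    exact ⟨hN 5 3 (by norm_num) (by norm_num) (by norm_num) (by norm_num) (by norm_num) (by norm_num), hN 5 11 (by norm_num) (by norm_num) (by norm_num) (by norm_num) (by norm_num) (by norm_num), by simp⟩
  · refine S.false_of_list [3, 5] (by simp only [List.forall_mem_cons]; norm_num) (j := 6) (k := 6) (m := 11) (R := 135)
      hn (by norm_num) (by norm_num) (by decide +kernel) ?_ (by norm_num) (by norm_num)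
    rw [hb]
    simp only [List.forall_mem_cons]
    exact ⟨hN 11 3 (by norm_num) (by norm_num) (by norm_num) (by norm_num) (by norm_num) (by norm_num), hN 11 5 (by norm_num) (by norm_num) (by norm_num) (by norm_num) (by norm_num) (by norm_num), by simp⟩

/-- **`M11`** -/
theorem m11 (h : Spor.IsoM11 L) (S : Sit p a b) : False := by
  obtain ⟨e⟩ := h
  have hn : Nat.card L = 7920 := by rw [Nat.card_congr e.toEquiv]; exact Cfsg.Agent.H994.TwoGen.M11.card_M11
  have hN : ∀ p q : ℕ, p.Prime → q.Prime → p ≠ 2 → q ≠ 2 → p ≠ q → 0 < p * q → NAdj L p q :=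
    fun _ _ h1 h2 h3 h4 h5 _ => nadjM12 inf_le_left e h1 h2 h3 h4 h5
  have hb := S.mem_list [3, 5, 11] (by simp only [List.forall_mem_cons]; norm_num) hn (by decide +kernel)
  simp only [List.mem_cons, List.not_mem_nil, or_false] at hb
  rcases hb with hb | hb | hb
  · refine S.false_of_list [5, 11] (by simp only [List.forall_mem_cons]; norm_num) (j := 4) (k := 4) (m := 9) (R := 55)
      hn (by norm_num) (by norm_num) (by decide +kernel) ?_ (by norm_num) (by norm_num)
    rw [hb]
    simp only [List.forall_mem_cons]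
    exact ⟨hN 3 5 (by norm_num) (by norm_num) (by norm_num) (by norm_num) (by norm_num) (by norm_num), hN 3 11 (by norm_num) (by norm_num) (by norm_num) (by norm_num) (by norm_num) (by norm_num), by simp⟩
  · refine S.false_of_list [3, 11] (by simp only [List.forall_mem_cons]; norm_num) (j := 4) (k := 4) (m := 5) (R := 99)
      hn (by norm_num) (by norm_num) (by decide +kernel) ?_ (by norm_num) (by norm_num)
    rw [hb]
    simp only [List.forall_mem_cons]
    exact ⟨hN 5 3 (by norm_num) (by norm_num) (by norm_num) (by norm_num) (by norm_num) (by norm_num), hN 5 11 (by norm_num) (by norm_num) (by norm_num) (by norm_num) (by norm_num) (by norm_num), by simp⟩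
  · refine S.false_of_list [3, 5] (by simp only [List.forall_mem_cons]; norm_num) (j := 4) (k := 4) (m := 11) (R := 45)
      hn (by norm_num) (by norm_num) (by decide +kernel) ?_ (by norm_num) (by norm_num)
    rw [hb]
    simp only [List.forall_mem_cons]
    exact ⟨hN 11 3 (by norm_num) (by norm_num) (by norm_num) (by norm_num) (by norm_num) (by norm_num), hN 11 5 (by norm_num) (by norm_num) (by norm_num) (by norm_num) (by norm_num) (by norm_num), by simp⟩

end Cfsg.Agent.H516.Mathieu
end

-- part: H686/Odd/J1
section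
/-!
# S4096, S4094, S3842: the row of `J1`, `p` odd (helper686)

* `Qa`, `Qd` : the subgroups of order 12 and 10 of `A5`;
* `exists_sub` : subgroups of order 24 and 20 of `C(t) = 2 × A5`;
* `card_fixed_le` : `|C_L(a)| ≤ 19`;
* `row`.
-/

set_option autoImplicit false

namespace Cfsg.Agent.H686.Odd.J1

open Subgroup Cfsg Cfsg.Agent.SporRec.J1.Defs Cfsg.Agent.OddCyclic.JFacts

universe u

/-- the point stabilizer of `A5` -/
def Qa : Subgroup (alternatingGroup (Fin 5)) where
  carrier := {g | (g : Equiv.Perm (Fin 5)) 0 = 0}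
  one_mem' := rfl
  mul_mem' := by
    intro g h hg hh
    change (g : Equiv.Perm (Fin 5)) ((h : Equiv.Perm (Fin 5)) 0) = 0
    rw [show (h : Equiv.Perm (Fin 5)) 0 = 0 from hh]
    exact hg
  inv_mem' := by
    intro g hg
    change (g : Equiv.Perm (Fin 5))⁻¹ 0 = 0
    rw [Equiv.Perm.inv_eq_iff_eq]
    exact (show (g : Equiv.Perm (Fin 5)) 0 = 0 from hg).symm

instance : DecidablePred (· ∈ Qa) := fun g => inferInstanceAs (Decidable ((g : Equiv.Perm (Fin 5)) 0 = 0))

theorem card_Qa : Nat.card Qa = 12 := by
  rw [Nat.card_eq_fintype_card]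
  decide +kernel

/-- an element of order 5 -/
def x5 : alternatingGroup (Fin 5) := ⟨finRotate 5, Equiv.Perm.mem_alternatingGroup.2 (by decide)⟩

/-- its normalizing elements, inverting or centralizing it -/
def Qd : Subgroup (alternatingGroup (Fin 5)) where
  carrier := {g | g * x5 * g⁻¹ = x5 ∨ g * x5 * g⁻¹ = x5⁻¹}
  one_mem' := Or.inl (by simp only [_root_.one_mul, _root_.inv_one, _root_.mul_one])
  mul_mem' := by
    intro g h hg hh
    have e : g * h * x5 * (g * h)⁻¹ = g * (h * x5 * h⁻¹) * g⁻¹ := by group
    have e2 : g * x5⁻¹ * g⁻¹ = (g * x5 * g⁻¹)⁻¹ := by group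
    rcases hg with hg | hg <;> rcases hh with hh | hh
    · left; rw [e, hh, hg]
    · right; rw [e, hh, e2, hg]
    · right; rw [e, hh, hg]
    · left; rw [e, hh, e2, hg, inv_inv]
  inv_mem' := by
    intro g hg
    rcases hg with hg | hg
    · left
      rw [inv_inv]
      nth_rw 1 [← hg]
      group
    · right
      have e : x5 = (g * x5 * g⁻¹)⁻¹ := by rw [hg, inv_inv]
      calc g⁻¹ * x5 * g⁻¹⁻¹ = g⁻¹ * (g * x5 * g⁻¹)⁻¹ * g⁻¹⁻¹ := by rw [← e]
        _ = x5⁻¹ := by group

instance : DecidablePred (· ∈ Qd) := fun g => inferInstanceAs (Decidable (g * x5 * g⁻¹ = x5 ∨ g * x5 * g⁻¹ = x5⁻¹))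

theorem card_Qd : Nat.card Qd = 10 := by
  rw [Nat.card_eq_fintype_card]
  decide +kernel

/-- subgroups of `C = A × B` -/
theorem exists_sub {L A B : Type*} [Group L] [Group A] [Group B] {C : Subgroup L} (e : C ≃* A × B) (Q : Subgroup B) :
    ∃ R : Subgroup L, Nat.card R = Nat.card A * Nat.card Q := by
  refine ⟨(((⊤ : Subgroup A).prod Q).map e.symm.toMonoidHom).map C.subtype, ?_⟩
  rw [Nat.card_congr (Subgroup.equivMapOfInjective _ _ C.subtype_injective).toEquiv.symm,
    Nat.card_congr (Subgroup.equivMapOfInjective _ _ e.symm.injective).toEquiv.symm,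
    Nat.card_congr (Subgroup.prodEquiv (⊤ : Subgroup A) Q).toEquiv, Nat.card_prod, Subgroup.card_top]

theorem isLocal {L : Type u} [Group L] (h : Spor.IsoJ1 L) : Local L := by
  obtain ⟨e⟩ := h
  exact Cfsg.Agent.OddCyclic.KZeroCongr.local_congr e.symm Cfsg.Agent.H413.JOneLocal.isLocal

theorem card {L : Type u} [Group L] (h : Spor.IsoJ1 L) : Nat.card L = 175560 := by
  obtain ⟨e⟩ := h
  rw [Nat.card_congr e.toEquiv]
  exact Cfsg.Agent.H413.JOneLocal.card_J1

/-- the elements of order 7, 11, 19 are self-centralizing -/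
theorem cent_big_le {L : Type u} [Group L] [Finite L] [IsSimpleGroup L] (h : Local L) (hc : Nat.card L = 175560) {x : L}
    (hx : Big (orderOf x)) : Nat.card (centralizer ({x} : Set L)) ∣ orderOf x := by
  have h1 := cent_big h hc hx
  have h2 : ∀ r : ℕ, Big r → r ≠ orderOf x → Nat.Coprime (Nat.card (centralizer ({x} : Set L))) r := by
    intro r hr hne
    have hrp : r.Prime := by rcases hr with rfl | rfl | rfl <;> norm_num
    rw [Nat.coprime_comm, hrp.coprime_iff_not_dvd]
    intro hd
    have : Fact r.Prime := ⟨hrp⟩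
    obtain ⟨y, hy⟩ := exists_prime_orderOf_dvd_card' (G := centralizer ({x} : Set L)) r hd
    refine big_false h hc hx (y := (y : L)) (by rw [Subgroup.orderOf_coe, hy]; exact hr)
      (by rw [Subgroup.orderOf_coe, hy]; exact hne.symm) ?_
    exact (mem_centralizer_singleton_iff.1 y.2).symm
  rcases hx with hx | hx | hx
  · have a := h2 11 (Or.inr (Or.inl rfl)) (by rw [hx]; norm_num)
    have b := h2 19 (Or.inr (Or.inr rfl)) (by rw [hx]; norm_num)
    rw [hx]
    exact (a.mul_right b).dvd_of_dvd_mul_right (h1.trans (by norm_num))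
  · have a := h2 7 (Or.inl rfl) (by rw [hx]; norm_num)
    have b := h2 19 (Or.inr (Or.inr rfl)) (by rw [hx]; norm_num)
    rw [hx]
    exact (a.mul_right b).dvd_of_dvd_mul_right (h1.trans (by norm_num))
  · have a := h2 7 (Or.inl rfl) (by rw [hx]; norm_num)
    have b := h2 11 (Or.inr (Or.inl rfl)) (by rw [hx]; norm_num)
    rw [hx]
    exact (a.mul_right b).dvd_of_dvd_mul_right (h1.trans (by norm_num))

theorem prime_cases {r : ℕ} (hr : r.Prime) (h : r ∣ 175560) : r = 2 ∨ r = 3 ∨ r = 5 ∨ Big r := by
  have h1 : r ∈ Nat.primeFactors 175560 := Nat.mem_primeFactors.2 ⟨hr, h, by norm_num⟩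
  have h2 : Nat.primeFactors 175560 ⊆ {2, 3, 5, 7, 11, 19} := by
    have e : 175560 = 2 ^ 3 * (3 * (5 * (7 * (11 * 19)))) := by norm_num
    rw [e, Nat.primeFactors_mul (by norm_num) (by norm_num), Nat.primeFactors_mul (by norm_num) (by norm_num),
      Nat.primeFactors_mul (by norm_num) (by norm_num), Nat.primeFactors_mul (by norm_num) (by norm_num),
      Nat.primeFactors_mul (by norm_num) (by norm_num), Nat.primeFactors_pow _ (by norm_num),
      Nat.Prime.primeFactors (by norm_num), Nat.Prime.primeFactors (by norm_num), Nat.Prime.primeFactors (by norm_num),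
      Nat.Prime.primeFactors (by norm_num), Nat.Prime.primeFactors (by norm_num), Nat.Prime.primeFactors (by norm_num)]
    decide
  have h3 := h2 h1
  simp only [Finset.mem_insert, Finset.mem_singleton] at h3
  rcases h3 with h3 | h3 | h3 | h3 | h3 | h3
  · exact Or.inl h3
  · exact Or.inr (Or.inl h3)
  · exact Or.inr (Or.inr (Or.inl h3))
  · exact Or.inr (Or.inr (Or.inr (Or.inl h3)))
  · exact Or.inr (Or.inr (Or.inr (Or.inr (Or.inl h3))))
  · exact Or.inr (Or.inr (Or.inr (Or.inr (Or.inr h3))))

theorem card_fixed_le {L : Type u} [Group L] [Finite L] (h : Spor.IsoJ1 L) {p : ℕ} {a : MulAut L} {b : L}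
    (S : Cfsg.Agent.H516.Sit p a b) : Nat.card (fixedSubgroup a) ≤ 19 := by
  have hs := S.good.simple
  have hl := isLocal h
  have hc := card h
  have hb : orderOf b ∣ 175560 := by rw [← hc]; exact _root_.orderOf_dvd_natCard b
  rcases prime_cases S.bprime hb with h1 | h1 | h1 | h1
  · exact absurd h1 S.b_ne_two
  · have h2 := S.card_dvd (j := 1) (m := 15) (by rw [hl.cent3 b h1]; norm_num)
    exact (Nat.le_of_dvd (by norm_num) h2).trans (by norm_num)
  · have h2 := S.card_dvd (j := 1) (m := 15) (by rw [hl.cent5 b h1]; norm_num)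
    exact (Nat.le_of_dvd (by norm_num) h2).trans (by norm_num)
  · have h2 := cent_big_le hl hc h1
    have h3 := S.card_dvd (j := 0) (m := orderOf b) (by rwa [pow_zero, one_mul])
    have h4 := Nat.le_of_dvd (orderOf_pos b) h3
    rcases h1 with h1 | h1 | h1 <;> omega

/-- **The row of `J1`.** -/
theorem row {L : Type u} [Group L] [Finite L] (h : Spor.IsoJ1 L) {p : ℕ} {a : MulAut L} {b : L}
    (S : Cfsg.Agent.H516.Sit p a b) : False := by
  have hF := card_fixed_le h S
  have hl := isLocal h
  obtain ⟨t, ht⟩ : ∃ t : L, orderOf t = 2 := by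
    have : Fact (Nat.Prime 2) := ⟨Nat.prime_two⟩
    exact exists_prime_orderOf_dvd_card' 2 (by rw [card h]; norm_num)
  obtain ⟨f⟩ := hl.cent t ht
  have h2 : Nat.card (Multiplicative (ZMod 2)) = 2 := by simp
  by_cases h3 : p = 3
  · obtain ⟨Q, hQ⟩ := exists_sub f Qd
    rw [h2, card_Qd] at hQ
    have h4 := S.card_le (Q := Q) (by rw [hQ, h3]; norm_num)
    omega
  · obtain ⟨Q, hQ⟩ := exists_sub f Qa
    rw [h2, card_Qa] at hQ
    have h4 := S.card_le (Q := Q) (by
      rw [hQ]
      intro h5
      rcases S.prime.dvd_mul.1 (show p ∣ 2 ^ 3 * 3 by norm_num; exact h5) with h6 | h6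
      · exact S.ne_two ((Nat.prime_dvd_prime_iff_eq S.prime Nat.prime_two).1 (S.prime.dvd_of_dvd_pow h6))
      · exact h3 ((Nat.prime_dvd_prime_iff_eq S.prime Nat.prime_three).1 h6))
    omega

end Cfsg.Agent.H686.Odd.J1
end
end

-- part: H19/Odd/He
section
prune_inst 0xb030070030a200000000001480001e2282000000000b00002000050204810c0100400e20baa00702110208240038004811100419421000002a000200413c0689002074c60200a10821000000e807180c00000000000000000000000000000000000400000
set_option linter.all false
open scoped Cfsg.Agent.FastGrp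

/-!
# S4095, S4096, S4094: the row `He`, `p` odd (helper19, task 567)
-/

set_option autoImplicit false
set_option linter.unusedSectionVars false

namespace Cfsg.Agent.H19.Odd.He

open Subgroup Cfsg Cfsg.Agent.H516
open Cfsg.Agent.SporadicB.HePerm (wd phi)
open Cfsg.Agent.SporadicB.HePerm
open Cfsg.Agent.FixBN.HeStab Cfsg.Agent.H19.Odd.HeCnt Cfsg.Agent.H19.Odd.HeEl

universe u

/-! ### Centralizers in the presented group -/

/-- the stabilizer of a point -/
noncomputable def St : Subgroup Cfsg.Spor.He := (fixer 0).comap phi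

theorem card_St : Nat.card ↥St = 1958400 := by
  rw [← H478.SporHe.card_stab, St, ← Subgroup.card_map_of_injective phi_injective, Subgroup.map_comap_eq]

section General

variable {G : Type u} [Group G] [Finite G]

theorem card_centralizer_equiv {H : Type*} [Group H] (e : G ≃* H) (y : G) :
    Nat.card ↥(centralizer ({y} : Set G)) = Nat.card ↥(centralizer ({e y} : Set H)) := by
  have h1 : (centralizer ({y} : Set G)).map e.toMonoidHom = centralizer ({e y} : Set H) := by
    ext c
    rw [Subgroup.mem_map, mem_centralizer_singleton_iff]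
    constructor
    · rintro ⟨d, hd, rfl⟩
      rw [mem_centralizer_singleton_iff] at hd
      show e d * e y = e y * e d
      rw [← map_mul, hd, map_mul]
    · intro hc
      refine ⟨e.symm c, ?_, e.apply_symm_apply c⟩
      rw [mem_centralizer_singleton_iff]
      apply e.injective
      rw [map_mul, map_mul, e.apply_symm_apply, hc]
  rw [← h1, Subgroup.card_map_of_injective e.injective]

/-- an element of order `r` of a subgroup of order divisible by `r` -/
theorem exists_order {r : ℕ} (hr : r.Prime) {H : Subgroup G} (h : r ∣ Nat.card H) : ∃ y ∈ H, orderOf y = r := by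
  have hf : Fact r.Prime := ⟨hr⟩
  obtain ⟨y, hy⟩ := exists_prime_orderOf_dvd_card' (G := H) r h
  exact ⟨y, y.2, by rw [Subgroup.orderOf_coe, hy]⟩

end General

theorem prime_cases {q : ℕ} (hq : q.Prime) (h : q ∣ 4030387200) : q = 2 ∨ q = 3 ∨ q = 5 ∨ q = 7 ∨ q = 17 := by
  have e : (4030387200 : ℕ) = 2 ^ 10 * (3 ^ 3 * (5 ^ 2 * (7 ^ 3 * 17))) := by norm_num
  rw [e] at h
  have key : ∀ {r n : ℕ}, r.Prime → q ∣ r ^ n → q = r := fun hr h =>
    (Nat.prime_dvd_prime_iff_eq hq hr).1 (hq.dvd_of_dvd_pow h)
  rcases (Nat.Prime.dvd_mul hq).1 h with h | h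
  · exact Or.inl (key Nat.prime_two h)
  rcases (Nat.Prime.dvd_mul hq).1 h with h | h
  · exact Or.inr (Or.inl (key Nat.prime_three h))
  rcases (Nat.Prime.dvd_mul hq).1 h with h | h
  · exact Or.inr (Or.inr (Or.inl (key (by norm_num) h)))
  rcases (Nat.Prime.dvd_mul hq).1 h with h | h
  · exact Or.inr (Or.inr (Or.inr (Or.inl (key (by norm_num) h))))
  · exact Or.inr (Or.inr (Or.inr (Or.inr ((Nat.prime_dvd_prime_iff_eq hq (by norm_num)).1 h))))

/-- **Row `He`** -/
theorem row {L : Type u} [Group L] [Finite L] (h : Spor.IsoHe L) {p : ℕ} {a : MulAut L} {b : L}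
    (S : Sit p a b) : False := by
  obtain ⟨e⟩ := h
  have hL : Nat.card L = 4030387200 := (Nat.card_congr e.toEquiv).trans card_he
  have h1024 : 1024 ≤ Nat.card (fixedSubgroup a) := S.two_pow_le (k := 10) (by rw [hL]; norm_num)
  have hFC := Subgroup.card_dvd_of_le S.le
  have hFle : Nat.card (fixedSubgroup a) ≤ Nat.card ↥(centralizer ({b} : Set L)) := Nat.le_of_dvd Nat.card_pos hFC
  have hCe := card_centralizer_equiv e b
  have ho : orderOf (e b) = orderOf b := MulEquiv.orderOf_eq e b
  -- no elements of order 35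
  have h35 : ∀ x y : L, orderOf x = 5 → orderOf y = 7 → ¬ Commute y x := by
    intro x y hx hy hc
    exact five (b := e x) (y := e y) (by rw [MulEquiv.orderOf_eq, hx]) (by rw [MulEquiv.orderOf_eq, hy]) (hc.map e)
  have hmem : ∀ y : L, y ∈ fixedSubgroup a → Commute y b := fun y hy =>
    mem_centralizer_singleton_iff.1 (S.le hy)
  rcases prime_cases S.bprime (by rw [← hL]; exact _root_.orderOf_dvd_natCard b) with hb | hb | hb | hb | hb
  · exact S.b_ne_two hb
  · -- order 3
    rcases three (ho.trans hb) with h3 | ⟨h3, h4⟩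
    · omega
    · have h5 : 8 * Nat.card (fixedSubgroup a) ∣ Nat.card ↥(centralizer ({b} : Set L)) := by
        refine Nat.Coprime.mul_dvd_of_dvd_of_dvd ?_ (by rw [hCe]; exact h3) hFC
        exact Nat.Coprime.pow_left 3 (Nat.coprime_two_left.2 S.odd)
      have h6 := Nat.le_of_dvd Nat.card_pos h5
      omega
  · -- order 5
    have h7 : ¬ 7 ∣ Nat.card (fixedSubgroup a) := by
      intro h
      obtain ⟨y, hy, hyo⟩ := exists_order (by norm_num) h
      exact h35 b y hb hyo (hmem y hy)
    have h17 : ¬ 17 ∣ Nat.card (fixedSubgroup a) := by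
      intro h
      obtain ⟨y, hy, hyo⟩ := exists_order (by norm_num) h
      have h1 := seventeen (b := e y) (by rw [MulEquiv.orderOf_eq, hyo])
      rw [← card_centralizer_equiv] at h1
      have h2 : orderOf y ∣ Nat.card ↥(centralizer ({y} : Set L)) := by
        rw [← Subgroup.orderOf_mk y (mem_centralizer_singleton_iff.2 rfl)]
        exact _root_.orderOf_dvd_natCard _
      have h3 : orderOf b ∣ Nat.card ↥(centralizer ({y} : Set L)) := by
        rw [← Subgroup.orderOf_mk b (mem_centralizer_singleton_iff.2 (hmem y hy).symm.eq)]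
        exact _root_.orderOf_dvd_natCard _
      rw [hyo] at h2
      rw [hb] at h3
      have h4 : 17 * 5 ∣ Nat.card ↥(centralizer ({y} : Set L)) :=
        Nat.Coprime.mul_dvd_of_dvd_of_dvd (by norm_num) h2 h3
      have h5 := Nat.le_of_dvd Nat.card_pos h4
      (clear * - h1 h5; omega)
    have h1 : Nat.card (fixedSubgroup a) ∣ 2 ^ 10 * (7 ^ 3 * (17 * 675)) := by
      have := Subgroup.card_subgroup_dvd_card (fixedSubgroup a)
      rw [hL] at this
      exact this.trans (by norm_num)
    have h2 := (Nat.Coprime.pow_right 10 (Nat.coprime_two_right.2 S.odd)).dvd_of_dvd_mul_left h1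
    have c7 : (Nat.card (fixedSubgroup a)).Coprime 7 := ((Nat.Prime.coprime_iff_not_dvd (by norm_num)).2 h7).symm
    have c17 : (Nat.card (fixedSubgroup a)).Coprime 17 := ((Nat.Prime.coprime_iff_not_dvd (by norm_num)).2 h17).symm
    have h3 := (c7.pow_right 3).dvd_of_dvd_mul_left h2
    have h4 := Nat.le_of_dvd (by norm_num) (c17.dvd_of_dvd_mul_left h3)
    omega
  · -- order 7
    have hN : Odd (Nat.card ↥(centralizer ({b} : Set L))) := by
      by_contra hev
      have h1 := CpAutHe.Seven.card_le (x := e b) (ho.trans hb) (by rw [← hCe]; exact hev)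
      rw [← hCe] at h1
      rw [Nat.not_odd_iff_even, even_iff_two_dvd] at hev
      have h5 : 2 * Nat.card (fixedSubgroup a) ∣ Nat.card ↥(centralizer ({b} : Set L)) :=
        Nat.Coprime.mul_dvd_of_dvd_of_dvd (Nat.coprime_two_left.2 S.odd) hev hFC
      have h6 := Nat.le_of_dvd Nat.card_pos h5
      omega
    rcases seven (b := e b) (ho.trans hb) with h2 | ⟨g, hg⟩
    · rw [← hCe, ← even_iff_two_dvd] at h2
      exact (Nat.not_even_iff_odd.2 hN) h2
    have hCC := Heis.card_cent_eq hg
    have hd := dvdC
    have hle := cardC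
    rw [← hCC, ← hCe] at hd hle
    -- the order of `C(b)`
    have h5 : ¬ 5 ∣ Nat.card ↥(centralizer ({b} : Set L)) := by
      intro h
      obtain ⟨y, hy, hyo⟩ := exists_order (by norm_num) h
      exact h35 y b hyo hb (show Commute b y from (mem_centralizer_singleton_iff.1 hy).symm)
    have hFN : Nat.card (fixedSubgroup a) = 1029 ∧ Nat.card ↥(centralizer ({b} : Set L)) = 1029 := by
      obtain ⟨m, hm⟩ := hd
      obtain ⟨k, hk⟩ := hFC
      have hm6 : m ≤ 6 := by omega
      have hk2 : k ≤ 2 := by
        by_contra hk3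
        have : 1024 * 3 ≤ Nat.card (fixedSubgroup a) * k := Nat.mul_le_mul h1024 (by omega)
        omega
      have hk1 : k = 1 := by
        interval_cases k
        · omega
        · rfl
        · exfalso
          rw [hk] at hN
          exact (Nat.not_even_iff_odd.2 hN) (by rw [mul_comm]; exact even_two_mul _)
      rw [hk1, mul_one] at hk
      rw [hm] at h5 hN
      interval_cases m
      · omega
      · omega
      · exact absurd hN (by decide)
      · omega
      · exact absurd hN (by decide)
      · exact absurd (by norm_num) h5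
      · exact absurd hN (by decide)
    have hFe : fixedSubgroup a = centralizer ({b} : Set L) :=
      Subgroup.eq_of_le_of_card_ge S.le (by rw [hFN.1, hFN.2])
    -- the involution inverting `b`
    obtain ⟨hT, hTi⟩ := invC
    obtain ⟨k, hk⟩ := mem_zpowers_iff.1 (show g * e b * g⁻¹ ∈ zpowers (wd XC) by rw [← hg]; exact mem_zpowers _)
    let T := wd T7c
    let s : L := e.symm (g⁻¹ * T * g)
    have hes : e s = g⁻¹ * T * g := e.apply_symm_apply _
    have hso : orderOf s = 2 := by
      rw [← MulEquiv.orderOf_eq e, hes, ← hT]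
      have : g⁻¹ * T * g = MulAut.conj g⁻¹ T := by rw [MulAut.conj_apply, inv_inv]
      rw [this, MulEquiv.orderOf_eq]
    have hsb : s * b * s⁻¹ = b⁻¹ := by
      apply e.injective
      rw [map_mul, map_mul, map_inv, map_inv, hes]
      have h1 : T * (g * e b * g⁻¹) * T⁻¹ = (g * e b * g⁻¹)⁻¹ := by
        rw [← hk, ← conj_zpow, hTi, inv_zpow]
      calc g⁻¹ * T * g * e b * (g⁻¹ * T * g)⁻¹ = g⁻¹ * (T * (g * e b * g⁻¹) * T⁻¹) * g := by group
        _ = g⁻¹ * (g * e b * g⁻¹)⁻¹ * g := by rw [h1]
        _ = (e b)⁻¹ := by group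
    have hsb' : s⁻¹ * b⁻¹ * s = b := by
      rw [← hsb]
      group
    have hab := S.fix_b
    set f : L := (a s)⁻¹ * s with hf
    have hfb : ∀ x : L, x ∈ fixedSubgroup a → f * x * f⁻¹ = x := by
      intro x hx
      have hxb : x * b = b * x := (hmem x hx).eq
      have h1 : s * x * s⁻¹ ∈ fixedSubgroup a := by
        rw [hFe, mem_centralizer_singleton_iff]
        have h2 : b = s * b⁻¹ * s⁻¹ := by
          calc b = (b⁻¹)⁻¹ := (inv_inv b).symm
            _ = (s * b * s⁻¹)⁻¹ := by rw [hsb]
            _ = s * b⁻¹ * s⁻¹ := by group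
        calc s * x * s⁻¹ * b = s * x * s⁻¹ * (s * b⁻¹ * s⁻¹) := by rw [← h2]
          _ = s * (x * b⁻¹) * s⁻¹ := by group
          _ = s * (b⁻¹ * x) * s⁻¹ := by rw [((show Commute x b from hxb).inv_right).eq]
          _ = (s * b⁻¹ * s⁻¹) * (s * x * s⁻¹) := by group
          _ = b * (s * x * s⁻¹) := by rw [← h2]
      have h1' : a (s * x * s⁻¹) = s * x * s⁻¹ := h1
      have hx' : a x = x := hx
      calc f * x * f⁻¹ = (a s)⁻¹ * (s * x * s⁻¹) * a s := by rw [hf]; group
        _ = (a s)⁻¹ * a (s * x * s⁻¹) * a s := by rw [h1']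
        _ = a x := by rw [map_mul, map_mul, map_inv]; group
        _ = x := hx'
    have hfF : f ∈ fixedSubgroup a := by
      rw [hFe, mem_centralizer_singleton_iff]
      have h1 := hfb b hab
      rwa [mul_inv_eq_iff_eq_mul] at h1
    have hf1 : f ≠ 1 := by
      intro h1
      rw [hf, inv_mul_eq_one] at h1
      have h2 : s ∈ fixedSubgroup a := h1
      have h3 : orderOf s ∣ Nat.card (fixedSubgroup a) := by
        rw [← Subgroup.orderOf_mk s h2]
        exact _root_.orderOf_dvd_natCard _
      rw [hso, ← even_iff_two_dvd] at h3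
      exact (Nat.not_even_iff_odd.2 S.odd) h3
    have hpf : p ∣ orderOf f := (S.bad s).resolve_left hf1
    have hp1029 : p ∣ 1029 := by
      rw [← hFN.1]
      refine hpf.trans ?_
      rw [← Subgroup.orderOf_mk f hfF]
      exact _root_.orderOf_dvd_natCard _
    -- an element of order `p` of the center
    obtain ⟨d, hd'⟩ := hpf
    have hd0 : d ≠ 0 := by
      rintro rfl
      rw [mul_zero] at hd'
      exact (orderOf_pos f).ne' hd'
    have hyo : orderOf (f ^ d) = p := by
      rw [orderOf_pow_of_dvd hd0 (by rw [hd']; exact dvd_mul_left _ _), hd', Nat.mul_div_cancel _ (Nat.pos_of_ne_zero hd0)]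
    have hFy : fixedSubgroup a ≤ centralizer ({f ^ d} : Set L) := by
      intro x hx
      rw [mem_centralizer_singleton_iff]
      have h1 : Commute f x := by
        have := hfb x hx
        rwa [mul_inv_eq_iff_eq_mul] at this
      exact (h1.pow_left d).symm.eq
    have hp37 : p = 3 ∨ p = 7 := by
      have e : (1029 : ℕ) = 3 * 7 ^ 3 := by norm_num
      rw [e] at hp1029
      rcases (Nat.Prime.dvd_mul S.prime).1 hp1029 with h | h
      · exact Or.inl ((Nat.prime_dvd_prime_iff_eq S.prime Nat.prime_three).1 h)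
      · exact Or.inr ((Nat.prime_dvd_prime_iff_eq S.prime (by norm_num)).1 (S.prime.dvd_of_dvd_pow h))
    rcases hp37 with hp | hp
    · rw [hp] at hyo
      have h1 := Subgroup.card_dvd_of_le hFy
      rw [hFN.1] at h1
      have h2 := Nat.le_of_dvd Nat.card_pos h1
      rcases three (b := e (f ^ d)) (by rw [MulEquiv.orderOf_eq, hyo]) with h3 | ⟨h3, h4⟩
      · rw [← card_centralizer_equiv] at h3
        omega
      · rw [← card_centralizer_equiv] at h3 h4
        have h5 : 8 * 1029 ∣ Nat.card ↥(centralizer ({f ^ d} : Set L)) :=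
          Nat.Coprime.mul_dvd_of_dvd_of_dvd (by norm_num) h3 h1
        have h6 := Nat.le_of_dvd Nat.card_pos h5
        (clear * - h1 h2 h3 h4; omega)
    · have h1 : Nat.card ↥(St.comap e.toMonoidHom) = 1958400 := by
        have h0 := Subgroup.card_map_of_injective (K := St.comap e.toMonoidHom) (f := e.toMonoidHom) e.injective
        rw [← h0, Subgroup.map_comap_eq_self_of_surjective e.surjective, card_St]
      have h2 := S.card_le (Q := St.comap e.toMonoidHom) (by rw [h1, hp]; norm_num)
      rw [h1, hFN.1] at h2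
      omega
  · -- order 17
    have h1 := seventeen (ho.trans hb)
    omega

end Cfsg.Agent.H19.Odd.He

private theorem dce_071dd6c79a94 : _root_.True := by
  try have : _root_.True := by simp only [_root_.Cfsg.Agent.H19.Odd.He.St.eq_1]
  exact _root_.True.intro
end

-- part: H265/SuzRow
section
prune_inst 0xb030450000a200000000001480000220000000000000000000000502080000000000000008800502100208800000000811100410420000000a000000002406090022140400340c08200000000007180c00000000000000000000000000000000000400000
set_option linter.all false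
open scoped Cfsg.Agent.FastGrp

/-!
# S4095, S4096, S4094, S3842: the row `Suz`, `p` odd (helper265, task 557)
-/

set_option autoImplicit false

namespace Cfsg.Agent.H265.SuzRow

open Subgroup Cfsg Cfsg.Agent.H516
open Cfsg.Spor (Suz)

universe u

variable {L : Type u} [Group L]

/-! ### General tools -/

theorem card_centralizer_equiv {A B : Type*} [Group A] [Group B] (e : A ≃* B) (s : A) :
    Nat.card (centralizer ({e s} : Set B)) = Nat.card (centralizer ({s} : Set A)) := by
  have h : (centralizer ({s} : Set A)).map e.toMonoidHom = centralizer ({e s} : Set B) := by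
    ext y
    constructor
    · rintro ⟨c, hc, rfl⟩
      refine mem_centralizer_singleton_iff.2 ?_
      show e c * e s = e s * e c
      rw [← map_mul, mem_centralizer_singleton_iff.1 hc, map_mul]
    · intro hy
      refine ⟨e.symm y, mem_centralizer_singleton_iff.2 ?_, ?_⟩
      · apply e.injective
        rw [map_mul, map_mul, MulEquiv.apply_symm_apply]
        exact mem_centralizer_singleton_iff.1 hy
      · exact e.apply_symm_apply y
  rw [← h]
  exact card_map_of_injective e.injective

/-- **`|C_L(x)|` is odd if `conj x` is a power `a ^ 2 ^ n`.** -/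
theorem odd_centralizer [Finite L] {p : ℕ} {a : MulAut L} {b : L} (S : Sit p a b) {x : L} {n : ℕ}
    (hx : a ^ 2 ^ n = MulAut.conj x) : Odd (Nat.card (centralizer ({x} : Set L))) := by
  by_contra hodd
  rw [Nat.not_odd_iff_even] at hodd
  have hax : a x = x := conj_mem_fixed_of_zpowers (a := a) (by rw [← hx]; exact pow_mem (mem_zpowers a) _) S.good.center
  have hm := H516.map_centralizer hax
  have h1 : (resAut a _ hm) ^ 2 ^ n = 1 := by
    ext s
    have h2 : ∀ k : ℕ, (((resAut a _ hm) ^ k) s : L) = (a ^ k) (s : L) := by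
      intro k
      induction k with
      | zero => rfl
      | succ k ih =>
        rw [pow_succ', pow_succ', MulAut.mul_apply, MulAut.mul_apply, resAut_apply, ih]
    show (((resAut a _ hm) ^ 2 ^ n) s : L) = s
    rw [h2, hx, MulAut.conj_apply, ← mem_centralizer_singleton_iff.1 s.2, mul_inv_cancel_right]
  have h2 := even_fixed hodd h1
  have h3 : Nat.card (fixedSubgroup (resAut a _ hm)) ∣ Nat.card (fixedSubgroup a) := by
    rw [← card_map_of_injective (centralizer ({x} : Set L)).subtype_injective (K := fixedSubgroup (resAut a _ hm))]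
    apply card_dvd_of_le
    rintro _ ⟨s, hs, rfl⟩
    exact congrArg Subtype.val hs
  exact (Nat.not_even_iff_odd.2 (S.odd.of_dvd_nat h3)) h2

/-! ### The facts on `Suz` -/

theorem card_of_iso (h : Spor.IsoSuz L) : Nat.card L = 448345497600 := by
  obtain ⟨e⟩ := h
  rw [Nat.card_congr e.toEquiv]
  exact SporadicRecognition.SuzOrder.card_Suz

/-- **elements of order at least 5** (the odd part of the centralizer is at most 2025) -/
theorem cent_big (h : Spor.IsoSuz L) {b : L} (hb : (orderOf b).Prime) (h2 : orderOf b ≠ 2) (h3 : orderOf b ≠ 3) :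
    ∃ m : ℕ, m ≠ 0 ∧ m ≤ 2025 ∧ Nat.card (centralizer ({b} : Set L)) ∣ 2 ^ 13 * m := by
  obtain ⟨e⟩ := h
  have ho : orderOf (e b) = orderOf b := MulEquiv.orderOf_eq e b
  obtain ⟨m, hm, hle, h⟩ := SuzCent.dvd_big (s := e b) (by rw [ho]; exact hb) (by rw [ho]; exact h2) (by rw [ho]; exact h3)
  exact ⟨m, hm, hle, by rw [← card_centralizer_equiv e]; exact h⟩

theorem cent_three (h : Spor.IsoSuz L) {b : L} (hb : orderOf b = 3) :
    Nat.card (centralizer ({b} : Set L)) ∣ 2 ^ 13 * 76545 := by
  obtain ⟨e⟩ := h
  rw [← card_centralizer_equiv e]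
  exact SuzCent.dvd_three (by rw [MulEquiv.orderOf_eq e b]; exact hb)

/-- the elements `x` with `x ^ 3 = 1` have centralizers of even order -/
theorem even_three (h : Spor.IsoSuz L) {x : L} (hx : x ^ 3 = 1) : Even (Nat.card (centralizer ({x} : Set L))) := by
  obtain ⟨e⟩ := h
  rw [← card_centralizer_equiv e]
  exact SuzCent.even_three (by rw [← map_pow, hx, map_one])

theorem exists_A [Finite L] (h : Spor.IsoSuz L) {F : Subgroup L} (hF : 3 ^ 7 ∣ Nat.card F) :
    ∃ A : Subgroup L, A ≤ F ∧ (∀ a ∈ A, a ^ 3 = 1) ∧ ∀ c : L, (∀ a ∈ A, c * a = a * c) → c ∈ A := by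
  obtain ⟨e⟩ := h
  obtain ⟨A, h1, h2, h3⟩ := SuzCent.exists_A (F := F.map e.toMonoidHom)
    (by rw [card_map_of_injective e.injective]; exact hF)
  refine ⟨A.comap e.toMonoidHom, ?_, ?_, ?_⟩
  · intro s hs
    obtain ⟨t, ht, hts⟩ := h1 hs
    rw [← e.injective hts]
    exact ht
  · intro s hs
    apply e.injective
    rw [map_pow, map_one]
    exact h2 _ hs
  · intro c hc
    apply h3
    intro t ht
    have h4 := hc (e.symm t) (by
      show e (e.symm t) ∈ A
      rw [MulEquiv.apply_symm_apply]; exact ht)
    have h5 := congrArg e h4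
    rw [map_mul, map_mul, MulEquiv.apply_symm_apply] at h5
    exact h5

/-- a subgroup of odd order of a normalizer of a Sylow 7-subgroup -/
theorem seven (h : Spor.IsoSuz L) [Finite L] {F : Subgroup L} (hodd : Odd (Nat.card F)) (h7 : 7 ∣ Nat.card F) :
    ∃ n k : ℕ, n * k = Nat.card F ∧ k ∣ 63 ∧ n % 7 = 1 := by
  have hF7 : Fact (Nat.Prime 7) := ⟨by norm_num⟩
  obtain ⟨V⟩ : Nonempty (Sylow 7 F) := inferInstance
  have hcL := card_of_iso h
  -- the Sylow subgroup of `L`
  have hV7 : 7 ∣ Nat.card (V : Subgroup F) := by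
    have : 7 ^ 1 ∣ Nat.card (V : Subgroup F) := V.pow_dvd_card_of_pow_dvd_card (by rwa [pow_one])
    rwa [pow_one] at this
  set W : Subgroup L := (V : Subgroup F).map F.subtype with hW
  have hWc : Nat.card W = Nat.card (V : Subgroup F) := card_map_of_injective F.subtype_injective
  have hWp : IsPGroup 7 W := V.2.map _
  obtain ⟨B, hB⟩ := hWp.exists_le_sylow
  have hBc : Nat.card (B : Subgroup L) = 7 := by
    rw [B.card_eq_multiplicity, hcL, show (448345497600 : ℕ) = 7 ^ 1 * 64049356800 by norm_num,
      Nat.factorization_mul (by norm_num) (by norm_num), Finsupp.add_apply,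
      Nat.Prime.factorization_pow (by norm_num), Finsupp.single_eq_same,
      Nat.factorization_eq_zero_of_not_dvd (by norm_num)]
    norm_num
  have hWB : W = B := by
    apply Subgroup.eq_of_le_of_card_ge hB
    rw [hBc, hWc]
    exact Nat.le_of_dvd Nat.card_pos hV7
  have hN := (H812.SuzSeven.main h B).2
  have hdvd : Nat.card (normalizer ((V : Subgroup F) : Set F)) ∣ 504 := by
    rw [← hN, ← card_map_of_injective F.subtype_injective (K := normalizer ((V : Subgroup F) : Set F))]
    apply card_dvd_of_le
    rintro _ ⟨s, hs, rfl⟩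
    rw [← hWB]
    have hs := mem_normalizer_iff.1 (SetLike.mem_coe.1 hs)
    refine mem_normalizer_iff.2 fun y => ?_
    constructor
    · rintro ⟨v, hv, rfl⟩
      exact ⟨_, (hs v).1 hv, rfl⟩
    · rintro ⟨v, hv, hvy⟩
      have h1 : F.subtype v = (s : L) * y * (s : L)⁻¹ := hvy
      have h2 : y = F.subtype (s⁻¹ * v * s) := by
        rw [map_mul, map_mul, h1, map_inv]
        show y = (s : L)⁻¹ * ((s : L) * y * (s : L)⁻¹) * (s : L)
        group
      refine ⟨s⁻¹ * v * s, (hs _).2 ?_, h2.symm⟩
      have h3 : s * (s⁻¹ * v * s) * s⁻¹ = v := by group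
      rw [h3]; exact hv
  refine ⟨Nat.card (Sylow 7 F), Nat.card (normalizer ((V : Subgroup F) : Set F)), ?_, ?_, card_sylow_modEq_one 7 F⟩
  · rw [V.card_eq_index_normalizer, mul_comm]
    exact card_mul_index _
  · have h1 : Odd (Nat.card (normalizer ((V : Subgroup F) : Set F))) := hodd.of_dvd_nat (card_subgroup_dvd_card _)
    have h2 : Nat.card (normalizer ((V : Subgroup F) : Set F)) ∣ 2 ^ 3 * 63 := hdvd
    exact (Nat.Coprime.pow_right 3 (Nat.coprime_two_right.2 h1)).dvd_of_dvd_mul_left h2

/-! ### The row -/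

theorem not_three_seven [Finite L] (h : Spor.IsoSuz L) {p : ℕ} {a : MulAut L} {b : L} (S : Sit p a b) :
    ¬ 3 ^ 7 ∣ Nat.card (fixedSubgroup a) := by
  intro h37
  obtain ⟨A, hA, hA3, hAc⟩ := exists_A h h37
  obtain ⟨n, m, hm, hn⟩ := Nat.exists_eq_pow_mul_and_not_dvd (orderOf_pos a).ne' 2 (by norm_num)
  have hmodd : Odd m := by rw [← Nat.not_even_iff_odd, even_iff_two_dvd]; exact hm
  have ho : orderOf (a ^ 2 ^ n) = m := by
    rw [orderOf_pow_of_dvd (pow_ne_zero _ (by norm_num)) (by rw [hn]; exact dvd_mul_right _ _), hn,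
      Nat.mul_div_cancel_left _ (pow_pos (by norm_num) _)]
  obtain ⟨x, hx⟩ := S.good.oi (a ^ 2 ^ n) (by rw [ho]; exact hmodd)
  have hxA : x ∈ A := by
    apply hAc
    intro s hs
    have h1 : zpowers a ≤ MulAction.stabilizer (MulAut L) s := by
      rw [zpowers_le]
      exact hA hs
    have h2 : MulAut.conj x s = s := by rw [← hx]; exact h1 (pow_mem (mem_zpowers a) _)
    rw [MulAut.conj_apply, mul_inv_eq_iff_eq_mul] at h2
    exact h2
  exact (Nat.not_even_iff_odd.2 (odd_centralizer S hx)) (even_three h (hA3 x hxA))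

/-- **The row `Suz`.** -/
theorem row {L : Type u} [Group L] [Finite L] (h : Spor.IsoSuz L) {p : ℕ} {a : MulAut L} {b : L}
    (S : Cfsg.Agent.H516.Sit p a b) : False := by
  have hcL := card_of_iso h
  have h213 : 2 ^ 13 ∣ Nat.card L := by rw [hcL]; norm_num
  by_cases h3 : orderOf b = 3
  · have hd := S.card_dvd (cent_three h h3)
    have hle := S.two_pow_le h213
    have h37 := not_three_seven h S
    have hodd := S.odd
    -- `|F|` divides `3 ^ 6 * 35`
    have hd6 : Nat.card (fixedSubgroup a) ∣ 3 ^ 6 * 35 :=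
      SuzCent.drop (q := 3) (k := 6) (e := 7) (A := 35) Nat.prime_three (hd.trans (by norm_num)) h37
    have hcases : Nat.card (fixedSubgroup a) = 25515 ∨ Nat.card (fixedSubgroup a) = 8505 := by
      obtain ⟨c, hc⟩ := hd6
      have hc3 : c ≤ 3 := by
        by_contra hlt
        have : 4 * Nat.card (fixedSubgroup a) ≤ Nat.card (fixedSubgroup a) * c := by nlinarith
        omega
      interval_cases c
      · omega
      · left; omega
      · omega
      · right; omega
    obtain ⟨n, k, hnk, hk, hn7⟩ := seven h hodd (by rcases hcases with h | h <;> rw [h] <;> norm_num)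
    have hk0 : k ≤ 63 := Nat.le_of_dvd (by norm_num) hk
    have hdiv : ∀ N : ℕ, n * k = N → N = 25515 ∨ N = 8505 → False := by
      intro N hN hNc
      interval_cases k <;> first | (revert hk; decide) | omega
    exact hdiv _ hnk hcases
  · obtain ⟨m, hm, hle, hd⟩ := cent_big h S.bprime S.b_ne_two h3
    exact S.false_of_dvd h213 hd hm (by omega)

end Cfsg.Agent.H265.SuzRow
end

-- part: H686/Odd/McL
section
set_option linter.all false
open scoped Cfsg.Agent.FastGrp

-- part: H686/Odd/SitOdd
section
/-!
# `Sit` : the centralizer of an element of odd order (helper686)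

`Sit.exists_odd` : there is an element `x ≠ 1` with a centralizer **of odd order** containing `C_L(a)`. So a sporadic group
in which the centralizers of odd order are smaller than `|L|₂` (or a `p'`-subgroup) satisfies the row: `Sit.false_of_odd`,
`Sit.false_of_odd'`.
-/

set_option autoImplicit false

namespace Cfsg.Agent.H686.Odd

open Subgroup Cfsg Cfsg.Agent.H516

universe u

variable {L : Type u} [Group L] [Finite L] {p : ℕ} {a : MulAut L} {b : L}

omit [Finite L] in
theorem res_pow (H : Subgroup L) (hH : H.map a.toMonoidHom = H) (k : ℕ) (s : H) :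
    (((resAut a H hH) ^ k) s : L) = (a ^ k) s := by
  induction k generalizing s with
  | zero => rfl
  | succ k ih =>
    rw [pow_succ, pow_succ, MulAut.mul_apply, MulAut.mul_apply, ih]
    rfl

/-- **The odd part of `a` is `conj x` with `|C(x)|` odd.** -/
theorem exists_odd (S : Sit p a b) :
    ∃ x : L, x ≠ 1 ∧ Odd (orderOf x) ∧ MulAut.conj x ∈ zpowers a ∧ Odd (Nat.card (centralizer ({x} : Set L))) ∧
      fixedSubgroup a ≤ centralizer ({x} : Set L) := by
  obtain ⟨n, m, hm, hn⟩ := Nat.exists_eq_pow_mul_and_not_dvd (orderOf_pos a).ne' 2 (by norm_num)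
  have hmodd : Odd m := by rw [← Nat.not_even_iff_odd, even_iff_two_dvd]; exact hm
  have ho : orderOf (a ^ 2 ^ n) = m := by
    rw [orderOf_pow_of_dvd (pow_ne_zero _ (by norm_num)) (by rw [hn]; exact dvd_mul_right _ _), hn,
      Nat.mul_div_cancel_left _ (pow_pos (by norm_num) _)]
  obtain ⟨x, hx⟩ := S.good.oi (a ^ 2 ^ n) (by rw [ho]; exact hmodd)
  have hxm : MulAut.conj x ∈ zpowers a := by rw [← hx]; exact pow_mem (mem_zpowers a) _
  have hxa : a x = x := conj_mem_fixed_of_zpowers hxm S.good.center
  have hox : orderOf x = m := by rw [← ho, hx, orderOf_injective _ (conj_injective S.good.center)]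
  refine ⟨x, ?_, by rw [hox]; exact hmodd, hxm, ?_, fixed_le_centralizer hxm⟩
  · rintro rfl
    rw [map_one] at hx
    exact (Nat.not_odd_iff_even.2 (even_fixed S.good.even hx)) S.odd
  · by_contra hodd
    rw [Nat.not_odd_iff_even] at hodd
    have hm := Cfsg.Agent.H516.map_centralizer hxa
    have h1 : (resAut a (centralizer ({x} : Set L)) hm) ^ 2 ^ n = 1 := by
      ext s
      rw [res_pow, hx, MulAut.conj_apply, MulAut.one_apply]
      have h2 := mem_centralizer_singleton_iff.1 s.2
      rw [← h2, mul_inv_cancel_right]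
    have h2 := even_fixed hodd h1
    have h3 : (fixedSubgroup (resAut a (centralizer ({x} : Set L)) hm)).map (centralizer ({x} : Set L)).subtype ≤
        fixedSubgroup a := by
      rintro _ ⟨s, hs, rfl⟩
      exact congrArg Subtype.val hs
    have h4 := Subgroup.card_dvd_of_le h3
    rw [Subgroup.card_map_of_injective (Subgroup.subtype_injective _)] at h4
    exact (Nat.not_even_iff_odd.2 (S.odd.of_dvd_nat h4)) h2

/-- **The criterion.** `|C(x)| < N` for the elements `x ≠ 1` with centralizers of odd order, `N = |Q|`, `Q` a `p'`-subgroup. -/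
theorem false_of_odd (S : Sit p a b) {Q : Subgroup L} (hQ : ¬ p ∣ Nat.card Q)
    (h : ∀ x : L, x ≠ 1 → Odd (Nat.card (centralizer ({x} : Set L))) →
      Nat.card (centralizer ({x} : Set L)) < Nat.card Q) : False := by
  obtain ⟨x, hx, -, -, hx2, hx3⟩ := exists_odd S
  have h1 := h x hx hx2
  have h2 := Subgroup.card_le_of_le hx3
  have h3 := S.card_le hQ
  omega

end Cfsg.Agent.H686.Odd
end

-- part: H686/Odd/McL
section
/-!
# S4096, S4094, S3842: the row of `McL`, `p` odd (helper686)

The centralizers of odd order of the nontrivial elements of `McL` have order less than 500 (`McLMain`); there are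
subgroups of order 1000 and 729.
-/

set_option autoImplicit false

namespace Cfsg.Agent.H686.Odd.McL

open Subgroup Cfsg Cfsg.Agent.McLType.X275

universe u

/-- **The row of `McL`.** -/
theorem row {L : Type u} [Group L] [Finite L] (h : Spor.IsoMcL L) {p : ℕ} {a : MulAut L} {b : L}
    (S : Cfsg.Agent.H516.Sit p a b) : False := by
  obtain ⟨e⟩ := h
  obtain ⟨e'⟩ := isoMcL_G1
  let f : G1 ≃* L := e'.trans e.symm
  have hodd : ∀ x : L, x ≠ 1 → Odd (Nat.card (centralizer ({x} : Set L))) →
      Nat.card (centralizer ({x} : Set L)) < 500 := by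
    intro x hx ho
    obtain ⟨y, rfl⟩ := f.surjective x
    rw [H343.card_centralizer_equiv f y] at ho ⊢
    exact odd_cent (fun h => hx (by rw [h, map_one])) ho
  by_cases h3 : p = 3
  · refine Cfsg.Agent.H686.Odd.false_of_odd S (Q := Q.map f.toMonoidHom) ?_ ?_
    · rw [Subgroup.card_map_of_injective f.injective, card_Q, h3]
      norm_num
    · intro x hx ho
      rw [Subgroup.card_map_of_injective f.injective, card_Q]
      exact (hodd x hx ho).trans (by norm_num)
  · have : Fact (Nat.Prime 3) := ⟨Nat.prime_three⟩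
    obtain ⟨Q, hQ⟩ := Sylow.exists_subgroup_card_pow_prime (G := L) 3 (n := 6) (by
      rw [← Nat.card_congr f.toEquiv, card_G1]
      norm_num)
    refine Cfsg.Agent.H686.Odd.false_of_odd S (Q := Q) ?_ ?_
    · rw [hQ]
      intro h
      exact h3 ((Nat.prime_dvd_prime_iff_eq S.prime Nat.prime_three).1 (S.prime.dvd_of_dvd_pow h))
    · intro x hx ho
      rw [hQ]
      exact (hodd x hx ho).trans (by norm_num)

end Cfsg.Agent.H686.Odd.McL
end
end

-- part: H19/Odd/Fi
section
set_option linter.all false
open scoped Cfsg.Agent.FastGrp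

/-!
# S4095, S4096, S4094: the rows `Fi22`, `Fi23`, `p` odd (helper19, task 560)

`Sit p a b` : `a` maps no involution to itself or to a commuting one; this is impossible for an automorphism of the graph of
the 3-transpositions (`Srg.main`).
-/

set_option autoImplicit false
set_option linter.unusedSectionVars false

namespace Cfsg.Agent.H19.Odd.Fi

open Subgroup Cfsg Cfsg.Agent.H516 Cfsg.Agent.Fischer480.Defs

universe u

section Gen

variable {L : Type u} [Group L] [Finite L] {p : ℕ} {a : MulAut L} {b : L}

/-- No involution commutes with its image. -/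
theorem not_commute (S : Sit p a b) {d : L} (hd : orderOf d = 2) : ¬ Commute (a d) d := by
  intro h
  have h1 : a d = d := by
    refine S.bad.fix_of_commute ?_ h S.prime.one_lt.ne'
    rw [hd]
    exact (Nat.coprime_primes Nat.prime_two S.prime).2 S.ne_two.symm
  have h2 : d ∈ fixedSubgroup a := h1
  have h3 : orderOf (⟨d, h2⟩ : fixedSubgroup a) ∣ Nat.card (fixedSubgroup a) := orderOf_dvd_natCard _
  rw [Subgroup.orderOf_mk, hd] at h3
  exact (Nat.not_even_iff_odd.2 S.odd) (even_iff_two_dvd.2 h3)

open scoped Classical in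
/-- **The graph argument.** -/
theorem false_of_srg (S : Sit p a b) {E : Set L} (hne : E.Nonempty) (h2 : ∀ d ∈ E, orderOf d = 2)
    (ha : ∀ d ∈ E, a d ∈ E) {k l m : ℕ} (hk : ∀ x ∈ E, (Loc E x).ncard = k)
    (hl : ∀ x ∈ E, ∀ y ∈ Loc E x, (Loc (Loc E x) y).ncard = l)
    (hm : ∀ x ∈ E, ∀ y ∈ E, ¬ Commute x y → (Com E x y).ncard = m)
    {r s : ℤ} (h3 : r + s = l - m) (h4 : r * s = m - k) (hrs : r ≠ s) (hdiv : ¬ r - s ∣ (k : ℤ) - s) : False := by
  have hfin : Fintype ↥E := Fintype.ofFinite _
  obtain ⟨d₀, hd₀⟩ := hne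
  have hne' : Nonempty ↥E := ⟨⟨d₀, hd₀⟩⟩
  let f : ↥E → ↥E := fun d => ⟨a d, ha _ d.2⟩
  have hf : Function.Injective f := fun x y h => Subtype.ext (a.injective (congrArg Subtype.val h))
  let σ : Equiv.Perm ↥E := Equiv.ofBijective f (Finite.injective_iff_bijective.1 hf)
  have hσ : ∀ d : ↥E, ((σ d : ↥E) : L) = a d := fun d => rfl
  let R : ↥E → ↥E → Prop := fun a b => (b : L) ≠ a ∧ Commute (a : L) b
  have cardset : ∀ (p : ↥E → Prop) [DecidablePred p] (S : Set L), (∀ z : L, z ∈ S ↔ ∃ h : z ∈ E, p ⟨z, h⟩) →
      (Finset.univ.filter fun z => p z).card = S.ncard := by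
    intro p _ S hS
    rw [← Set.ncard_coe_finset]
    have : S = Subtype.val '' (((Finset.univ.filter fun z => p z) : Finset ↥E) : Set ↥E) := by
      ext z
      rw [hS]
      constructor
      · rintro ⟨h, hp⟩
        exact ⟨⟨z, h⟩, by simpa using hp, rfl⟩
      · rintro ⟨⟨w, h⟩, hp, rfl⟩
        exact ⟨h, by simpa using hp⟩
    rw [this, Set.ncard_image_of_injective _ Subtype.val_injective]
  refine hdiv (Srg.main (V := ↥E) R (fun a b h => ⟨h.1.symm, h.2.symm⟩) (fun a h => h.1 rfl) (k := k) (l := l)
    (m := m) ?_ ?_ ?_ h3 h4 hrs σ ?_ ?_ ?_)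
  · intro x
    rw [← hk x.1 x.2]
    refine cardset _ _ ?_
    intro z
    constructor
    · rintro ⟨a1, a2, a3⟩
      exact ⟨a1, a2, a3⟩
    · rintro ⟨a1, a2, a3⟩
      exact ⟨a1, a2, a3⟩
  · rintro ⟨x, hx⟩ ⟨y, hy⟩ ⟨b1, b2⟩
    rw [← hl x hx y ⟨hy, b1, b2⟩]
    refine cardset _ _ ?_
    intro z
    constructor
    · rintro ⟨⟨a1, a2, a3⟩, a4, a5⟩
      exact ⟨a1, ⟨a2, a3⟩, Ne.symm a4, a5.symm⟩
    · rintro ⟨a1, ⟨a2, a3⟩, a4, a5⟩
      exact ⟨⟨a1, a2, a3⟩, Ne.symm a4, a5.symm⟩
  · rintro ⟨x, hx⟩ ⟨y, hy⟩ hxa hR
    have hxa' : ¬ Commute x y := by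
      intro h
      apply hR
      refine ⟨?_, h⟩
      intro h'
      exact hxa (Subtype.ext h'.symm)
    rw [← hm x hx y hy hxa']
    refine cardset _ _ ?_
    intro z
    constructor
    · rintro ⟨a1, a2, a3⟩
      refine ⟨a1, ⟨?_, a2⟩, ?_, a3.symm⟩
      · rintro rfl
        exact hxa' a3.symm
      · rintro rfl
        exact hxa' a2
    · rintro ⟨a1, ⟨a2, a3⟩, a4, a5⟩
      exact ⟨a1, a3, a5.symm⟩
  · rintro ⟨x, hx⟩ ⟨y, hy⟩
    show (a y ≠ a x ∧ Commute (a x) (a y)) ↔ (y ≠ x ∧ Commute x y)
    have e1 : (a y = a x) ↔ y = x := a.injective.eq_iff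
    have e2 : Commute (a x) (a y) ↔ Commute x y := by
      constructor
      · intro h
        have h4 := congrArg a.symm h.eq
        rw [map_mul, map_mul, MulEquiv.symm_apply_apply, MulEquiv.symm_apply_apply] at h4
        exact h4
      · intro h
        exact h.map a
    rw [Ne, e1, e2]
  · rintro ⟨x, hx⟩ h
    have h5 : a x = x := congrArg Subtype.val h
    refine not_commute S (h2 x hx) ?_
    rw [h5]
  · rintro ⟨x, hx⟩ ⟨-, b2⟩
    exact not_commute S (h2 x hx) b2.symm

end Gen

/-- **Row `Fi22`** -/
theorem fi22 {L : Type u} [Group L] [Finite L] (h : Spor.IsoFi22 L) {p : ℕ} {a : MulAut L} {b : L}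
    (S : Sit p a b) : False := by
  obtain ⟨e⟩ := h
  let E : Set L := {x | e x ∈ R01.Fi22Facts.T}
  have h6 : IsT6 E := Cfsg.Agent.Fischer480.Transport.isT6 (H816.Quasi.cIso_map e fun x => Iff.rfl) H830.Con22.isT6
  have kt := OddHalf.D8.Fi22.kTrans0
  have hne : E.Nonempty := by
    have : 0 < E.ncard := by rw [h6.1]; norm_num
    exact Set.nonempty_of_ncard_ne_zero this.ne'
  refine false_of_srg S (E := E) hne ?_ ?_ (k := 693) (l := 180) (m := 126)
    (fun x hx => (TSp.UCount.numbers_six (h6.2.1 x hx)).1)
    (fun x hx y hy => (TSp.UCount.numbers_six (h6.2.1 x hx)).2.1 y hy) h6.2.2 (r := 63) (s := -9) (by norm_num)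
    (by norm_num) (by norm_num) (by norm_num)
  · intro d hd
    have h1 := kt.sq _ hd
    have h2 := kt.ne1 _ hd
    rw [← MulEquiv.orderOf_eq e]
    exact orderOf_eq_prime (by rw [pow_two]; exact h1) h2
  · intro d hd
    have h1 := kt.aut ((e.symm.trans a).trans e) _ hd
    have h2 : ((e.symm.trans a).trans e) (e d) = e (a d) := by
      simp
    rw [h2] at h1
    exact h1

/-- **Row `Fi23`** -/
theorem fi23 {L : Type u} [Group L] [Finite L] (h : Spor.IsoFi23 L) {p : ℕ} {a : MulAut L} {b : L}
    (S : Sit p a b) : False := by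
  obtain ⟨e⟩ := h
  let E : Set L := {x | e x ∈ R08.FiTwentyThree.D}
  have h7 : IsT7 E := Cfsg.Agent.Fischer480.Transport.isT7 (H816.Quasi.cIso_map e fun x => Iff.rfl)
    (H816.Quasi.isT7_of H830.Con22.isT6)
  have hne : E.Nonempty := by
    have : 0 < E.ncard := by rw [h7.1]; norm_num
    exact Set.nonempty_of_ncard_ne_zero this.ne'
  refine false_of_srg S (E := E) hne ?_ ?_ (k := 3510) (l := 693) (m := 351)
    (fun x hx => (h7.2.1 x hx).1)
    (fun x hx y hy => (TSp.UCount.numbers_six ((h7.2.1 x hx).2.1 y hy)).1) h7.2.2 (r := 351) (s := -9) (by norm_num)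
    (by norm_num) (by norm_num) (by norm_num)
  · intro d hd
    rw [← MulEquiv.orderOf_eq e]
    have h1 : e d ∈ R08.FiTwentyThree.D := hd
    obtain ⟨g, hg⟩ := isConj_iff.1 (show IsConj Fischer.Fi23Z.z0 (e d) from h1)
    have h2 : orderOf (e d) = orderOf Fischer.Fi23Z.z0 := by
      rw [← hg]
      exact orderOf_injective (MulAut.conj g).toMonoidHom (MulAut.conj g).injective _
    rw [h2]
    refine orderOf_eq_prime ?_ ?_
    · rw [pow_two]
      exact KFacts.FiTTh.Cent.zz
    · intro h0
      have h3 := h7.1
      have h4 : E ⊆ {1} := by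
        intro x hx
        obtain ⟨g, hg⟩ := isConj_iff.1 (show IsConj Fischer.Fi23Z.z0 (e x) from hx)
        rw [h0, mul_one, mul_inv_cancel] at hg
        rw [Set.mem_singleton_iff]
        exact (MulEquiv.map_eq_one_iff e).1 hg.symm
      have h5 := Set.ncard_le_ncard h4
      rw [h3, Set.ncard_singleton] at h5
      omega
  · intro d hd
    obtain ⟨g, hg⟩ := KFacts.FiTTh.Has.inn ((e.symm.trans a).trans e)
    have h2 : ((e.symm.trans a).trans e) (e d) = e (a d) := by
      simp
    show e (a d) ∈ R08.FiTwentyThree.D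
    rw [← h2, hg, MulAut.conj_apply]
    exact R08.FiTwentyThree.conj_mem_D hd g

end Cfsg.Agent.H19.Odd.Fi
end
end
end
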